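import Cfsg.Agent.Lib.Helper47.SubnCl

set_option autoImplicit false
open Cfsg Subgroup
open scoped Pointwise commutatorElement

namespace Cfsg.Agent.Lib.Helper47

variable {G : Type*} [Group G] {p : ℕ}

/-- characteristic subgroups of `P` are normalized by `N_G(P)`. -/
theorem normalizer_le_normalizer_map_of_characteristic (P : Subgroup G) (C : Subgroup ↥P)
    [hC : C.Characteristic] :
    normalizer (P : Set G) ≤ normalizer ((C.map P.subtype : Subgroup G) : Set G) := by
  apply le_normalizer_of_cj_le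
  intro g hg
  rintro _ ⟨_, ⟨c, hc, rfl⟩, rfl⟩
  have h1 := (characteristic_iff_map_le.mp hC) (P.normalizerMonoidHom ⟨g, hg⟩)
  have h2 : (P.normalizerMonoidHom ⟨g, hg⟩) c ∈ C := h1 (mem_map_of_mem _ hc)
  refine ⟨_, h2, ?_⟩
  simp [MulAut.conj_apply]

/-- a finite group in which commutators and `p`-th powers lie in `N` has `Φ ≤ N`. -/
theorem frattini_le_of_elementary [Finite G] [hp : Fact p.Prime] {N : Subgroup G}
    (h1 : ∀ x y : G, ⁅x, y⁆ ∈ N) (h2 : ∀ x : G, x ^ p ∈ N) : frattini G ≤ N := by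
  intro x hx
  by_contra hxN
  obtain ⟨M, ⟨hNM, hxM⟩, hmax⟩ :=
    (Set.toFinite {M : Subgroup G | N ≤ M ∧ x ∉ M}).exists_maximal ⟨N, le_rfl, hxN⟩
  have hmax' : ∀ L : Subgroup G, M < L → x ∈ L := by
    intro L hL
    by_contra hxL
    exact absurd (hmax ⟨hNM.trans hL.le, hxL⟩ hL.le) (not_le_of_gt hL)
  have hMn : M.Normal := by
    constructor
    intro m hm g
    have : g * m * g⁻¹ = ⁅g, m⁆ * m := by rw [commutatorElement_def]; group
    rw [this]
    exact mul_mem (hNM (h1 _ _)) hm
  have hco : IsCoatom M := by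
    refine ⟨fun h => hxM (h ▸ mem_top x), fun L hL => ?_⟩
    rw [eq_top_iff]
    intro y _
    by_cases hy : y ∈ M
    · exact hL.le hy
    have h3 : M < M ⊔ zpowers y := by
      refine lt_of_le_of_ne le_sup_left (fun h => hy ?_)
      rw [h]
      exact mem_sup_right (mem_zpowers y)
    have h4 := hmax' _ h3
    obtain ⟨m, hm, _, ⟨k, rfl⟩, hxe⟩ := mem_sup_of_le_normalizer
      (N := M) (T := zpowers y) (by rw [normalizer_eq_top]; exact le_top) h4
    simp only at hxe
    have hk : ¬ (p : ℤ) ∣ k := by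
      rintro ⟨j, rfl⟩
      apply hxM
      rw [hxe, zpow_mul, zpow_natCast]
      exact mul_mem hm (zpow_mem (hNM (h2 y)) j)
    obtain ⟨a, b, hab⟩ := ((Nat.prime_iff_prime_int.mp hp.out).coprime_iff_not_dvd).mpr hk
    have hyk : y ^ k ∈ L := by
      have : y ^ k = m⁻¹ * x := by rw [hxe]; group
      rw [this]
      exact mul_mem (inv_mem (hL.le hm)) (hmax' L hL)
    have : y = (y ^ p) ^ a * (y ^ k) ^ b := by
      rw [← zpow_natCast, ← zpow_mul, ← zpow_mul, ← zpow_add, mul_comm (p : ℤ) a, mul_comm k b, hab,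
        zpow_one]
    rw [this]
    exact mul_mem (zpow_mem (hL.le (hNM (h2 y))) a) (zpow_mem hyk b)
  exact hxM (frattini_le_coatom hco hx)

abbrev frattiniOf (P : Subgroup G) : Subgroup G := (frattini ↥P).map P.subtype

theorem frattiniOf_le (P : Subgroup G) : frattiniOf P ≤ P := map_subtype_le _

theorem normalizer_le_normalizer_frattiniOf (P : Subgroup G) :
    normalizer (P : Set G) ≤ normalizer (frattiniOf P : Set G) :=
  normalizer_le_normalizer_map_of_characteristic P _

theorem frattiniOf_le_of_elementary [Finite G] [hp : Fact p.Prime] {P N : Subgroup G}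
    (h1 : ⁅P, P⁆ ≤ N) (h2 : ∀ x ∈ P, x ^ p ∈ N) : frattiniOf P ≤ N := by
  rw [frattiniOf, map_le_iff_le_comap]
  apply frattini_le_of_elementary (p := p)
  · intro x y
    exact h1 (commutator_mem_commutator x.2 y.2)
  · intro x
    exact h2 x x.2

end Cfsg.Agent.Lib.Helper47
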