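import Cfsg.Agent.Lib.Helper47.Large

set_option autoImplicit false
open Cfsg Subgroup
open scoped Pointwise commutatorElement

namespace Cfsg.Agent.Lib.Helper47

variable {G : Type*} [Group G] {p : ℕ}

theorem cj_le_weakClosure {Q L : Subgroup G} {g : G} (hg : cj g Q ≤ L) :
    cj g Q ≤ weakClosure Q L :=
  le_iSup (fun g : {g : G // cj g Q ≤ L} => cj (g : G) Q) ⟨g, hg⟩

theorem le_weakClosure {Q L : Subgroup G} (h : Q ≤ L) : Q ≤ weakClosure Q L := by
  have := cj_le_weakClosure (Q := Q) (L := L) (g := 1) (by rw [cj_one]; exact h)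
  rwa [cj_one] at this

theorem weakClosure_le {Q L K : Subgroup G} (h : ∀ g : G, cj g Q ≤ L → cj g Q ≤ K) :
    weakClosure Q L ≤ K := iSup_le (fun g => h g g.2)

theorem weakClosure_le_self (Q L : Subgroup G) : weakClosure Q L ≤ L :=
  weakClosure_le (fun _ h => h)

theorem weakClosure_mono {Q L L' : Subgroup G} (h : L ≤ L') :
    weakClosure Q L ≤ weakClosure Q L' :=
  weakClosure_le (fun _ hg => cj_le_weakClosure (hg.trans h))

theorem cj_weakClosure (x : G) (Q L : Subgroup G) :
    cj x (weakClosure Q L) = weakClosure Q (cj x L) := by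
  apply le_antisymm
  · unfold weakClosure
    rw [cj_iSup]
    apply iSup_le
    intro g
    rw [← cj_mul]
    apply cj_le_weakClosure
    rw [cj_mul]
    exact cj_mono g.2
  · apply weakClosure_le
    intro g hg
    rw [le_cj_iff, ← cj_mul]
    apply cj_le_weakClosure
    rw [cj_mul, ← le_cj_iff]
    exact hg

theorem normalizer_le_normalizer_weakClosure (Q L : Subgroup G) :
    normalizer (L : Set G) ≤ normalizer (weakClosure Q L : Set G) := by
  intro g hg
  apply mem_normalizer_of_cj_eq
  rw [cj_weakClosure, cj_eq_self_of_mem_normalizer hg]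

end Cfsg.Agent.Lib.Helper47
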