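import Cfsg.Agent.Lib.Helper47.PIrr
import Cfsg.Agent.S2845

set_option autoImplicit false
open Cfsg Subgroup
open scoped Pointwise commutatorElement

namespace Cfsg.Agent.Lib.Helper47

variable {G : Type*} [Group G] {p : ℕ}

/-- Three subgroups lemma modulo a subgroup normalized by all three. -/
theorem three_subgroups_mod {A B C M : Subgroup G} (hA : A ≤ normalizer (M : Set G))
    (hB : B ≤ normalizer (M : Set G)) (hC : C ≤ normalizer (M : Set G))
    (h1 : ⁅⁅B, C⁆, A⁆ ≤ M) (h2 : ⁅⁅C, A⁆, B⁆ ≤ M) : ⁅⁅A, B⁆, C⁆ ≤ M := by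
  rw [commutator_comm, commutator_def A B]
  apply commutator_closure_le
  rintro _ ⟨x, hx, y, hy, rfl⟩
  refine ⟨?_, fun z hz => ?_⟩
  · rw [commutatorElement_def]
    exact mul_mem (mul_mem (mul_mem (hA hx) (hB hy)) (inv_mem (hA hx))) (inv_mem (hB hy))
  · have e : ⁅z, ⁅x, y⁆⁆ = x * z * ⁅y, ⁅z⁻¹, x⁻¹⁆⁆⁻¹ * z⁻¹ * y * ⁅x⁻¹, ⁅y⁻¹, z⁆⁆⁻¹ * y⁻¹ * x⁻¹ := by
      simp only [commutatorElement_def]; group
    have m1 : ⁅y, ⁅z⁻¹, x⁻¹⁆⁆⁻¹ ∈ M := by
      rw [commutatorElement_inv]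
      exact h2 (commutator_mem_commutator
        (commutator_mem_commutator (inv_mem hz) (inv_mem hx)) hy)
    have m2 : ⁅x⁻¹, ⁅y⁻¹, z⁆⁆⁻¹ ∈ M := by
      rw [commutatorElement_inv]
      exact h1 (commutator_mem_commutator
        (commutator_mem_commutator (inv_mem hy) hz) (inv_mem hx))
    have n1 : (x * z) * ⁅y, ⁅z⁻¹, x⁻¹⁆⁆⁻¹ * (x * z)⁻¹ ∈ M :=
      (mem_normalizer_iff.mp (mul_mem (hA hx) (hC hz)) _).mp m1
    have n2 : (x * y) * ⁅x⁻¹, ⁅y⁻¹, z⁆⁆⁻¹ * (x * y)⁻¹ ∈ M :=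
      (mem_normalizer_iff.mp (mul_mem (hA hx) (hB hy)) _).mp m2
    have e2 : x * z * ⁅y, ⁅z⁻¹, x⁻¹⁆⁆⁻¹ * z⁻¹ * y * ⁅x⁻¹, ⁅y⁻¹, z⁆⁆⁻¹ * y⁻¹ * x⁻¹ =
        ((x * z) * ⁅y, ⁅z⁻¹, x⁻¹⁆⁆⁻¹ * (x * z)⁻¹) * ((x * y) * ⁅x⁻¹, ⁅y⁻¹, z⁆⁆⁻¹ * (x * y)⁻¹) := by
      group
    rw [e, e2]
    exact mul_mem n1 n2

/-- the lower central series of a subgroup, inside the ambient group -/
abbrev lcs (A : Subgroup G) : ℕ → Subgroup G := A.lowerCentralSeries

theorem lcs_zero (A : Subgroup G) : lcs A 0 = A := rfl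
theorem lcs_succ (A : Subgroup G) (k : ℕ) : lcs A (k + 1) = ⁅lcs A k, A⁆ := rfl

theorem normalizer_le_normalizer_lcs (A : Subgroup G) (k : ℕ) :
    normalizer (A : Set G) ≤ normalizer (lcs A k : Set G) := by
  induction k with
  | zero => exact le_rfl
  | succ k ih => exact le_normalizer_commutator ih le_rfl

theorem lcs_le (A : Subgroup G) (k : ℕ) : lcs A k ≤ A :=
  A.lowerCentralSeries_antitone (Nat.zero_le k)

theorem exists_lcs_eq_bot [Finite G] [Fact p.Prime] {A : Subgroup G} (hA : IsPGroup p A) :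
    ∃ n, lcs A n = ⊥ :=
  (Subgroup.isNilpotent_iff_lowerCentralSeries A).mp hA.isNilpotent

theorem commutator_lcs_one_le (A : Subgroup G) (k : ℕ) :
    ⁅⁅A, A⁆, lcs A k⁆ ≤ lcs A (k + 2) := by
  have hn : ∀ j, A ≤ normalizer (lcs A j : Set G) := fun j =>
    Subgroup.le_normalizer.trans (normalizer_le_normalizer_lcs A j)
  apply three_subgroups_mod (hn _) (hn _) ((lcs_le A k).trans (hn _))
  · rw [commutator_comm A (lcs A k)]; exact le_rfl
  · exact le_rfl

theorem commutator_lcs_le {A X : Subgroup G} (hX : X ≤ normalizer (A : Set G))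
    (h : ⁅A, X⁆ ≤ ⁅A, A⁆) (k : ℕ) : ⁅lcs A k, X⁆ ≤ lcs A (k + 1) := by
  have hn : ∀ j, A ≤ normalizer (lcs A j : Set G) := fun j =>
    Subgroup.le_normalizer.trans (normalizer_le_normalizer_lcs A j)
  have hnX : ∀ j, X ≤ normalizer (lcs A j : Set G) := fun j =>
    hX.trans (normalizer_le_normalizer_lcs A j)
  induction k with
  | zero => exact h
  | succ k ih =>
    rw [lcs_succ A k]
    apply three_subgroups_mod ((lcs_le A k).trans (hn _)) (hn _) (hnX _)
    · exact (commutator_mono h le_rfl).trans (commutator_lcs_one_le A k)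
    · rw [commutator_comm X]
      exact commutator_mono ih le_rfl

/-- a `p'`-element acting trivially on `A/A'` centralizes the `p`-group `A`. -/
theorem centralizes_of_commutator_le_commutator [Finite G] [Fact p.Prime] {A X : Subgroup G}
    (hA : IsPGroup p A) (hX : X ≤ normalizer (A : Set G)) (h : ⁅A, X⁆ ≤ ⁅A, A⁆) {a : G}
    (ha : a ∈ X) (hc : (orderOf a).Coprime p) : a ∈ centralizer (A : Set G) := by
  obtain ⟨n, hn⟩ := exists_lcs_eq_bot hA
  have key : ∀ j, j ≤ n → ∀ x ∈ lcs A (n - j), Commute x a := by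
    intro j
    induction j with
    | zero =>
      intro _ x hx
      rw [Nat.sub_zero, hn, mem_bot] at hx
      rw [hx]; exact Commute.one_left a
    | succ j ih =>
      intro hj
      have e : n - j = (n - (j + 1)) + 1 := by omega
      apply centralizes_of_step hc (B := lcs A (n - j)) (hA.to_le (lcs_le A _))
      · intro x hx
        rw [e]
        exact commutator_lcs_le hX h _ (commutator_mem_commutator hx ha)
      · exact ih (by omega)
  have := key n le_rfl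
  rw [Nat.sub_self, lcs_zero] at this
  exact mem_centralizer_iff_commute.mpr this

theorem pResOf_le_centralizer_of_commutator_le [Finite G] [Fact p.Prime] {A X : Subgroup G}
    (hA : IsPGroup p A) (hX : X ≤ normalizer (A : Set G)) (h : ⁅A, X⁆ ≤ ⁅A, A⁆) :
    pResOf p X ≤ centralizer (A : Set G) := by
  rw [pResOf_eq_closure, closure_le]
  rintro a ⟨ha, hc⟩
  exact centralizes_of_commutator_le_commutator hA hX h ha hc

theorem le_normalizer_of_commutator_le {W T : Subgroup G} (h : ⁅W, T⁆ ≤ T) :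
    W ≤ normalizer (T : Set G) := by
  apply le_normalizer_of_cj_le
  rintro w hw _ ⟨t, ht, rfl⟩
  have e : (MulAut.conj w).toMonoidHom t = ⁅w, t⁆ * t := by
    simp only [MulEquiv.coe_toMonoidHom, MulAut.conj_apply, commutatorElement_def]; group
  rw [e]
  exact mul_mem (h (commutator_mem_commutator hw ht)) ht

theorem commutator_le_right_of_le_normalizer {W T : Subgroup G} (h : W ≤ normalizer (T : Set G)) :
    ⁅W, T⁆ ≤ T := by
  rw [commutator_le]
  intro w hw t ht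
  have e : ⁅w, t⁆ = (w * t * w⁻¹) * t⁻¹ := by rw [commutatorElement_def]
  rw [e]
  exact mul_mem (conj_mem_of_mem_normalizer (h hw) ht) (inv_mem ht)

theorem commutator_le_left_of_le_normalizer {W T : Subgroup G} (h : T ≤ normalizer (W : Set G)) :
    ⁅W, T⁆ ≤ W := by
  rw [commutator_comm]; exact commutator_le_right_of_le_normalizer h

/-- commutators with a normal closure -/
theorem commutator_ncl_le {V Y L U : Subgroup G} (hV : L ≤ normalizer (V : Set G))
    (hU : L ≤ normalizer (U : Set G)) (hYL : Y ≤ L) (h : ⁅V, Y⁆ ≤ U) : ⁅V, ncl Y L⁆ ≤ U := by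
  unfold ncl
  apply commutator_iSup_le
  · intro l
    have h1 := cj_mono (g := (l : G)) h
    rwa [cj_commutator, cj_eq_self_of_mem_normalizer (hV l.2),
      cj_eq_self_of_mem_normalizer (hU l.2)] at h1
  · intro l
    have : cj (l : G) Y ≤ L := by
      have := cj_mono (g := (l : G)) hYL
      rwa [cj_eq_self_of_mem_normalizer (Subgroup.le_normalizer l.2)] at this
    exact this.trans hU

section Finite
variable [Finite G] [hp : Fact p.Prime]

/-- If `O^p(⟨Y^L⟩)` normalizes a `p`-group containing `Y`, then `Y ≤ O_p(L)`. -/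
theorem le_pCoreOf_of_pResOf_ncl_le {Y L R : Subgroup G} (hYL : Y ≤ L) (hR : IsPGroup p R)
    (hYR : Y ≤ R) (hW : pResOf p (ncl Y L) ≤ normalizer (R : Set G)) : Y ≤ pCoreOf p L := by
  set Ys := ncl Y L with hYs
  set W := pResOf p Ys with hWdef
  have hYp : IsPGroup p Y := hR.to_le hYR
  have hLYs : L ≤ normalizer (Ys : Set G) := le_normalizer_ncl Y L
  have hYsL : Ys ≤ L := ncl_le_self hYL
  have hLW : L ≤ normalizer (W : Set G) := hLYs.trans (normalizer_le_normalizer_pResOf Ys)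
  set P := pCoreOf p W with hP
  have hLP : L ≤ normalizer (P : Set G) := hLW.trans (normalizer_le_normalizer_pCoreOf W)
  have hWYs : W ≤ Ys := pResOf_le Ys
  have h1 : ⁅W, Y⁆ ≤ P := by
    have h2 : ⁅W, Y⁆ ≤ W ⊓ R :=
      le_inf (commutator_le_left_of_le_normalizer (hYL.trans hLW))
        ((commutator_mono le_rfl hYR).trans (commutator_le_right_of_le_normalizer hW))
    refine h2.trans (le_pCoreOf inf_le_left ?_ hR.to_inf_right)
    exact le_normalizer_inf Subgroup.le_normalizer hW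
  have h2 : ⁅W, Ys⁆ ≤ P := commutator_ncl_le hLW hLP hYL h1
  obtain ⟨T, hT⟩ := exists_isSylowIn p Ys
  have h3 : W ⊔ T = Ys := hT.pResOf_sup
  have hPT : P ≤ T := by
    refine le_trans ?_ (pCoreOf_le_of_isSylowIn hT)
    exact le_pCoreOf ((pCoreOf_le W).trans hWYs) (hYsL.trans hLP) (pCoreOf_isPGroup W)
  have hWT : W ≤ normalizer (T : Set G) :=
    le_normalizer_of_commutator_le (((commutator_mono le_rfl hT.le).trans h2).trans hPT)
  have hYsT : Ys ≤ normalizer (T : Set G) := by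
    rw [← h3]; exact sup_le hWT Subgroup.le_normalizer
  have h4 : Ys ≤ T := by
    apply ncl_le
    intro l hl
    exact hT.le_of_normal hYsT (IsPGroup_cj hYp l) (cj_le_ncl hl)
  exact (le_ncl Y L).trans (le_pCoreOf hYsL hLYs (hT.isPGroup.to_le h4))

/-- members of `𝓛_G` from a large subgroup -/
theorem inL_of_isLarge {Q : Subgroup G} (hQp : IsPGroup p Q) (hQ1 : Q ≠ ⊥) (hQ : IsLarge Q)
    (S : Sylow p G) {R : Subgroup G} (hSR : (S : Subgroup G) ≤ R) (hR : pCoreOf p R ≠ ⊥) :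
    InL p R := by
  refine ⟨hR, ?_⟩
  apply (Cfsg.Agent.S2845.result Q hQp hQ1 hQ).2.1 R ⟨S, hSR⟩
  rwa [ne_eq, pCore_eq_bot_iff_pCoreOf]

omit hp in
theorem exists_maxCharP_ge {X : Subgroup G} (hX : InL p X) :
    ∃ Z ∈ maxCharPSubgroups p G, X ≤ Z := by
  obtain ⟨Z, hXZ, hZ⟩ := (Set.toFinite {L : Subgroup G | InL p L}).exists_le_maximal hX
  refine ⟨Z, ⟨mem_charPSubgroups_iff.mpr hZ.prop, ?_⟩, hXZ⟩
  intro L hL hZL
  exact le_antisymm (hZ.le_of_ge (mem_charPSubgroups_iff.mp hL) hZL) hZL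

theorem IsInFrakM.le_dag {M X : Subgroup G} (hM : IsInFrakM p M) (hX : InL p X) (hMX : M ≤ X) :
    X ≤ dag p M := by
  obtain ⟨Z, hZ, hXZ⟩ := exists_maxCharP_ge hX
  exact hXZ.trans (hM.2.2.1 Z hZ (hMX.trans hXZ)).le

/-- `N_G(I) ≤ M†` for a nontrivial `p`-subgroup `I` normalized by `M`. -/
theorem IsInFrakM.normalizer_le_dag {Q : Subgroup G} (hQp : IsPGroup p Q) (hQ1 : Q ≠ ⊥)
    (hQ : IsLarge Q) (S : Sylow p G) {M I : Subgroup G} (hSM : (S : Subgroup G) ≤ M)
    (hM : IsInFrakM p M) (hI1 : I ≠ ⊥) (hIp : IsPGroup p I) (hMI : M ≤ normalizer (I : Set G)) :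
    normalizer (I : Set G) ≤ dag p M := by
  apply IsInFrakM.le_dag hM _ hMI
  apply inL_of_isLarge hQp hQ1 hQ S (hSM.trans hMI)
  intro h
  apply hI1
  rw [← le_bot_iff, ← h]
  exact le_pCoreOf Subgroup.le_normalizer le_rfl hIp

end Finite

end Cfsg.Agent.Lib.Helper47
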