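import Cfsg.Agent.Lib.Helper47.WC3

set_option autoImplicit false
set_option linter.unusedSectionVars false
open Cfsg Subgroup
open scoped Pointwise commutatorElement

namespace Cfsg.Agent.Lib.Helper47

variable {G : Type*} [Group G] {p : ℕ}

/-- the standing hypotheses of the local structure theorem lemmas. -/
structure Std (p : ℕ) (S : Sylow p G) (Q M : Subgroup G) : Prop where
  hQp : IsPGroup p Q
  hQ1 : Q ≠ ⊥
  hQS : Q ≤ (S : Subgroup G)
  hQ : IsLarge Q
  hSM : (S : Subgroup G) ≤ M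
  hM : IsInFrakM p M

/-- mutually normalizing conjugates of an asymmetric subgroup commute -/
theorem commute_of_asymmetric {Y : Subgroup G} (hasym : ¬ IsSymmetricIn Y) {s t : G}
    (h1 : cj s Y ≤ normalizer ((cj t Y : Subgroup G) : Set G))
    (h2 : cj t Y ≤ normalizer ((cj s Y : Subgroup G) : Set G)) :
    cj s Y ≤ centralizer ((cj t Y : Subgroup G) : Set G) := by
  have h3 : ⁅Y, cj (s⁻¹ * t) Y⁆ = ⊥ := by
    by_contra hne
    apply hasym
    refine ⟨s⁻¹ * t, hne, le_inf ?_ ?_⟩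
    · apply le_normalizer_iff_commutator_le_left.mp
      have := cj_mono (g := s⁻¹) h2
      rwa [cj_normalizer, cj_inv_cj, ← cj_mul] at this
    · apply le_normalizer_iff_commutator_le_right.mp
      have := cj_mono (g := s⁻¹) h1
      rwa [cj_normalizer, cj_inv_cj, ← cj_mul] at this
  have h4 := commutator_eq_bot_iff_le_centralizer.mp h3
  have h5 := cj_mono (g := s) h4
  rwa [cj_centralizer, ← cj_mul, mul_inv_cancel_left] at h5

section Finite
variable [Finite G] [hp : Fact p.Prime]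

namespace Std

variable {S : Sylow p G} {Q M : Subgroup G}

theorem isPRedIn (_h : Std p S Q M) : IsPRedIn p (largestPReducedOf p M) M := isPRedIn_largest M

theorem inL (h : Std p S Q M) : InL p M := mem_charPSubgroups_iff.mp h.hM.1

theorem P_ne_bot (h : Std p S Q M) : pCoreOf p M ≠ ⊥ := h.inL.1

theorem Y_ne_bot (h : Std p S Q M) : largestPReducedOf p M ≠ ⊥ :=
  h.inL.largest_ne_bot (isSylowIn_of_sylow S h.hSM)

theorem Y_le_P (_h : Std p S Q M) : largestPReducedOf p M ≤ pCoreOf p M :=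
  (isPRedIn_largest M).le_pCoreOf

theorem P_le_C (_h : Std p S Q M) :
    pCoreOf p M ≤ centralizer (largestPReducedOf p M : Set G) :=
  (isPRedIn_largest M).pCoreOf_le_centralizer

theorem le_normalizer_Y (_h : Std p S Q M) : M ≤ normalizer (largestPReducedOf p M : Set G) :=
  (isPRedIn_largest M).le_normalizer

/-- `p`-subgroups of `C_M(Y_M)` lie in `O_p(M)`. -/
theorem le_P_of (h : Std p S Q M) {X : Subgroup G} (hXM : X ≤ M) (hX : IsPGroup p X)
    (hXC : X ≤ centralizer (largestPReducedOf p M : Set G)) : X ≤ pCoreOf p M := by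
  have h1 := IsPClosed.le_pCoreOf h.hM.2.2.2.2.1 hX (le_inf hXM hXC)
  refine h1.trans (pCoreOf_le_pCoreOf_of_normal inf_le_left ?_)
  exact le_normalizer_inf Subgroup.le_normalizer
    (h.le_normalizer_Y.trans (normalizer_le_normalizer_centralizer _))

theorem S_inf_C (h : Std p S Q M) :
    (S : Subgroup G) ⊓ centralizer (largestPReducedOf p M : Set G) = pCoreOf p M :=
  le_antisymm (h.le_P_of (inf_le_left.trans h.hSM) S.2.to_inf_left inf_le_right)
    (le_inf (pCoreOf_le_of_isSylowIn (isSylowIn_of_sylow S h.hSM)) h.P_le_C)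

/-- `O_p(M)` is a Sylow `p`-subgroup of `C_G(Y_M)`. -/
theorem isSylowIn_P (h : Std p S Q M) :
    IsSylowIn p (pCoreOf p M) (centralizer (largestPReducedOf p M : Set G)) := by
  have h3 := (isSylowIn_of_sylow S (h.hSM.trans h.le_normalizer_Y)).inf_of_normal
      (centralizer_le_normalizer _) (normalizer_le_normalizer_centralizer _)
  rwa [h.S_inf_C] at h3

theorem normalizer_le_dag (h : Std p S Q M) {I : Subgroup G} (hI1 : I ≠ ⊥) (hIp : IsPGroup p I)
    (hMI : M ≤ normalizer (I : Set G)) : normalizer (I : Set G) ≤ dag p M :=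
  IsInFrakM.normalizer_le_dag h.hQp h.hQ1 h.hQ S h.hSM h.hM hI1 hIp hMI

theorem normalizer_Y_eq (h : Std p S Q M) :
    normalizer (largestPReducedOf p M : Set G) = dag p M :=
  le_antisymm (h.normalizer_le_dag h.Y_ne_bot (isPGroup_largest M) h.le_normalizer_Y)
    (dag_le_normalizer M)

theorem normalizer_P_le_dag (h : Std p S Q M) :
    normalizer (pCoreOf p M : Set G) ≤ dag p M :=
  h.normalizer_le_dag h.P_ne_bot (pCoreOf_isPGroup M) (le_normalizer_pCoreOf M)

/-- adjacency in the graph on the conjugates of `M`. -/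
def Adj (p : ℕ) (M : Subgroup G) (u t : G) : Prop :=
  cj u (pCoreOf p M) ≤ cj t M ∧ cj t (pCoreOf p M) ≤ cj u M

omit [Finite G] hp in
theorem Adj.symm {u t : G} (h : Adj p M u t) : Adj p M t u := ⟨h.2, h.1⟩

omit [Finite G] hp in
theorem Adj.mul_left {u t : G} (h : Adj p M u t) (x : G) : Adj p M (x * u) (x * t) := by
  unfold Adj
  rw [cj_mul, cj_mul, cj_mul, cj_mul]
  exact ⟨cj_mono h.1, cj_mono h.2⟩

/-- paths of given length -/
def Path (p : ℕ) (M : Subgroup G) : ℕ → G → G → Prop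
  | 0, s, t => s = t
  | (n + 1), s, t => ∃ u, Path p M n s u ∧ Adj p M u t

omit [Finite G] hp in
theorem Path.head : ∀ {n : ℕ} {s t : G}, Path p M (n + 1) s t →
    ∃ u, Adj p M s u ∧ Path p M n u t := by
  intro n
  induction n with
  | zero =>
    rintro s t ⟨u, rfl, h⟩
    exact ⟨t, h, rfl⟩
  | succ n ih =>
    rintro s t ⟨u, h1, h2⟩
    obtain ⟨v, h3, h4⟩ := ih h1
    exact ⟨v, h3, u, h4, h2⟩

omit [Finite G] hp in
theorem Path.mul_left : ∀ {n : ℕ} {s t : G}, Path p M n s t → ∀ x : G,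
    Path p M n (x * s) (x * t) := by
  intro n
  induction n with
  | zero => rintro s t rfl x; rfl
  | succ n ih =>
    rintro s t ⟨u, h1, h2⟩ x
    exact ⟨x * u, ih h1 x, h2.mul_left x⟩

omit [Finite G] hp in
theorem Path.trans : ∀ {n k : ℕ} {s t u : G}, Path p M k s t → Path p M n t u →
    Path p M (k + n) s u := by
  intro n
  induction n with
  | zero => rintro k s t u h1 rfl; exact h1
  | succ n ih =>
    rintro k s t u h1 ⟨v, h2, h3⟩
    exact ⟨v, ih h1 h2, h3⟩

/-- along paths, `Y^s ≤ O_p(M)^t`. -/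
theorem path_le (h : Std p S Q M) (hasym : ¬ IsSymmetricIn (largestPReducedOf p M)) :
    ∀ (n : ℕ) (s t : G), Path p M n s t →
      cj s (largestPReducedOf p M) ≤ cj t (pCoreOf p M) ∧
      cj t (largestPReducedOf p M) ≤ cj s (pCoreOf p M) := by
  set Y := largestPReducedOf p M with hY
  set P := pCoreOf p M with hP
  have hle : ∀ (t : G) (X : Subgroup G), X ≤ cj t M → IsPGroup p X →
      X ≤ centralizer ((cj t Y : Subgroup G) : Set G) → X ≤ cj t P := by
    intro t X h1 h2 h3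
    rw [le_cj_iff] at h1 ⊢
    apply h.le_P_of h1 (IsPGroup_cj h2 _)
    rwa [← cj_centralizer, le_cj_iff] at h3
  have hn : ∀ t : G, cj t M ≤ normalizer ((cj t Y : Subgroup G) : Set G) := by
    intro t
    rw [← cj_normalizer]
    exact cj_mono h.le_normalizer_Y
  have hYp : ∀ t : G, IsPGroup p (cj t Y) := fun t => IsPGroup_cj (isPGroup_largest M) t
  intro n
  induction n with
  | zero =>
    rintro s t rfl
    exact ⟨cj_mono h.Y_le_P, cj_mono h.Y_le_P⟩
  | succ n ih =>
    intro s t hst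
    obtain ⟨u, h1, h2⟩ := hst
    obtain ⟨v, h3, h4⟩ := Path.head (show Path p M (n + 1) s t from ⟨u, h1, h2⟩)
    have h5 : cj s Y ≤ cj t M := (ih s u h1).1.trans h2.1
    have h6 : cj t Y ≤ cj s M := (ih v t h4).2.trans h3.2
    have h7 := commute_of_asymmetric hasym (h5.trans (hn t)) (h6.trans (hn s))
    exact ⟨hle t _ h5 (hYp s) h7, hle s _ h6 (hYp t) (le_centralizer_comm.mp h7)⟩

/-- **Key lemma**: if `O_p(M) ≤ M^g` and `O_p(M)^g ≤ M`, then `g ∈ M†`. -/
theorem mem_dag_of_adj (h : Std p S Q M) (hasym : ¬ IsSymmetricIn (largestPReducedOf p M))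
    {g : G} (hg : Adj p M 1 g) : g ∈ dag p M := by
  set Y := largestPReducedOf p M with hY
  set P := pCoreOf p M with hP
  set 𝒞 : Set G := {t | ∃ n, Path p M n 1 t} with h𝒞
  have hmul : ∀ a ∈ 𝒞, ∀ b ∈ 𝒞, a * b ∈ 𝒞 := by
    rintro a ⟨n, ha⟩ b ⟨k, hb⟩
    have := hb.mul_left a
    rw [mul_one] at this
    exact ⟨n + k, ha.trans this⟩
  set I : Subgroup G := ⨆ t : 𝒞, cj (t : G) Y with hI
  have h1𝒞 : (1 : G) ∈ 𝒞 := ⟨0, rfl⟩
  have hYI : Y ≤ I := by
    have := le_iSup (fun t : 𝒞 => cj (t : G) Y) ⟨1, h1𝒞⟩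
    simpa using this
  have hIP : I ≤ P := by
    apply iSup_le
    rintro ⟨t, n, ht⟩
    have := (h.path_le hasym n 1 t ht).2
    simpa using this
  have hnI : ∀ c ∈ 𝒞, c ∈ normalizer (I : Set G) := by
    intro c hc
    apply mem_normalizer_of_cj_eq
    apply cj_eq_of_le
    rw [hI, cj_iSup]
    apply iSup_le
    rintro ⟨t, ht⟩
    rw [← cj_mul]
    exact le_iSup (fun t : 𝒞 => cj (t : G) Y) ⟨c * t, hmul c hc t ht⟩
  have hM𝒞 : ∀ m ∈ M, m ∈ 𝒞 := by
    intro m hm
    refine ⟨1, 1, rfl, ?_⟩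
    unfold Adj
    rw [cj_one, cj_one, cj_eq_self_of_mem hm,
      cj_eq_self_of_mem_normalizer (le_normalizer_pCoreOf M hm)]
    exact ⟨pCoreOf_le M, pCoreOf_le M⟩
  have hg𝒞 : g ∈ 𝒞 := ⟨1, 1, rfl, hg⟩
  have hI1 : I ≠ ⊥ := fun h0 => h.Y_ne_bot (le_bot_iff.mp (h0 ▸ hYI))
  exact h.normalizer_le_dag hI1 ((pCoreOf_isPGroup M).to_le hIP) (fun m hm => hnI m (hM𝒞 m hm))
    (hnI g hg𝒞)

theorem dag_le_normalizer_C (_h : Std p S Q M) :
    dag p M ≤ normalizer ((centralizer (largestPReducedOf p M : Set G) : Subgroup G) : Set G) :=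
  (dag_le_normalizer M).trans (normalizer_le_normalizer_centralizer _)

/-- a `p`-subgroup of `M†` containing `O_p(M)` meets `C_G(Y_M)` in `O_p(M)`. -/
theorem inf_C_eq (h : Std p S Q M) {L : Subgroup G} (hL : IsPGroup p L)
    (hPL : pCoreOf p M ≤ L) :
    L ⊓ centralizer (largestPReducedOf p M : Set G) = pCoreOf p M :=
  h.isSylowIn_P.eq_of_le hL.to_inf_left (le_inf hPL h.P_le_C) inf_le_right

theorem normalizer_le_of_le_dag (h : Std p S Q M)
    (hasym : ¬ IsSymmetricIn (largestPReducedOf p M)) {L : Subgroup G} (hL : IsPGroup p L)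
    (hPL : pCoreOf p M ≤ L) (hLd : L ≤ dag p M) :
    normalizer (L : Set G) ≤ normalizer (pCoreOf p M : Set G) := by
  set Y := largestPReducedOf p M with hY
  set P := pCoreOf p M with hP
  set C := centralizer (Y : Set G) with hC
  have hMC : M ≤ normalizer (C : Set G) := le_sup_left.trans h.dag_le_normalizer_C
  obtain ⟨x, hx, hLx⟩ :=
    (isSylowIn_of_sylow S (h.hSM.trans (le_sup_left : M ≤ dag p M))).exists_conj_ge hL hLd
  have hx' : x ∈ C ⊔ M := by rw [sup_comm]; exact hx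
  obtain ⟨c, hc, m, hm, rfl⟩ := mem_sup_of_le_normalizer hMC hx'
  have hLc : L ≤ cj c M := by
    refine hLx.trans ?_
    rw [cj_mul]
    apply cj_mono
    have := cj_mono (g := m) h.hSM
    rwa [cj_eq_self_of_mem hm] at this
  have hcP : cj c P = P := by
    apply cj_eq_of_le
    have h1 : cj c P ≤ cj (c * m) (S : Subgroup G) := by
      rw [cj_mul]
      apply cj_mono
      have := cj_mono (g := m) (pCoreOf_le_of_isSylowIn (isSylowIn_of_sylow S h.hSM))
      rwa [cj_eq_self_of_mem_normalizer (le_normalizer_pCoreOf M hm)] at this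
    have h2 : cj c P ≤ C := by
      have := cj_mono (g := c) h.P_le_C
      rwa [cj_eq_self_of_mem hc] at this
    have h3 := h.inf_C_eq (IsPGroup_cj S.2 (c * m)) (hPL.trans hLx)
    exact (le_inf h1 h2).trans h3.le
  intro g hg
  have hgL : cj g L = L := cj_eq_self_of_mem_normalizer hg
  have hadj : Adj p M c (g * c) := by
    constructor
    · rw [hcP, cj_mul]
      exact hPL.trans (hgL.symm.le.trans (cj_mono hLc))
    · rw [cj_mul, hcP]
      exact ((cj_mono hPL).trans hgL.le).trans hLc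
  have h1 := hadj.mul_left c⁻¹
  rw [inv_mul_cancel] at h1
  have h2 := h.mem_dag_of_adj hasym h1
  have hcd : c ∈ dag p M := mem_sup_right hc
  have hgd : g ∈ dag p M := by
    have : g = c * (c⁻¹ * (g * c)) * c⁻¹ := by group
    rw [this]
    exact mul_mem (mul_mem hcd h2) (inv_mem hcd)
  apply mem_normalizer_of_cj_eq
  apply cj_eq_of_le
  have h3 : cj g P ≤ C := by
    have := cj_mono (g := g) h.P_le_C
    rwa [cj_eq_self_of_mem_normalizer (h.dag_le_normalizer_C hgd)] at this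
  exact (le_inf ((cj_mono hPL).trans hgL.le) h3).trans (h.inf_C_eq hL hPL).le

/-- every `p`-subgroup containing `O_p(M)` lies in `M†`. -/
theorem le_dag_of_isPGroup (h : Std p S Q M)
    (hasym : ¬ IsSymmetricIn (largestPReducedOf p M)) {L : Subgroup G} (hL : IsPGroup p L)
    (hPL : pCoreOf p M ≤ L) : L ≤ dag p M := by
  by_contra hne
  have hlt : L ⊓ dag p M < L :=
    lt_of_le_of_ne inf_le_left (fun h0 => hne (inf_eq_left.mp h0))
  have h1 := lt_inf_normalizer hL hlt
  have h2 := h.normalizer_le_of_le_dag hasym hL.to_inf_left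
    (le_inf hPL ((pCoreOf_le M).trans le_sup_left)) inf_le_right
  have h3 : L ⊓ normalizer ((L ⊓ dag p M : Subgroup G) : Set G) ≤ L ⊓ dag p M :=
    inf_le_inf_left L (h2.trans h.normalizer_P_le_dag)
  exact absurd h1 (not_lt_of_ge h3)

theorem normalizer_le (h : Std p S Q M)
    (hasym : ¬ IsSymmetricIn (largestPReducedOf p M)) {L : Subgroup G} (hL : IsPGroup p L)
    (hPL : pCoreOf p M ≤ L) :
    normalizer (L : Set G) ≤ normalizer (pCoreOf p M : Set G) :=
  h.normalizer_le_of_le_dag hasym hL hPL (h.le_dag_of_isPGroup hasym hL hPL)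

/-- `O_p(M)` is weakly closed in `G`. -/
theorem wcIn_P (h : Std p S Q M) (hasym : ¬ IsSymmetricIn (largestPReducedOf p M)) :
    WCIn p (pCoreOf p M) ⊤ :=
  wcIn_of_normalizer_le (fun _ hR hPR => h.normalizer_le hasym hR hPR)

theorem exists_isSylowIn_le_dag (h : Std p S Q M)
    (hasym : ¬ IsSymmetricIn (largestPReducedOf p M)) {L : Subgroup G}
    (hPL : pCoreOf p M ≤ L) :
    ∃ T, IsSylowIn p T L ∧ pCoreOf p M ≤ T ∧ T ≤ dag p M := by
  obtain ⟨T, hT, hPT⟩ := exists_isSylowIn_ge (pCoreOf_isPGroup M) hPL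
  exact ⟨T, hT, hPT, h.le_dag_of_isPGroup hasym hT.isPGroup hPT⟩

/-- `M` controls fusion in `Y_M`. -/
theorem fusion (h : Std p S Q M) (hasym : ¬ IsSymmetricIn (largestPReducedOf p M)) {x g : G}
    (hx : x ∈ largestPReducedOf p M) (_hgx : g * x * g⁻¹ ∈ largestPReducedOf p M) :
    ∃ m ∈ M, m * x * m⁻¹ = g * x * g⁻¹ := by
  set Y := largestPReducedOf p M with hY
  set P := pCoreOf p M with hP
  set x' := g * x * g⁻¹ with hx'
  set D := centralizer ({x'} : Set G) with hD
  have hPD : P ≤ D := by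
    intro y hy
    rw [hD, mem_centralizer_singleton_iff]
    exact (mem_centralizer_iff.mp (h.P_le_C hy) x' _hgx).symm
  have hgPD : cj g P ≤ D := by
    rintro _ ⟨y, hy, rfl⟩
    rw [hD, mem_centralizer_singleton_iff]
    have h1 : x * y = y * x := mem_centralizer_iff.mp (h.P_le_C hy) x hx
    simp only [MulEquiv.coe_toMonoidHom, MulAut.conj_apply, hx']
    calc g * y * g⁻¹ * (g * x * g⁻¹) = g * (y * x) * g⁻¹ := by group
      _ = g * (x * y) * g⁻¹ := by rw [h1]
      _ = g * x * g⁻¹ * (g * y * g⁻¹) := by group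
  obtain ⟨c, hc, hgc⟩ := (h.wcIn_P hasym).exists_conj (pCoreOf_isPGroup M) hPD le_top
    (mem_top g) hgPD
  have hn : c⁻¹ * g ∈ normalizer (P : Set G) := by
    apply mem_normalizer_of_cj_eq
    rw [cj_mul, hgc, cj_inv_cj]
  have hnd := h.normalizer_P_le_dag hn
  have hMC : M ≤ normalizer ((centralizer (Y : Set G) : Subgroup G) : Set G) :=
    le_sup_left.trans h.dag_le_normalizer_C
  obtain ⟨m, hm, c', hc', hmc⟩ := mem_sup_of_le_normalizer' hMC hnd
  refine ⟨m, hm, ?_⟩
  have h1 : c' * x * c'⁻¹ = x := by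
    have := mem_centralizer_iff.mp hc' x hx
    rw [← this]; group
  have h2 : c⁻¹ * x' * c = x' := by
    have := mem_centralizer_singleton_iff.mp hc
    calc c⁻¹ * x' * c = c⁻¹ * (x' * c) := by group
      _ = c⁻¹ * (c * x') := by rw [this]
      _ = x' := by group
  calc m * x * m⁻¹ = m * (c' * x * c'⁻¹) * m⁻¹ := by rw [h1]
    _ = (m * c') * x * (m * c')⁻¹ := by group
    _ = (c⁻¹ * g) * x * (c⁻¹ * g)⁻¹ := by rw [hmc]
    _ = c⁻¹ * x' * c := by rw [hx']; group
    _ = x' := h2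

end Std

end Finite

end Cfsg.Agent.Lib.Helper47
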