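import Cfsg.Agent.Lib.Helper47.FrakH2
import Cfsg.Agent.Lib.Helper31.GenFitting

set_option autoImplicit false
set_option linter.unusedSectionVars false
open Cfsg Subgroup
open scoped Pointwise commutatorElement

namespace Cfsg.Agent.Lib.Helper47

section Abstract

variable {K : Type*} [Group K] [Finite K] {p : ℕ} [hp : Fact p.Prime]

theorem isPGroup_map_mk'_of_PQuot {N₀ : Subgroup K} [N₀.Normal] {D : Subgroup K}
    (h : PQuot p D N₀) : IsPGroup p (D.map (QuotientGroup.mk' N₀)) := by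
  rintro ⟨_, x, hx, rfl⟩
  obtain ⟨k, hk⟩ := h x hx
  refine ⟨k, Subtype.ext ?_⟩
  show (QuotientGroup.mk' N₀ x) ^ p ^ k = 1
  rw [← map_pow]
  exact (QuotientGroup.eq_one_iff _).mpr hk

theorem le_of_map_mk'_eq_bot {N₀ : Subgroup K} [N₀.Normal] {D : Subgroup K}
    (h : D.map (QuotientGroup.mk' N₀) = ⊥) : D ≤ N₀ := by
  rw [Subgroup.map_eq_bot_iff, QuotientGroup.ker_mk'] at h
  exact h

/-- normal `p`-subgroups (mod `N₀`) of the preimage of `F*(K/N₀)` are trivial mod `N₀` when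
`O_p(K/N₀) = 1`. -/
theorem le_of_normal_in_fstar {N₀ : Subgroup K} [N₀.Normal] (hO : pCore p (K ⧸ N₀) = ⊥)
    {N' : Subgroup K}
    (hN' : N' ≤ (generalizedFittingSubgroup (K ⧸ N₀)).comap (QuotientGroup.mk' N₀))
    (hn : (generalizedFittingSubgroup (K ⧸ N₀)).comap (QuotientGroup.mk' N₀) ≤
      normalizer (N' : Set K)) (hq : PQuot p N' N₀) : N' ≤ N₀ := by
  set π := QuotientGroup.mk' N₀ with hπ
  set Fs := generalizedFittingSubgroup (K ⧸ N₀) with hFs
  have hsurj : Function.Surjective π := QuotientGroup.mk'_surjective N₀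
  have hFn : Fs.Normal := Cfsg.Agent.Lib.Helper31.genFitting_normal
  apply le_of_map_mk'_eq_bot
  have h1 : IsPGroup p (N'.map π) := isPGroup_map_mk'_of_PQuot hq
  have h2 : N'.map π ≤ Fs := map_le_iff_le_comap.mpr hN'
  have h3 : Fs ≤ normalizer ((N'.map π : Subgroup (K ⧸ N₀)) : Set (K ⧸ N₀)) := by
    have h4 := Subgroup.le_normalizer_map (H := N') π
    refine le_trans ?_ h4
    rw [← map_comap_eq_self_of_surjective hsurj Fs]
    exact map_mono hn
  have h5 : N'.map π ≤ pCoreOf p Fs := le_pCoreOf h2 h3 h1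
  have h6 : pCoreOf p Fs ≤ pCoreOf p (⊤ : Subgroup (K ⧸ N₀)) :=
    pCoreOf_le_pCoreOf_of_normal le_top (le_normalizer_of_normal hFn ⊤)
  rw [pCoreOf_top, hO] at h6
  exact le_bot_iff.mp (h5.trans h6)

theorem le_of_centralizes_fstar {N₀ : Subgroup K} [N₀.Normal] (hO : pCore p (K ⧸ N₀) = ⊥)
    {D : Subgroup K} (hq : PQuot p D N₀)
    (hc : ⁅D, (generalizedFittingSubgroup (K ⧸ N₀)).comap (QuotientGroup.mk' N₀)⁆ ≤ N₀) :
    D ≤ N₀ := by
  set π := QuotientGroup.mk' N₀ with hπ
  set Fs := generalizedFittingSubgroup (K ⧸ N₀) with hFs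
  have hsurj : Function.Surjective π := QuotientGroup.mk'_surjective N₀
  have hFn : Fs.Normal := Cfsg.Agent.Lib.Helper31.genFitting_normal
  apply le_of_map_mk'_eq_bot
  have h1 : IsPGroup p (D.map π) := isPGroup_map_mk'_of_PQuot hq
  have h2 : ⁅D.map π, Fs⁆ = ⊥ := by
    have h3 := map_mono (f := π) hc
    rw [map_commutator, map_comap_eq_self_of_surjective hsurj Fs] at h3
    have h4 : N₀.map π = ⊥ := by rw [Subgroup.map_eq_bot_iff, QuotientGroup.ker_mk']
    rw [h4] at h3
    exact le_bot_iff.mp h3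
  have h3 : D.map π ≤ centralizer (Fs : Set (K ⧸ N₀)) :=
    commutator_eq_bot_iff_le_centralizer.mp h2
  have h4 : D.map π ≤ Fs := h3.trans Cfsg.Agent.Lib.Helper31.centralizer_genFitting_le
  set Z := Fs ⊓ centralizer (Fs : Set (K ⧸ N₀)) with hZ
  have hZn : (⊤ : Subgroup (K ⧸ N₀)) ≤ normalizer (Z : Set (K ⧸ N₀)) :=
    le_normalizer_inf (le_normalizer_of_normal hFn ⊤)
      ((le_normalizer_of_normal hFn ⊤).trans (normalizer_le_normalizer_centralizer _))
  have h5 : D.map π ≤ pCoreOf p Z := by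
    apply le_pCoreOf (le_inf h4 h3) _ h1
    refine le_trans ?_ (centralizer_le_normalizer _)
    exact inf_le_right.trans (centralizer_le (by exact_mod_cast h4))
  have h6 : pCoreOf p Z ≤ pCoreOf p (⊤ : Subgroup (K ⧸ N₀)) :=
    pCoreOf_le_pCoreOf_of_normal le_top hZn
  rw [pCoreOf_top, hO] at h6
  exact le_bot_iff.mp (h5.trans h6)

end Abstract

section Relative

variable {G : Type*} [Group G] [Finite G] {p : ℕ} [hp : Fact p.Prime]

/-- the preimage in `Md` of `F*(Md / C_Md)`, as a subgroup of `G`. -/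
abbrev fstarPre (Md C : Subgroup G) [(C.subgroupOf Md).Normal] : Subgroup G :=
  ((generalizedFittingSubgroup (↥Md ⧸ C.subgroupOf Md)).comap
    (QuotientGroup.mk' (C.subgroupOf Md))).map Md.subtype

variable {Md C : Subgroup G} [hn : (C.subgroupOf Md).Normal]

theorem fstarPre_le : fstarPre Md C ≤ Md := map_subtype_le _

theorem le_fstarPre (hC : C ≤ Md) : C ≤ fstarPre Md C := by
  intro x hx
  refine ⟨⟨x, hC hx⟩, ?_, rfl⟩
  rw [SetLike.mem_coe, mem_comap]
  have : QuotientGroup.mk' (C.subgroupOf Md) ⟨x, hC hx⟩ = 1 :=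
    (QuotientGroup.eq_one_iff _).mpr hx
  rw [this]; exact one_mem _

theorem le_normalizer_fstarPre : Md ≤ normalizer (fstarPre Md C : Set G) := by
  apply normal_iff_le_normalizer_map.mp
  have : (generalizedFittingSubgroup (↥Md ⧸ C.subgroupOf Md)).Normal :=
    Cfsg.Agent.Lib.Helper31.genFitting_normal
  infer_instance

theorem subgroupOf_fstarPre : (fstarPre Md C).subgroupOf Md =
    (generalizedFittingSubgroup (↥Md ⧸ C.subgroupOf Md)).comap
      (QuotientGroup.mk' (C.subgroupOf Md)) := subgroupOf_map_subtype' _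

theorem le_of_normal_in_fstarPre (hO : pCore p (↥Md ⧸ C.subgroupOf Md) = ⊥) {N : Subgroup G}
    (hN : N ≤ fstarPre Md C) (hnN : fstarPre Md C ≤ normalizer (N : Set G))
    (hq : PQuot p N C) : N ≤ C := by
  have hNM : N ≤ Md := hN.trans fstarPre_le
  have h1 : N.subgroupOf Md ≤ C.subgroupOf Md := by
    apply le_of_normal_in_fstar hO
    · rw [← subgroupOf_fstarPre]; exact comap_mono hN
    · rw [← subgroupOf_fstarPre]
      intro f hf
      rw [mem_normalizer_iff]
      intro x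
      exact mem_normalizer_iff.mp (hnN hf) (x : G)
    · exact PQuot_map_subtype.mpr (by rwa [map_subgroupOf_eq_of_le hNM])
  intro x hx
  exact h1 (show (⟨x, hNM hx⟩ : ↥Md) ∈ N.subgroupOf Md from hx)

theorem le_of_centralizes_fstarPre (hO : pCore p (↥Md ⧸ C.subgroupOf Md) = ⊥) {D : Subgroup G}
    (hDM : D ≤ Md) (hq : PQuot p D C) (hc : ⁅D, fstarPre Md C⁆ ≤ C) : D ≤ C := by
  have h1 : D.subgroupOf Md ≤ C.subgroupOf Md := by
    apply le_of_centralizes_fstar hO
    · exact PQuot_map_subtype.mpr (by rwa [map_subgroupOf_eq_of_le hDM])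
    · rw [← subgroupOf_fstarPre]
      apply map_le_iff_le_comap.mp
      rw [map_commutator, map_subgroupOf_eq_of_le hDM, map_subgroupOf_eq_of_le fstarPre_le]
      exact hc
  intro x hx
  exact h1 (show (⟨x, hDM hx⟩ : ↥Md) ∈ D.subgroupOf Md from hx)

end Relative

end Cfsg.Agent.Lib.Helper47
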