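import Cfsg.Agent.Lib.Helper47.Asym

set_option autoImplicit false
set_option linter.unusedSectionVars false
open Cfsg Subgroup
open scoped Pointwise commutatorElement

namespace Cfsg.Agent.Lib.Helper47

variable {G : Type*} [Group G] {p : ℕ}

/-- characteristic `p`, relative form -/
def CharP (p : ℕ) (H : Subgroup G) : Prop :=
  H ⊓ centralizer (pCoreOf p H : Set G) ≤ pCoreOf p H

theorem charP_iff' {H : Subgroup G} :
    centralizer (pCore p ↥H : Set ↥H) ≤ pCore p ↥H ↔ CharP p H := charP_iff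

theorem CharP.cj {H : Subgroup G} (h : CharP p H) (g : G) : CharP p (cj g H) := by
  unfold CharP at *
  rw [← cj_pCoreOf, ← cj_centralizer, ← cj_inf]
  exact cj_mono h

section Finite
variable [Finite G] [hp : Fact p.Prime]

/-- overgroups of a self-centralizing `p`-subgroup `P` normalized by `O_p(H)` inherit
characteristic `p`. -/
theorem CharP.of_le {H P P' : Subgroup G} (hH : CharP p H) (hP : IsPGroup p P)
    (hPP' : P ≤ P') (hP'H : P' ≤ H) (hCP : H ⊓ centralizer (P : Set G) ≤ P)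
    (hWP : pCoreOf p H ≤ normalizer (P : Set G)) : CharP p P' := by
  set W := pCoreOf p H with hW
  set R' := pCoreOf p P' with hR'
  set W₀ := W ⊓ P' with hW₀
  have hW₀R' : W₀ ≤ R' := pCoreOf_inf_le hP'H
  have hHW : H ≤ normalizer (W : Set G) := le_normalizer_pCoreOf H
  have hP'R' : P' ≤ normalizer (R' : Set G) := le_normalizer_pCoreOf P'
  have hP'W₀ : P' ≤ normalizer (W₀ : Set G) :=
    le_normalizer_inf (hP'H.trans hHW) Subgroup.le_normalizer
  set K := P' ⊓ centralizer (R' : Set G) with hK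
  have hP'K : P' ≤ normalizer (K : Set G) :=
    le_normalizer_inf Subgroup.le_normalizer (hP'R'.trans (normalizer_le_normalizer_centralizer _))
  set Ps := ncl P P' with hPs
  have hP'Ps : P' ≤ normalizer (Ps : Set G) := le_normalizer_ncl P P'
  have hWP₀ : ⁅W, P⁆ ≤ W₀ :=
    le_inf (commutator_le_left_of_le_normalizer ((hPP'.trans hP'H).trans hHW))
      ((commutator_le_right_of_le_normalizer hWP).trans hPP')
  have hWPs : ⁅W, Ps⁆ ≤ W₀ := commutator_ncl_le (hP'H.trans hHW) hP'W₀ hPP' hWP₀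
  have h1 : IsPGroup p (K ⊓ Ps : Subgroup G) := by
    apply isPGroup_of_forall_coprime
    intro b hb hbc
    have h2 : ∀ x ∈ W, Commute x b := by
      apply centralizes_of_step hbc (B := W₀) (pCoreOf_isPGroup H).to_inf_left
      · intro x hx
        exact hWPs (commutator_mem_commutator hx hb.2)
      · intro y hy
        exact (mem_centralizer_iff_commute.mp hb.1.2) y (hW₀R' hy)
    have h3 : b ∈ W := hH (mem_inf.mpr ⟨hP'H hb.1.1, mem_centralizer_iff_commute.mpr h2⟩)
    exact eq_one_of_mem_pGroup_of_coprime (pCoreOf_isPGroup H) h3 hbc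
  have h2 : K ⊓ Ps ≤ R' :=
    le_pCoreOf (inf_le_left.trans inf_le_left) (le_normalizer_inf hP'K hP'Ps) h1
  have h3 : IsPGroup p K := by
    apply isPGroup_of_forall_coprime
    intro a ha hac
    have h4 : ∀ x ∈ P, Commute x a := by
      apply centralizes_of_step hac (B := R') (pCoreOf_isPGroup P')
      · intro x hx
        apply h2
        refine mem_inf.mpr ⟨?_, ?_⟩
        · have e : ⁅x, a⁆ = (x * a * x⁻¹) * a⁻¹ := by rw [commutatorElement_def]
          rw [e]
          exact mul_mem (conj_mem_of_mem_normalizer (hP'K (hPP' hx)) ha) (inv_mem ha)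
        · have e : ⁅x, a⁆ = x * (a * x⁻¹ * a⁻¹) := by rw [commutatorElement_def]; group
          rw [e]
          exact mul_mem (le_ncl P P' hx)
            (conj_mem_of_mem_normalizer (hP'Ps ha.1) (inv_mem (le_ncl P P' hx)))
      · intro y hy
        exact (mem_centralizer_iff_commute.mp ha.2) y hy
    have h5 : a ∈ P := hCP (mem_inf.mpr ⟨hP'H ha.1, mem_centralizer_iff_commute.mpr h4⟩)
    exact eq_one_of_mem_pGroup_of_coprime hP h5 hac
  exact le_pCoreOf inf_le_left hP'K h3

namespace Std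

variable {S : Sylow p G} {Q M : Subgroup G}

theorem centralizer_P_le (h : Std p S Q M) :
    centralizer (pCoreOf p M : Set G) ≤ pCoreOf p M := h.inL.2

/-- `O_p(H)` normalizes `O_p(M)` for `O_p(M) ≤ H`. -/
theorem pCoreOf_le_normalizer_P (h : Std p S Q M)
    (hasym : ¬ IsSymmetricIn (largestPReducedOf p M)) {H : Subgroup G}
    (hPH : pCoreOf p M ≤ H) : pCoreOf p H ≤ normalizer (pCoreOf p M : Set G) := by
  obtain ⟨T, hT, hPT⟩ := exists_isSylowIn_ge (pCoreOf_isPGroup M) hPH
  exact ((pCoreOf_le_of_isSylowIn hT).trans Subgroup.le_normalizer).trans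
    (h.normalizer_le hasym hT.isPGroup hPT)

theorem charP_of_le (h : Std p S Q M) (hasym : ¬ IsSymmetricIn (largestPReducedOf p M))
    {H P' : Subgroup G} (hH : CharP p H) (hPP' : pCoreOf p M ≤ P') (hP'H : P' ≤ H) :
    CharP p P' :=
  hH.of_le (pCoreOf_isPGroup M) hPP' hP'H (inf_le_right.trans h.centralizer_P_le)
    (h.pCoreOf_le_normalizer_P hasym (hPP'.trans hP'H))

theorem isInFrakH_iff {H : Subgroup G} : IsInFrakH p M H ↔
    CharP p H ∧ pCoreOf p M ≤ H ∧ ¬ largestPReducedOf p M ≤ pCoreOf p H ∧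
      ∀ P : Subgroup G, pCoreOf p M ≤ P → P < H → largestPReducedOf p M ≤ pCoreOf p P := by
  unfold IsInFrakH
  rw [charP_iff']

/-- below any `H` of characteristic `p` over `O_p(M)` with `Y_M ≰ O_p(H)` there is a member
of `ℌ_G(O_p(M))`. -/
theorem exists_isInFrakH_le (h : Std p S Q M)
    (hasym : ¬ IsSymmetricIn (largestPReducedOf p M)) {L : Subgroup G} (hL : CharP p L)
    (hPL : pCoreOf p M ≤ L) (hYL : ¬ largestPReducedOf p M ≤ pCoreOf p L) :
    ∃ H, IsInFrakH p M H ∧ H ≤ L := by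
  set 𝒮 : Set (Subgroup G) := {H | CharP p H ∧ pCoreOf p M ≤ H ∧
    ¬ largestPReducedOf p M ≤ pCoreOf p H} with h𝒮
  obtain ⟨H, hHL, hH⟩ := (Set.toFinite 𝒮).exists_le_minimal (show L ∈ 𝒮 from ⟨hL, hPL, hYL⟩)
  refine ⟨H, ?_, hHL⟩
  rw [isInFrakH_iff]
  refine ⟨hH.prop.1, hH.prop.2.1, hH.prop.2.2, ?_⟩
  intro P' hPP' hlt
  by_contra hne
  have h1 : P' ∈ 𝒮 := ⟨h.charP_of_le hasym hH.prop.1 hPP' hlt.le, hPP', hne⟩
  exact absurd (hH.le_of_le h1 hlt.le) (not_le_of_gt hlt)

theorem exists_isInFrakH (h : Std p S Q M)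
    (hasym : ¬ IsSymmetricIn (largestPReducedOf p M))
    (htall : IsCharPTall p (largestPReducedOf p M)) : ∃ H, IsInFrakH p M H := by
  obtain ⟨T, L, hTL, hL, hYL⟩ := htall
  have hT := isSylowIn_map (centralizer (largestPReducedOf p M : Set G)) T
  obtain ⟨c, hc, hcT⟩ := hT.exists_conj h.isSylowIn_P
  have hcY : cj c (largestPReducedOf p M) = largestPReducedOf p M :=
    cj_eq_self_of_mem_normalizer (centralizer_le_normalizer _ hc)
  obtain ⟨H, hH, -⟩ := h.exists_isInFrakH_le hasym ((charP_iff'.mp hL).cj c)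
    (by rw [← hcT]; exact cj_mono hTL)
    (by
      intro h1
      apply hYL
      rw [← cj_pCoreOf] at h1
      have h2 : cj c (largestPReducedOf p M) ≤ cj c (pCoreOf p L) := hcY.le.trans h1
      exact cj_le_cj_iff.mp h2)
  exact ⟨H, hH⟩

end Std

end Finite

end Cfsg.Agent.Lib.Helper47
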