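import Cfsg.Agent.Lib.Helper47.FrakH

set_option autoImplicit false
set_option linter.unusedSectionVars false
open Cfsg Subgroup
open scoped Pointwise commutatorElement

namespace Cfsg.Agent.Lib.Helper47

variable {G : Type*} [Group G] {p : ℕ}

section Finite
variable [Finite G] [hp : Fact p.Prime]

/-- `O_p(X) ≤ O_p(H)` for `O^p(H) ≤ X ≤ H`. -/
theorem pCoreOf_le_of_pResOf_le {H : Subgroup G} :
    ∀ X : Subgroup G, pResOf p H ≤ X → X ≤ H → pCoreOf p X ≤ pCoreOf p H := by
  intro X
  induction X using WellFoundedGT.induction with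
  | ind X ih =>
    intro h1 h2
    by_cases hX : X = H
    · rw [hX]
    · have hlt : X < H := lt_of_le_of_ne h2 hX
      have h3 := lt_inf_normalizer_of_pResOf_le h1 hlt
      exact (pCoreOf_le_pCoreOf_of_normal h3.le inf_le_right).trans
        (ih _ h3 (h1.trans h3.le) inf_le_left)

namespace Std

variable {S : Sylow p G} {Q M : Subgroup G}

/-- basic structure of `H ∈ ℌ_G(O_p(M))`. -/
structure FH (p : ℕ) (M H : Subgroup G) : Prop where
  charP : CharP p H
  P_le : pCoreOf p M ≤ H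
  not_le : ¬ largestPReducedOf p M ≤ pCoreOf p H
  min : ∀ P : Subgroup G, pCoreOf p M ≤ P → P < H → largestPReducedOf p M ≤ pCoreOf p P

theorem fH_of {H : Subgroup G} (h : IsInFrakH p M H) : FH p M H := by
  obtain ⟨h1, h2, h3, h4⟩ := isInFrakH_iff.mp h
  exact ⟨h1, h2, h3, h4⟩

namespace FH

variable {H : Subgroup G}

theorem Y_le (hH : FH p M H) : largestPReducedOf p M ≤ H :=
  (isPRedIn_largest M).le_pCoreOf.trans hH.P_le

/-- a subgroup `X ≥ O_p(M)` of `H` with `O_p(X) ∩ (something containing Y) ≤ O_p(H)` is `H`. -/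
theorem eq_of_pCoreOf_le (hH : FH p M H) {X : Subgroup G} (hPX : pCoreOf p M ≤ X) (hXH : X ≤ H)
    (hle : largestPReducedOf p M ≤ pCoreOf p X → largestPReducedOf p M ≤ pCoreOf p H) :
    X = H := by
  by_contra hne
  exact hH.not_le (hle (hH.min X hPX (lt_of_le_of_ne hXH hne)))

theorem pResOf_sup_P (hH : FH p M H) : pResOf p H ⊔ pCoreOf p M = H := by
  apply hH.eq_of_pCoreOf_le le_sup_right (sup_le (pResOf_le H) hH.P_le)
  intro h1
  exact h1.trans (pCoreOf_le_of_pResOf_le _ le_sup_left (sup_le (pResOf_le H) hH.P_le))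

theorem ncl_P (hH : FH p M H) : ncl (pCoreOf p M) H = H := by
  apply hH.eq_of_pCoreOf_le (le_ncl _ _) (ncl_le_self hH.P_le)
  intro h1
  exact h1.trans (pCoreOf_le_pCoreOf_of_normal (ncl_le_self hH.P_le) (le_normalizer_ncl _ _))

theorem P_le_normalizer_Y : pCoreOf p M ≤ normalizer (largestPReducedOf p M : Set G) :=
  (pCoreOf_le M).trans (isPRedIn_largest M).le_normalizer

theorem ncl_Y_sup_P (hH : FH p M H) : ncl (largestPReducedOf p M) H ⊔ pCoreOf p M = H := by
  set N := ncl (largestPReducedOf p M) H with hN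
  have hNH : N ≤ H := ncl_le_self hH.Y_le
  have hHN : H ≤ normalizer (N : Set G) := le_normalizer_ncl _ _
  apply hH.eq_of_pCoreOf_le le_sup_right (sup_le hNH hH.P_le)
  intro h1
  have h2 : largestPReducedOf p M ≤ pCoreOf p (N ⊔ pCoreOf p M) ⊓ N := le_inf h1 (le_ncl _ _)
  exact h2.trans ((pCoreOf_inf_le le_sup_left).trans (pCoreOf_le_pCoreOf_of_normal hNH hHN))

theorem pResOf_le_ncl_Y (hH : FH p M H) : pResOf p H ≤ ncl (largestPReducedOf p M) H := by
  apply pResOf_le_of_PQuot
  have := PQuot_sup (N := ncl (largestPReducedOf p M) H) (T := pCoreOf p M)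
    (hH.P_le.trans (le_normalizer_ncl _ _)) (pCoreOf_isPGroup M)
  rwa [hH.ncl_Y_sup_P] at this

theorem pResOf_sup_Y (hH : FH p M H) :
    pResOf p H ⊔ largestPReducedOf p M = ncl (largestPReducedOf p M) H := by
  apply le_antisymm (sup_le hH.pResOf_le_ncl_Y (le_ncl _ _))
  apply ncl_le_of_normal le_sup_right
  refine hH.pResOf_sup_P.symm.le.trans (sup_le ?_ ?_)
  · exact le_sup_left.trans Subgroup.le_normalizer
  · exact le_normalizer_sup (hH.P_le.trans (le_normalizer_pResOf H)) P_le_normalizer_Y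

theorem commutator_pResOf_Y (hH : FH p M H) :
    ⁅pResOf p H, largestPReducedOf p M⁆ = pResOf p H := by
  set R := pResOf p H with hR
  set Y := largestPReducedOf p M with hY
  have hHR : H ≤ normalizer (R : Set G) := le_normalizer_pResOf H
  apply le_antisymm (commutator_le_left_of_le_normalizer (hH.Y_le.trans hHR))
  set R₁ := ⁅R, Y⁆ with hR₁
  have hRR₁ : R ≤ normalizer (R₁ : Set G) := normalizer_commutator_ge_left R Y
  have hYR₁ : Y ≤ normalizer (R₁ : Set G) := normalizer_commutator_ge_right R Y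
  have hPR₁ : pCoreOf p M ≤ normalizer (R₁ : Set G) :=
    le_normalizer_commutator (hH.P_le.trans hHR) P_le_normalizer_Y
  have hn : H ≤ normalizer ((R₁ ⊔ Y : Subgroup G) : Set G) := by
    refine hH.pResOf_sup_P.symm.le.trans (sup_le ?_ ?_)
    · apply le_normalizer_of_cj_le
      intro k hk
      rw [cj_sup, cj_eq_self_of_mem_normalizer (hRR₁ hk)]
      apply sup_le le_sup_left
      have := cj_le_sup_commutator (B := Y) (V := Y) (X := R) le_rfl hk
      rwa [commutator_comm] at this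
    · exact le_normalizer_sup hPR₁ P_le_normalizer_Y
  have h1 : R ≤ R₁ ⊔ Y := hH.pResOf_le_ncl_Y.trans (ncl_le_of_normal le_sup_right hn)
  exact le_of_le_sup_pGroup (pResOf_pResOf H) (isPGroup_largest M) hYR₁ h1

end FH

theorem isSylowIn_of_isSylowIn_inf_dag (h : Std p S Q M)
    (hasym : ¬ IsSymmetricIn (largestPReducedOf p M)) {H T : Subgroup G}
    (hPH : pCoreOf p M ≤ H) (hT : IsSylowIn p T (H ⊓ dag p M)) : IsSylowIn p T H := by
  obtain ⟨T₁, hT₁, -, hT₁d⟩ := h.exists_isSylowIn_le_dag hasym hPH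
  have h1 : IsSylowIn p T₁ (H ⊓ dag p M) := hT₁.mono (le_inf hT₁.le hT₁d) inf_le_left
  obtain ⟨x, hx, hxT⟩ := h1.exists_conj hT
  have h2 := hT₁.conj x
  rwa [hxT, cj_eq_self_of_mem hx.1] at h2

end Std

end Finite

end Cfsg.Agent.Lib.Helper47
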