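import Cfsg.Agent.Lib.Helper47.YMin
import Cfsg.Agent.S2824

set_option autoImplicit false
open Cfsg Subgroup
open scoped Pointwise commutatorElement

namespace Cfsg.Agent.Lib.Helper47

variable {G : Type*} [Group G] {p : ℕ}

/-- `L ∈ 𝓛_G` in relative form. -/
def InL (p : ℕ) (L : Subgroup G) : Prop :=
  pCoreOf p L ≠ ⊥ ∧ centralizer (pCoreOf p L : Set G) ≤ pCoreOf p L

theorem mem_charPSubgroups_iff {L : Subgroup G} : L ∈ charPSubgroups p G ↔ InL p L := by
  unfold charPSubgroups InL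
  rw [Set.mem_ofPred_eq, ne_eq, ne_eq, pCore_eq_bot_iff_pCoreOf]
  rfl

theorem InL.charP {L : Subgroup G} (h : InL p L) :
    L ⊓ centralizer (pCoreOf p L : Set G) ≤ pCoreOf p L := inf_le_right.trans h.2

/-- `L† = L C_G(Y_L)` -/
abbrev dag (p : ℕ) (L : Subgroup G) : Subgroup G :=
  L ⊔ centralizer (largestPReducedOf p L : Set G)

/-- the relation `X ≪ Z`. -/
def Ll (p : ℕ) (X Z : Subgroup G) : Prop :=
  dag p X ≤ (dag p X ⊓ Z) ⊔ centralizer (largestPReducedOf p X : Set G)

theorem dag_le_normalizer (L : Subgroup G) :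
    dag p L ≤ normalizer (largestPReducedOf p L : Set G) :=
  sup_le (isPRedIn_largest L).le_normalizer (centralizer_le_normalizer _)

theorem Ll_of_dag_le {X Z : Subgroup G} (h : dag p X ≤ Z) : Ll p X Z := by
  unfold Ll
  rw [inf_eq_left.mpr h]
  exact le_sup_left

theorem Ll.trans {X Z W : Subgroup G} (h1 : Ll p X Z) (h2 : Ll p Z W)
    (hY : largestPReducedOf p X ≤ largestPReducedOf p Z) : Ll p X W := by
  unfold Ll at *
  refine h1.trans (sup_le ?_ le_sup_right)
  intro x hx
  have hxZ : x ∈ dag p Z := mem_sup_left hx.2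
  have hn : dag p Z ⊓ W ≤ normalizer
      ((centralizer (largestPReducedOf p Z : Set G) : Subgroup G) : Set G) :=
    (inf_le_left.trans (dag_le_normalizer Z)).trans (normalizer_le_normalizer_centralizer _)
  obtain ⟨n, hn', c, hc, rfl⟩ := mem_sup_of_le_normalizer' hn (h2 hxZ)
  have hc' : c ∈ centralizer (largestPReducedOf p X : Set G) :=
    centralizer_le (by exact_mod_cast hY) hc
  have hnX : n ∈ dag p X := by
    have : n = (n * c) * c⁻¹ := by group
    rw [this]
    exact mul_mem hx.1 (inv_mem (mem_sup_right hc'))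
  exact mul_mem (mem_sup_left (mem_inf.mpr ⟨hnX, hn'.2⟩)) (mem_sup_right hc')

section Finite
variable [Finite G] [hp : Fact p.Prime]

theorem OmZ_ne_bot {T : Subgroup G} (hT : IsPGroup p T) (hne : T ≠ ⊥) : OmZ p T ≠ ⊥ := by
  have h1 := center_ne_bot hT hne
  set Z := T ⊓ centralizer (T : Set G) with hZ
  have hZp : IsPGroup p Z := hT.to_inf_left
  have hcard : p ∣ Nat.card ↥Z := by
    rcases hZp.card_eq_or_dvd with h | h
    · exact absurd (Subgroup.card_eq_one.mp h) h1
    · exact h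
  obtain ⟨x, hx⟩ := exists_prime_orderOf_dvd_card' p hcard
  intro hbot
  have hx1 : (x : G) ∈ OmZ p T := by
    apply Subgroup.subset_closure
    refine ⟨x.2, ?_⟩
    have := pow_orderOf_eq_one x
    rw [hx] at this
    exact_mod_cast congrArg Subtype.val this
  rw [hbot, mem_bot] at hx1
  have : x = 1 := Subtype.ext hx1
  rw [this, orderOf_one] at hx
  exact hp.out.one_lt.ne hx

theorem InL.of_le {T R X : Subgroup G} (hX : InL p X) (hT : IsSylowIn p T X) (hTR : T ≤ R)
    (hRX : R ≤ X) : InL p R := by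
  have h1 : pCoreOf p X ≤ pCoreOf p R :=
    le_pCoreOf ((pCoreOf_le_of_isSylowIn hT).trans hTR) (hRX.trans (le_normalizer_pCoreOf X))
      (pCoreOf_isPGroup X)
  refine ⟨fun h => hX.1 (le_bot_iff.mp (h ▸ h1)), ?_⟩
  exact ((centralizer_le (by exact_mod_cast h1)).trans hX.2).trans h1

theorem largest_mono {T R X : Subgroup G} (hX : InL p X) (hT : IsSylowIn p T X) (hTR : T ≤ R)
    (hRX : R ≤ X) : largestPReducedOf p R ≤ largestPReducedOf p X :=
  (le_ncl _ X).trans (IsPRedIn.ncl hX.charP hT hTR hRX (isPRedIn_largest R)).le_largest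

theorem InL.largest_ne_bot {T X : Subgroup G} (hX : InL p X) (hT : IsSylowIn p T X) :
    largestPReducedOf p X ≠ ⊥ := by
  have hT1 : T ≠ ⊥ := fun h => hX.1 (le_bot_iff.mp (h ▸ pCoreOf_le_of_isSylowIn hT))
  have h1 := OmZ_ne_bot hT.isPGroup hT1
  intro h
  apply h1
  rw [← le_bot_iff, ← h]
  exact (OmZ_le_sylowCenterClosure hT).trans (sylowCenterClosure_le_largest hX.charP)

theorem isPGroup_largest (X : Subgroup G) : IsPGroup p (largestPReducedOf p X) :=
  IsElementaryAbelian.isPGroup (isPRedIn_largest X).isElementaryAbelian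

theorem inL_normalizer (hH : IsOfParabolicCharacteristic p G) (T : Sylow p G) {R : Subgroup G}
    (hR : IsPGroup p R) (hR1 : R ≠ ⊥) (hTR : (T : Subgroup G) ≤ normalizer (R : Set G)) :
    InL p (normalizer (R : Set G)) := by
  have h1 := Helper47.charP_iff.mp (hH R hR hR1 ⟨T, hTR⟩)
  have h2 : R ≤ pCoreOf p (normalizer (R : Set G)) := le_pCoreOf Subgroup.le_normalizer le_rfl hR
  refine ⟨fun h => hR1 (le_bot_iff.mp (h ▸ h2)), ?_⟩
  refine le_trans (le_inf ?_ le_rfl) h1
  exact (centralizer_le (by exact_mod_cast h2)).trans (centralizer_le_normalizer _)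

theorem inL_dag (hH : IsOfParabolicCharacteristic p G) (T : Sylow p G) {X : Subgroup G}
    (hX : InL p X) (hTX : (T : Subgroup G) ≤ X) : InL p (dag p X) := by
  have hTS : IsSylowIn p (T : Subgroup G) X := isSylowIn_of_sylow T hTX
  have h1 := inL_normalizer hH T (isPGroup_largest X) (hX.largest_ne_bot hTS)
    (hTX.trans (isPRedIn_largest X).le_normalizer)
  exact h1.of_le (isSylowIn_of_sylow T (hTX.trans (isPRedIn_largest X).le_normalizer))
    (hTX.trans le_sup_left) (dag_le_normalizer X)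

theorem largest_le_sylow {T X : Subgroup G} (hT : IsSylowIn p T X) :
    largestPReducedOf p X ≤ T :=
  (isPRedIn_largest X).le_pCoreOf.trans (pCoreOf_le_of_isSylowIn hT)

theorem Ll.largest_le (T : Sylow p G) {X Z : Subgroup G}
    (hTX : (T : Subgroup G) ≤ X) (hZ : InL p Z) (hTZ : (T : Subgroup G) ≤ Z) (h : Ll p X Z) :
    largestPReducedOf p X ≤ largestPReducedOf p Z := by
  set R := dag p X ⊓ Z with hR
  have hTR : (T : Subgroup G) ≤ R := le_inf (hTX.trans le_sup_left) hTZ
  have h1 : IsPRedIn p (largestPReducedOf p X) R := by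
    apply (isPRedIn_largest X).of_sup_eq ((largest_le_sylow (isSylowIn_of_sylow T hTX)).trans hTR)
    apply le_antisymm
    · exact sup_le inf_le_left le_sup_right
    · exact h
  exact h1.le_largest.trans (largest_mono hZ (isSylowIn_of_sylow T hTZ) hTR inf_le_right)

theorem exists_le_cj_sup_rel {D N O Y W : Subgroup G} (hDN : D ≤ normalizer (N : Set G))
    (hO : IsSylowIn p O N) (hDO : D ≤ normalizer (O : Set G)) (hY : IsPGroup p Y) (hYD : Y ≤ D)
    (hW : N ⊔ W = D) : ∃ d ∈ D, Y ≤ cj d (O ⊔ W) := by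
  have hND : N ≤ D := hW ▸ le_sup_left
  have hWD : W ≤ D := hW ▸ le_sup_right
  set D₁ := N ⊔ Y with hD₁def
  have hD₁D : D₁ ≤ D := sup_le hND hYD
  set W₁ := D₁ ⊓ W with hW₁
  have hD₁ : N ⊔ W₁ = D₁ := by
    apply le_antisymm (sup_le le_sup_left inf_le_left)
    intro x hx
    have hx' : x ∈ N ⊔ W := hW ▸ hD₁D hx
    obtain ⟨n, hn, w, hw, rfl⟩ := mem_sup_of_le_normalizer (hWD.trans hDN) hx'
    have hwD : w ∈ D₁ := by
      have : w = n⁻¹ * (n * w) := by group
      rw [this]; exact mul_mem (inv_mem (mem_sup_left hn)) hx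
    exact mul_mem (mem_sup_left hn) (mem_sup_right (mem_inf.mpr ⟨hwD, hw⟩))
  have hq : PQuot p D₁ N := PQuot_sup (hYD.trans hDN) hY
  obtain ⟨P, hP⟩ := exists_isSylowIn p W₁
  have h1 : (W₁ ⊓ N) ⊔ P = W₁ :=
    hP.sup_eq_of_PQuot inf_le_left
      (le_normalizer_inf Subgroup.le_normalizer ((inf_le_right.trans hWD).trans hDN))
      (hq.mono_left inf_le_left).inf_right
  have h2 : N ⊔ P = D₁ := by
    apply le_antisymm (sup_le le_sup_left (hP.le.trans inf_le_left))
    have h5 : N ⊔ W₁ ≤ N ⊔ P := by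
      rw [← h1]
      exact sup_le le_sup_left (sup_le (inf_le_right.trans le_sup_left) le_sup_right)
    exact hD₁.symm.le.trans h5
  have h3 := isSylowIn_sup_of_sup_eq hO (hD₁D.trans hDO) (hD₁D.trans hDN) hP.isPGroup h2
  obtain ⟨d, hd1, hd⟩ := h3.exists_conj_ge hY le_sup_right
  exact ⟨d, hD₁D hd1, hd.trans (cj_mono (sup_le_sup_left (hP.le.trans inf_le_right) O))⟩

end Finite

end Cfsg.Agent.Lib.Helper47
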