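import Cfsg.Agent.Lib.Helper47.FrakM

set_option autoImplicit false
open Cfsg Subgroup
open scoped Pointwise commutatorElement

namespace Cfsg.Agent.Lib.Helper47

variable {G : Type*} [Group G] {p : ℕ}

section Finite
variable [Finite G] [hp : Fact p.Prime]

/-- a subgroup `M` minimal subject to `T ≤ M ≤ Mt`, `M C(Y_{Mt}) = Mt` has the last two parts of
the basic property. -/
theorem frakM_of_minimal (T : Sylow p G) {M Mt : Subgroup G}
    (hTM : (T : Subgroup G) ≤ M) (hMMt : M ≤ Mt)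
    (hYM : largestPReducedOf p M = largestPReducedOf p Mt)
    (hsup : M ⊔ centralizer (largestPReducedOf p Mt : Set G) = Mt)
    (hmin : ∀ M' : Subgroup G, (T : Subgroup G) ≤ M' → M' ≤ M →
      M' ⊔ centralizer (largestPReducedOf p Mt : Set G) = Mt → M ≤ M') :
    IsPClosed p ↥(M ⊓ centralizer (largestPReducedOf p M : Set G)) ∧
    ((M ⊓ centralizer (largestPReducedOf p M : Set G)).subgroupOf M).map
      (QuotientGroup.mk' (pCore p ↥M)) ≤ frattini (↥M ⧸ pCore p ↥M) := by
  set Y := largestPReducedOf p M with hY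
  set C := M ⊓ centralizer (Y : Set G) with hC
  have hMC : M ≤ normalizer (C : Set G) :=
    le_normalizer_inf Subgroup.le_normalizer
      ((isPRedIn_largest M).le_normalizer.trans (normalizer_le_normalizer_centralizer _))
  have hS : IsSylowIn p ((T : Subgroup G) ⊓ C) C :=
    (isSylowIn_of_sylow T hTM).inf_of_normal inf_le_left hMC
  set O := (T : Subgroup G) ⊓ C with hO
  have hCle : C ≤ centralizer (largestPReducedOf p Mt : Set G) := hYM ▸ inf_le_right
  -- a subgroup `M'` with `T ≤ M' ≤ M`, `C M' = M` equals `M`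
  have hmin' : ∀ M' : Subgroup G, (T : Subgroup G) ≤ M' → M' ≤ M → C ⊔ M' = M → M ≤ M' := by
    intro M' h1 h2 h3
    apply hmin M' h1 h2
    apply le_antisymm
    · exact sup_le (h2.trans hMMt) (le_sup_right.trans hsup.le)
    · refine hsup.symm.le.trans (sup_le ?_ le_sup_right)
      refine h3.symm.le.trans ?_
      exact sup_le (hCle.trans le_sup_right) le_sup_left
  have hMO : M ≤ normalizer (O : Set G) := by
    have h1 := hmin' (M ⊓ normalizer (O : Set G))
      (le_inf hTM (le_normalizer_inf Subgroup.le_normalizer (hTM.trans hMC))) inf_le_left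
      (hS.frattini_sup inf_le_left hMC)
    exact h1.trans inf_le_right
  refine ⟨isPClosed_of_isSylowIn hS (inf_le_left.trans hMO), ?_⟩
  rw [Cfsg.Agent.Lib.Helper1.le_frattini_iff]
  intro K hK
  rw [map_le_iff_le_comap]
  have hM₁' : IsCoatom (K.comap (QuotientGroup.mk' (pCore p ↥M))) :=
    isCoatom_comap_of_surjective (QuotientGroup.mk'_surjective _) hK
  set M₁' := K.comap (QuotientGroup.mk' (pCore p ↥M)) with hM₁'def
  have hQ : pCore p ↥M ≤ M₁' := by
    intro x hx
    rw [hM₁'def, mem_comap]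
    have : QuotientGroup.mk' (pCore p ↥M) x = 1 := (QuotientGroup.eq_one_iff x).mpr hx
    rw [this]; exact one_mem K
  by_contra hne
  have htop : C.subgroupOf M ⊔ M₁' = ⊤ := by
    rcases hM₁'.le_iff.mp (le_sup_right : M₁' ≤ C.subgroupOf M ⊔ M₁') with h | h
    · exact h
    · exact absurd (h ▸ le_sup_left) hne
  set M₁ := M₁'.map M.subtype with hM₁
  have hM₁M : M₁ ≤ M := map_subtype_le _
  have hsup1 : C ⊔ M₁ = M := by
    have := congrArg (Subgroup.map M.subtype) htop
    rwa [Subgroup.map_sup, map_subgroupOf_eq_of_le inf_le_left, ← MonoidHom.range_eq_map,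
      range_subtype] at this
  have hOM₁ : O ≤ M₁ :=
    (le_pCoreOf (inf_le_left.trans hTM) hMO hS.isPGroup).trans (map_mono hQ)
  obtain ⟨d, hd, hTd⟩ := exists_le_cj_sup_rel hMC hS hMO T.2 hTM hsup1
  rw [sup_eq_right.mpr hOM₁] at hTd
  have hdM : cj d M = M := cj_eq_self_of_mem hd
  have h2 : cj d M₁ ≤ M := hdM ▸ cj_mono hM₁M
  have h3 : C ⊔ cj d M₁ = M := by
    have := congrArg (cj d) hsup1
    rwa [cj_sup, cj_eq_self_of_mem_normalizer (hMC hd), hdM] at this
  have h4 : M ≤ cj d M₁ := hmin' _ hTd h2 h3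
  have h5 : M₁ = M := by
    apply cj_injective d
    rw [hdM]
    exact le_antisymm h2 h4
  apply hM₁'.1
  apply map_injective (subtype_injective M)
  rw [← hM₁, h5, ← MonoidHom.range_eq_map, range_subtype]

theorem exists_frakM (hH : IsOfParabolicCharacteristic p G) (T : Sylow p G) {L : Subgroup G}
    (hTL : (T : Subgroup G) ≤ L) (hL : InL p L) :
    ∃ M Ls : Subgroup G, (T : Subgroup G) ≤ M ∧ IsInFrakM p M ∧ (T : Subgroup G) ≤ Ls ∧ Ls ≤ M ∧
      InL p Ls ∧ largestPReducedOf p L = largestPReducedOf p Ls ∧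
      largestPReducedOf p L ≤ largestPReducedOf p M ∧
      L ⊔ centralizer (largestPReducedOf p L : Set G) =
        Ls ⊔ centralizer (largestPReducedOf p L : Set G) := by
  -- step 1: choose `M₀` with `L ≪ M₀` and `|Y_{M₀}|` maximal
  let 𝒮 : Set (Subgroup G) := {Z | InL p Z ∧ (T : Subgroup G) ≤ Z ∧ Ll p L Z}
  have hS0 : dag p L ∈ 𝒮 := ⟨inL_dag hH T hL hTL, hTL.trans le_sup_left, Ll_of_dag_le le_rfl⟩
  obtain ⟨M₀, hM₀, hmax⟩ := (Set.toFinite 𝒮).exists_maximalFor
    (fun Z => Nat.card (largestPReducedOf p Z)) 𝒮 ⟨_, hS0⟩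
  obtain ⟨hM₀L, hTM₀, hLM₀⟩ := hM₀
  -- step 2: a maximal member of `𝓛` above `M₀†`
  obtain ⟨Mt, hM₀Mt, hMtL, hMtmax⟩ := (Set.toFinite {Z : Subgroup G | InL p Z}).exists_le_maximal
    (a := dag p M₀) (inL_dag hH T hM₀L hTM₀)
  have hMtL : InL p Mt := hMtL
  have hMtmax : ∀ Z : Subgroup G, InL p Z → Mt ≤ Z → Z ≤ Mt := fun Z h1 h2 => hMtmax h1 h2
  have hTMt : (T : Subgroup G) ≤ Mt := (hTM₀.trans le_sup_left).trans hM₀Mt
  have hYLM₀ := hLM₀.largest_le T hTL hM₀L hTM₀
  have hM₀Mt' : Ll p M₀ Mt := Ll_of_dag_le hM₀Mt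
  have hYM₀Mt := hM₀Mt'.largest_le T hTM₀ hMtL hTMt
  have hLMt : Ll p L Mt := hLM₀.trans hM₀Mt' hYLM₀
  have hYLMt := hYLM₀.trans hYM₀Mt
  have hK : ∀ Z ∈ 𝒮, largestPReducedOf p Mt ≤ largestPReducedOf p Z →
      largestPReducedOf p Mt = largestPReducedOf p Z := by
    intro Z hZ hle
    apply Subgroup.eq_of_le_of_card_ge hle
    have h1 : Nat.card (largestPReducedOf p Z) ≤ Nat.card (largestPReducedOf p M₀) :=
      hmax hZ (Subgroup.card_le_of_le (hYM₀Mt.trans hle))
    exact h1.trans (Subgroup.card_le_of_le hYM₀Mt)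
  have hdagMt : dag p Mt = Mt :=
    le_antisymm (hMtmax _ (inL_dag hH T hMtL hTMt) le_sup_left) le_sup_left
  -- step 3: minimal `M`
  let 𝒯 : Set (Subgroup G) := {M | (T : Subgroup G) ≤ M ∧ M ≤ Mt ∧
    M ⊔ centralizer (largestPReducedOf p Mt : Set G) = Mt}
  obtain ⟨M, ⟨hTM, hMMt, hsup⟩, hMmin⟩ := (Set.toFinite 𝒯).exists_minimal ⟨Mt, hTMt, le_rfl, hdagMt⟩
  have hTS : IsSylowIn p (T : Subgroup G) Mt := isSylowIn_of_sylow T hTMt
  have hML : InL p M := hMtL.of_le hTS hTM hMMt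
  have hYM : largestPReducedOf p M = largestPReducedOf p Mt := by
    apply le_antisymm (largest_mono hMtL hTS hTM hMMt)
    apply largest_le_of_sup_eq ((largest_le_sylow hTS).trans hTM)
    rw [hsup]; exact hdagMt.symm
  have hdagM : M ⊔ centralizer (largestPReducedOf p M : Set G) = Mt := by rw [hYM, hsup]
  have hMtLl : ∀ X : Subgroup G, M ≤ X → Ll p Mt X := by
    intro X hMX
    unfold Ll
    rw [hdagMt]
    calc Mt = M ⊔ centralizer (largestPReducedOf p Mt : Set G) := hsup.symm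
      _ ≤ _ := sup_le_sup_right (le_inf hMMt hMX) _
  have hfr := frakM_of_minimal T hTM hMMt hYM hsup (fun M' h1 h2 h3 =>
    hMmin (show M' ∈ 𝒯 from ⟨h1, h2.trans hMMt, h3⟩) h2)
  have hfrakM : IsInFrakM p M := by
    refine ⟨mem_charPSubgroups_iff.mpr hML, ?_, ?_, ?_, hfr.1, hfr.2⟩
    · rw [hdagM]
      refine ⟨mem_charPSubgroups_iff.mpr hMtL, fun Z hZ hle => ?_⟩
      exact le_antisymm (hMtmax Z (mem_charPSubgroups_iff.mp hZ) hle) hle
    · rintro X ⟨hXL, hXmax⟩ hMX
      rw [hdagM]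
      have hXL' := mem_charPSubgroups_iff.mp hXL
      have hTX : (T : Subgroup G) ≤ X := hTM.trans hMX
      have h1 : Ll p Mt X := hMtLl X hMX
      have h2 := h1.largest_le T hTMt hXL' hTX
      have h3 : X ∈ 𝒮 := ⟨hXL', hTX, hLMt.trans h1 hYLMt⟩
      have h4 := hK X h3 h2
      have h5 : InL p (normalizer (largestPReducedOf p Mt : Set G)) :=
        inL_normalizer hH T (isPGroup_largest Mt) (hMtL.largest_ne_bot hTS)
          (hTMt.trans (isPRedIn_largest Mt).le_normalizer)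
      have h6 : normalizer (largestPReducedOf p Mt : Set G) = X :=
        hXmax _ (mem_charPSubgroups_iff.mpr h5) (h4 ▸ (isPRedIn_largest X).le_normalizer)
      have h7 : normalizer (largestPReducedOf p Mt : Set G) = Mt :=
        le_antisymm (hMtmax _ h5 (isPRedIn_largest Mt).le_normalizer)
          (isPRedIn_largest Mt).le_normalizer
      rw [← h6, h7]
    · rw [hdagM, hYM]
  -- step 4: `L*`
  have hLM : Ll p L M := hLMt.trans (hMtLl M le_rfl) hYLMt
  set L₁ := dag p L ⊓ M with hL₁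
  have hTL₁ : (T : Subgroup G) ≤ L₁ := le_inf (hTL.trans le_sup_left) hTM
  have hL₁L : InL p L₁ := hML.of_le (isSylowIn_of_sylow T hTM) hTL₁ inf_le_right
  have hfac : L₁ ⊔ centralizer (largestPReducedOf p L : Set G) =
      L ⊔ centralizer (largestPReducedOf p L : Set G) :=
    le_antisymm (sup_le inf_le_left le_sup_right) hLM
  have h24 := Cfsg.Agent.S2824.result T L L₁ hTL hTL₁ (Helper47.charP_iff.mpr hL.charP)
    (Helper47.charP_iff.mpr hL₁L.charP) _ rfl hfac _ rfl
  set Ls := L₁ ⊓ normalizer (((T : Subgroup G) ⊓ centralizer (largestPReducedOf p L : Set G) :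
    Subgroup G) : Set G) with hLs
  have hTLs : (T : Subgroup G) ≤ Ls :=
    le_inf hTL₁ (le_normalizer_inf Subgroup.le_normalizer
      ((hTL.trans (isPRedIn_largest L).le_normalizer).trans
        (normalizer_le_normalizer_centralizer _)))
  have hLsM : Ls ≤ M := inf_le_left.trans inf_le_right
  exact ⟨M, Ls, hTM, hfrakM, hTLs, hLsM, hML.of_le (isSylowIn_of_sylow T hTM) hTLs hLsM,
    h24.1.symm, hYM ▸ hYLMt, h24.2⟩

end Finite

end Cfsg.Agent.Lib.Helper47
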