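import Cfsg.Agent.Lib.Helper47.PRed6
import Cfsg.Agent.S0012

set_option autoImplicit false
open Cfsg Subgroup
open scoped Pointwise commutatorElement

namespace Cfsg.Agent.Lib.Helper47

variable {G : Type*} [Group G] {p : ℕ}

theorem mul_pow_mem_commutator {P : Subgroup G} {a b : G} (ha : a ∈ P)
    (hb : b ∈ P) (n : ℕ) : (a * b) ^ n * (a ^ n * b ^ n)⁻¹ ∈ ⁅P, P⁆ := by
  have h1 : Abelianization.of (((⟨a, ha⟩ : P) * ⟨b, hb⟩) ^ n * ((⟨a, ha⟩ : P) ^ n * (⟨b, hb⟩ : P) ^ n)⁻¹) = 1 := by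
    rw [map_mul, map_inv, map_pow, map_mul, map_mul, map_pow, map_pow, mul_pow, mul_inv_cancel]
  rw [← MonoidHom.mem_ker, Abelianization.ker_of] at h1
  rw [← map_subtype_commutator]
  exact ⟨_, h1, by simp⟩

theorem commutator_le_frattiniOf [Finite G] [Fact p.Prime] {P : Subgroup G} (hP : IsPGroup p P) :
    ⁅P, P⁆ ≤ frattiniOf P := by
  rw [← map_subtype_commutator]
  exact map_mono (Cfsg.Agent.S0012.result p hP).1

theorem pow_mem_frattiniOf [Finite G] [Fact p.Prime] {P : Subgroup G} (hP : IsPGroup p P) {x : G}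
    (hx : x ∈ P) : x ^ p ∈ frattiniOf P :=
  ⟨_, (Cfsg.Agent.S0012.result p hP).2 ⟨x, hx⟩, rfl⟩

/-- `N_G(M) = M` for the maximal subgroup of a `Y`-minimal group. -/
theorem IsMinimalOver.normalizer_eq {Y M : Subgroup G} (h : IsMinimalOver Y) (hM : IsCoatom M)
    (hYM : Y ≤ M) : normalizer (M : Set G) = M := by
  rcases hM.le_iff.mp (Subgroup.le_normalizer : M ≤ normalizer (M : Set G)) with h1 | h1
  · exact absurd (IsMinimalOver.eq_top_of_normal h (normalizer_eq_top_iff.mp h1) hYM) hM.1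
  · exact h1

/-- in a `Y`-minimal group, `⟨Y, Y^g⟩ = G` for `g ∉ M`. -/
theorem IsMinimalOver.sup_cj_eq_top [Finite G] {Y M : Subgroup G} (h : IsMinimalOver Y)
    (hM : IsCoatom M) (hYM : Y ≤ M) {g : G} (hg : g ∉ M) : Y ⊔ cj g Y = ⊤ := by
  by_contra hne
  have h1 : Y ⊔ cj g Y ≤ M := IsMinimalOver.le_of_ne_top h hM hYM le_sup_left hne
  have h2 : Y ≤ cj g⁻¹ M := cj_le_iff.mp (le_sup_right.trans h1)
  obtain ⟨M0, _, huniq⟩ := h.2
  have h3 : cj g⁻¹ M = M :=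
    (huniq _ ⟨isCoatom_cj hM g⁻¹, h2⟩).trans (huniq _ ⟨hM, hYM⟩).symm
  have h4 : g⁻¹ ∈ normalizer (M : Set G) := mem_normalizer_of_cj_eq h3
  rw [IsMinimalOver.normalizer_eq h hM hYM] at h4
  exact hg (by simpa using inv_mem h4)

end Cfsg.Agent.Lib.Helper47
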