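import Cfsg.Agent.Lib.Helper47.QSec
import Cfsg.Agent.Lib.Helper30.Subnormal
import Cfsg.Agent.Lib.Helper1.Fitting
import Cfsg.Agent.S1946
import Cfsg.Prelude.Def_IsolatedElements

set_option autoImplicit false
set_option linter.unusedSectionVars false
open Cfsg Subgroup
open scoped Pointwise commutatorElement

namespace Cfsg.Agent.Lib.Helper47

variable {G : Type*} [Group G] {p : ℕ}

section Finite
variable [Finite G] [hp : Fact p.Prime]

/-- an isolated element is central in every `p`-subgroup containing it. -/
theorem IsIsolated.le_centralizer {x : G} (hx : IsIsolated x) {T : Subgroup G} (hT : IsPGroup p T)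
    (hxT : x ∈ T) : T ≤ centralizer {x} := by
  by_contra hcon
  set X := T ⊓ centralizer {x} with hX
  have hlt : X < T := lt_of_le_of_ne inf_le_left (fun h => hcon (inf_eq_left.mp h))
  obtain ⟨s, hs, hsX⟩ := SetLike.exists_of_lt (lt_inf_normalizer hT hlt)
  have hxX : x ∈ X := mem_inf.mpr ⟨hxT, mem_centralizer_singleton_iff.mpr rfl⟩
  have h1 : s * x * s⁻¹ ∈ X := conj_mem_of_mem_normalizer hs.2 hxX
  have h2 : Commute x (s * x * s⁻¹) := (mem_centralizer_singleton_iff.mp h1.2).symm
  have h3 := hx s h2
  apply hsX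
  refine mem_inf.mpr ⟨hs.1, mem_centralizer_singleton_iff.mpr ?_⟩
  calc s * x = (s * x * s⁻¹) * s := by group
    _ = x * s := by rw [h3]

theorem IsSylowIn.inf_of_isSubnormal {T L : Subgroup G} (hT : IsSylowIn p T ⊤)
    (hL : L.IsSubnormal) : IsSylowIn p (T ⊓ L) L := by
  induction hL with
  | top => rwa [inf_top_eq]
  | step L L₁ hle hsub hN ih =>
    have hn : L₁ ≤ normalizer (L : Set G) := (normal_subgroupOf_iff_le_normalizer hle).mp hN
    have e : T ⊓ L₁ ⊓ L = T ⊓ L := by rw [inf_assoc, inf_eq_right.mpr hle]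
    exact e ▸ ih.inf_of_normal hle hn

/-- a perfect group with a normal `p`-complement is a `p'`-group. -/
theorem coprime_card_of_perfect_of_hasNormalPComplement {L : Type*} [Group L] [Finite L]
    [hL : Group.IsPerfect L] (h : HasNormalPComplement p L) : (Nat.card L).Coprime p := by
  obtain ⟨P, N, hN, hc⟩ := h
  have h1 : N.index = Nat.card (P : Subgroup L) := hc.symm.index_eq_card
  have h2 : IsPGroup p (L ⧸ N) := by
    obtain ⟨n, hn⟩ := IsPGroup.iff_card.mp P.2
    apply IsPGroup.of_card (n := n)
    rw [← hn, ← h1]; rfl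
  have h3 : Group.IsNilpotent (L ⧸ N) := h2.isNilpotent
  have h4 : Subsingleton (L ⧸ N) := by
    by_contra hns
    rw [not_subsingleton_iff_nontrivial] at hns
    exact Group.IsPerfect.not_isNilpotent (L ⧸ N) h3
  have h5 : Nat.card (P : Subgroup L) = 1 := by
    rw [← h1]
    exact Nat.card_eq_one_iff_unique.mpr ⟨h4, ⟨1⟩⟩
  have h6 := P.card_coprime_index
  rw [h5] at h6
  have h7 : Nat.card L = (P : Subgroup L).index := by
    have := (P : Subgroup L).card_mul_index
    rw [h5, one_mul] at this
    exact this.symm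
  rw [h7]
  have h8 := P.not_dvd_index
  exact ((Nat.Prime.coprime_iff_not_dvd hp.out).mpr h8).symm

/-- in a group of `p`-rank at most 2, three pairwise commuting elements of order dividing `p`
are dependent. -/
theorem mem_sup_zpowers_of_rank {x z a : G} (hrank : PRankLE p 2 G) (hx : x ^ p = 1) (hx1 : x ≠ 1)
    (hz : z ^ p = 1) (ha : a ^ p = 1) (hxz : Commute x z) (hxa : Commute x a) (hza : Commute z a)
    (hzx : z ∉ zpowers x) : a ∈ zpowers x ⊔ zpowers z := by
  set H := closure ({x, z, a} : Set G) with hH
  have hHab : H ≤ centralizer (H : Set G) := by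
    have key : ∀ g ∈ ({x, z, a} : Set G), H ≤ centralizer {g} := by
      intro g hg
      rw [hH, closure_le]
      intro h hh
      rw [SetLike.mem_coe, mem_centralizer_singleton_iff]
      simp only [Set.mem_insert_iff, Set.mem_singleton_iff] at hg hh
      rcases hg with rfl | rfl | rfl <;> rcases hh with rfl | rfl | rfl <;>
        first | rfl | exact hxz.eq | exact hxz.eq.symm | exact hxa.eq | exact hxa.eq.symm |
          exact hza.eq | exact hza.eq.symm
    rw [le_centralizer_comm]
    conv_lhs => rw [hH]
    rw [closure_le]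
    intro g hg
    rw [SetLike.mem_coe, mem_centralizer_iff]
    intro h hh
    exact (mem_centralizer_singleton_iff.mp (key g hg hh))
  set B := omegaOne p H with hB
  have hBe : IsElementaryAbelian p B := isElementaryAbelian_omegaOne hHab
  have hmem : ∀ g ∈ ({x, z, a} : Set G), g ^ p = 1 → g ∈ B :=
    fun g hg hgp => subset_closure ⟨subset_closure hg, hgp⟩
  have hxB : x ∈ B := hmem x (by simp) hx
  have hzB : z ∈ B := hmem z (by simp) hz
  have haB : a ∈ B := hmem a (by simp) ha
  have hcard : Nat.card B ≤ p ^ 2 := hrank B hBe.1 hBe.2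
  set A := zpowers x ⊔ zpowers z with hA
  have hAB : A ≤ B := sup_le (zpowers_le.mpr hxB) (zpowers_le.mpr hzB)
  have hAp : IsPGroup p A := (IsElementaryAbelian.isPGroup hBe).to_le hAB
  obtain ⟨k, hk⟩ := IsPGroup.iff_card.mp hAp
  have hxo : orderOf x = p := orderOf_eq_prime hx hx1
  have hlt : p < Nat.card A := by
    by_contra hle
    have h1 : zpowers x = A := by
      apply Subgroup.eq_of_le_of_card_ge le_sup_left
      rw [Nat.card_zpowers, hxo]
      exact not_lt.mp hle
    apply hzx
    rw [h1]
    exact mem_sup_right (mem_zpowers z)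
  have hk2 : 2 ≤ k := by
    rw [hk] at hlt
    by_contra h
    have : k ≤ 1 := by omega
    have h2 : p ^ k ≤ p ^ 1 := Nat.pow_le_pow_right hp.out.pos this
    rw [pow_one] at h2
    omega
  have hAeq : A = B := by
    apply Subgroup.eq_of_le_of_card_ge hAB
    rw [hk]
    exact hcard.trans (Nat.pow_le_pow_right hp.out.pos hk2)
  rw [hAeq]
  exact haB

/-- **no fusion**: a perfect subnormal subgroup centralized by an element of order `p` commuting
with the isolated element `x` and outside `⟨x⟩` is a `p'`-group. -/
theorem coprime_card_of_isolated {L : Subgroup G} (hLsn : L.IsSubnormal) (hLperf : ⁅L, L⁆ = L)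
    (hp2 : p ≠ 2) (hrank : PRankLE p 2 G) (S : Sylow p G) {x z : G} (hxS : x ∈ S)
    (hxo : orderOf x = p) (hiso : IsIsolated x) (hzo : orderOf z = p)
    (hzL : z ∈ centralizer (L : Set G)) (hxz : Commute x z) (hzx : z ∉ zpowers x) :
    (Nat.card L).Coprime p := by
  set T := (S : Subgroup G) ⊓ L with hT
  have hTs : IsSylowIn p T L := (isSylowIn_top S).inf_of_isSubnormal hLsn
  have hSx : (S : Subgroup G) ≤ centralizer {x} := IsIsolated.le_centralizer hiso S.2 hxS
  have hx1 : x ≠ 1 := by
    intro h
    rw [h, orderOf_one] at hxo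
    exact hp.out.one_lt.ne hxo
  have hxp : x ^ p = 1 := by rw [← hxo]; exact pow_orderOf_eq_one x
  have hzp : z ^ p = 1 := by rw [← hzo]; exact pow_orderOf_eq_one z
  set A := zpowers x ⊔ zpowers z with hA
  have claim1 : ∀ a ∈ T, a ^ p = 1 → a ∈ A := by
    intro a ha hap
    have h1 : Commute x a := (mem_centralizer_singleton_iff.mp (hSx ha.1)).symm
    have h2 : Commute z a := ((mem_centralizer_iff.mp hzL) a ha.2).symm
    exact mem_sup_zpowers_of_rank hrank hxp hx1 hzp hap hxz h1 h2 hzx
  have hAx : A ≤ centralizer {x} := by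
    apply sup_le
    · rw [zpowers_le]; exact mem_centralizer_singleton_iff.mpr rfl
    · rw [zpowers_le]; exact mem_centralizer_singleton_iff.mpr hxz.eq.symm
  have hzn : zpowers z ≤ normalizer ((zpowers x : Subgroup G) : Set G) := by
    refine le_trans ?_ (centralizer_le_normalizer _)
    rw [zpowers_le, mem_centralizer_iff]
    intro h hh
    obtain ⟨i, rfl⟩ := mem_zpowers_iff.mp hh
    exact (hxz.zpow_left i).eq
  have claim2 : ∀ a ∈ T, a ^ p = 1 → ∀ l ∈ L, l * a * l⁻¹ ∈ T → l * a * l⁻¹ = a := by
    intro a ha hap l hl hb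
    obtain ⟨u, hu, v, hv, rfl⟩ := mem_sup_of_le_normalizer hzn (claim1 a ha hap)
    have hbp : (l * (u * v) * l⁻¹) ^ p = 1 := by rw [conj_pow, hap]; group
    have hbA := claim1 _ hb hbp
    have hlv : l * v * l⁻¹ = v := by
      obtain ⟨j, rfl⟩ := mem_zpowers_iff.mp hv
      have h1 : Commute l z := ((mem_centralizer_iff.mp hzL) l hl)
      have := (h1.zpow_right j).eq
      rw [this]; group
    have e : l * (u * v) * l⁻¹ = (l * u * l⁻¹) * v := by
      calc l * (u * v) * l⁻¹ = (l * u * l⁻¹) * (l * v * l⁻¹) := by group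
        _ = _ := by rw [hlv]
    have huA : l * u * l⁻¹ ∈ A := by
      have : l * u * l⁻¹ = (l * (u * v) * l⁻¹) * v⁻¹ := by rw [e]; group
      rw [this]
      exact mul_mem hbA (inv_mem (mem_sup_right hv))
    have hlu : l * u * l⁻¹ = u := by
      by_cases hu1 : u = 1
      · rw [hu1]; group
      · have hcard : Nat.card (zpowers x) = p := by rw [Nat.card_zpowers, hxo]
        have h1 : (⟨x, mem_zpowers x⟩ : zpowers x) ∈ zpowers (⟨u, hu⟩ : zpowers x) :=
          mem_zpowers_of_prime_card hcard (fun h => hu1 (congrArg Subtype.val h))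
        obtain ⟨k, hk⟩ := mem_zpowers_iff.mp h1
        have hk' : u ^ k = x := by simpa using congrArg Subtype.val hk
        have h2 : l * x * l⁻¹ ∈ A := by
          rw [← hk', ← conj_zpow]
          exact zpow_mem huA k
        have h3 : Commute x (l * x * l⁻¹) := (mem_centralizer_singleton_iff.mp (hAx h2)).symm
        have h4 := hiso l h3
        obtain ⟨i, rfl⟩ := mem_zpowers_iff.mp hu
        rw [← conj_zpow, h4]
    rw [e, hlu]
  have : Group.IsPerfect ↥L := Subgroup.isPerfect_iff.mpr hLperf
  apply coprime_card_of_perfect_of_hasNormalPComplement (p := p)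
  rw [Cfsg.Agent.S1946.result hTs.toSylow]
  intro a ha hap g hg
  refine ⟨1, one_mem _, ?_⟩
  have hap' : (a : G) ^ p = 1 := by
    rcases hap with h | h
    · simpa using congrArg Subtype.val h
    · exact absurd h.1 hp2
  have ha' : (a : G) ∈ T := ha
  have hg' : (g : G) * a * (g : G)⁻¹ ∈ T := hg
  have := claim2 a ha' hap' g g.2 hg'
  apply Subtype.ext
  simpa using this

theorem coprime_card_of_isSylowIn_bot {L : Subgroup G} (h : IsSylowIn p ⊥ L) :
    (Nat.card L).Coprime p := by
  have h1 := h.not_dvd_relIndex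
  rw [relIndex_bot_left] at h1
  exact ((Nat.Prime.coprime_iff_not_dvd hp.out).mpr h1).symm

theorem exists_orderOf_eq_of_isPGroup_ne_bot {Q : Subgroup G} (hQ : IsPGroup p Q) (hne : Q ≠ ⊥) :
    ∃ z ∈ Q, orderOf z = p := by
  obtain ⟨n, hn⟩ := IsPGroup.iff_card.mp hQ
  have hn0 : n ≠ 0 := by
    rintro rfl
    rw [pow_zero] at hn
    exact hne (Subgroup.card_eq_one.mp hn)
  have hdvd : p ∣ Nat.card Q := by
    rw [hn]; exact dvd_pow_self p hn0
  obtain ⟨y, hy⟩ := exists_prime_orderOf_dvd_card' p hdvd
  exact ⟨y, y.2, by rw [Subgroup.orderOf_coe]; exact hy⟩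

/-- **isolated elements in `p`-rank 2**. -/
theorem genFitting_simple_of_isolated (hp2 : p ≠ 2) (hcore : pPrimeCore p G = ⊥)
    (hrank : PRankLE p 2 G) (x : G) (hxo : orderOf x = p) (hiso : IsIsolated x)
    (hnc : x ∉ center G) :
    IsSimpleGroup ↥(generalizedFittingSubgroup G) ∧
      ¬ IsMulCommutative ↥(generalizedFittingSubgroup G) := by
  have hxP : IsPGroup p (zpowers x) := by
    apply IsPGroup.of_card (n := 1)
    rw [Nat.card_zpowers, hxo, pow_one]
  obtain ⟨S, hS⟩ := hxP.exists_le_sylow
  have hxS : x ∈ S := hS (mem_zpowers x)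
  have hSx : (S : Subgroup G) ≤ centralizer {x} := IsIsolated.le_centralizer hiso S.2 hxS
  have hF : fittingSubgroup G = pCore p G := by
    rw [Helper1.fittingSubgroup_eq_iSup_pCore]
    apply le_antisymm
    · apply iSup_le
      intro q
      by_cases hq : (q : ℕ) = p
      · rw [hq]
      · have h1 : pCore (q : ℕ) G ≤ pPrimeCore p G := by
          apply Helper1.le_pPrimeCore pCore_normal
          have : Fact (q : ℕ).Prime := ⟨q.2⟩
          obtain ⟨n, hn⟩ := IsPGroup.iff_card.mp (pCore_isPGroup (p := (q : ℕ)) (G := G))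
          rw [hn]
          exact Nat.Coprime.pow_left n ((Nat.coprime_primes q.2 hp.out).mpr hq)
        rw [hcore] at h1
        exact h1.trans bot_le
    · exact le_iSup (fun q : Nat.Primes => pCore (q : ℕ) G) ⟨p, hp.out⟩
  have hn := Helper31.genFitting_normal (G := G)
  -- a component not centralized by `x`
  have claimB : ∃ L : Subgroup G, IsComponent L ∧ ¬ L ≤ centralizer {x} := by
    by_contra hcon
    push Not at hcon
    have hlay : layer G ≤ centralizer {x} := sSup_le (fun K hK => hcon K hK)
    have hFs : generalizedFittingSubgroup G ≤ centralizer {x} :=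
      sup_le hlay (hF ▸ (pCore_le_sylow S).trans hSx)
    have hxC : x ∈ centralizer (generalizedFittingSubgroup G : Set G) := by
      rw [mem_centralizer_iff]
      intro h hh
      exact (mem_centralizer_singleton_iff.mp (hFs hh))
    have hxF : x ∈ generalizedFittingSubgroup G := Helper31.centralizer_genFitting_le hxC
    have hCn : (centralizer (generalizedFittingSubgroup G : Set G)).Normal := inferInstance
    apply hnc
    rw [mem_center_iff]
    intro g
    have hgC := hCn.conj_mem x hxC g
    have hcomm : Commute x (g * x * g⁻¹) := (mem_centralizer_iff.mp hgC x hxF)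
    have h3 := hiso g hcomm
    calc g * x = (g * x * g⁻¹) * g := by group
      _ = x * g := by rw [h3]
  obtain ⟨L, hL, hLx⟩ := claimB
  have hpne : ∀ K : Subgroup G, IsComponent K → ¬ (Nat.card K).Coprime p := by
    intro K hK hc
    have := Helper30.subnormal_coprime_le_pPrimeCore p hK.1 hc
    rw [hcore] at this
    exact Helper31.IsComponent.ne_bot hK (le_bot_iff.mp this)
  have hSC : (S : Subgroup G) ⊓ centralizer (L : Set G) = ⊥ := by
    by_contra hne
    obtain ⟨z, hz, hzo⟩ := exists_orderOf_eq_of_isPGroup_ne_bot (S.2.to_le inf_le_left) hne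
    have hxz : Commute x z := (mem_centralizer_singleton_iff.mp (hSx hz.1)).symm
    have hzx : z ∉ zpowers x := by
      intro hzx
      have hcard : Nat.card (zpowers x) = p := by rw [Nat.card_zpowers, hxo]
      have hz1 : z ≠ 1 := by
        intro h
        rw [h, orderOf_one] at hzo
        exact hp.out.one_lt.ne hzo
      have h1 : (⟨x, mem_zpowers x⟩ : zpowers x) ∈ zpowers (⟨z, hzx⟩ : zpowers x) :=
        mem_zpowers_of_prime_card hcard (fun h => hz1 (congrArg Subtype.val h))
      obtain ⟨k, hk⟩ := mem_zpowers_iff.mp h1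
      have hk' : z ^ k = x := by simpa using congrArg Subtype.val hk
      have hxL : x ∈ centralizer (L : Set G) := by
        rw [← hk']
        exact (centralizer (L : Set G)).zpow_mem hz.2 k
      apply hLx
      intro l hl
      exact mem_centralizer_singleton_iff.mpr ((mem_centralizer_iff.mp hxL) l hl)
    exact hpne L hL (coprime_card_of_isolated hL.1 (Helper31.IsComponent.perfect hL) hp2 hrank S
      hxS hxo hiso hzo hz.2 hxz hzx)
  have hOp : pCore p G = ⊥ := by
    rw [eq_bot_iff, ← hSC]
    refine le_inf (pCore_le_sylow S) ?_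
    have hsolv : Group.IsSolvable ↥(pCore p G) := by
      have := (pCore_isPGroup (p := p) (G := G)).isNilpotent
      infer_instance
    have hinv : L ≤ normalizer ((pCore p G : Subgroup G) : Set G) := by
      have := pCore_normal (p := p) (G := G)
      rw [normalizer_eq_top]; exact le_top
    have := Helper31.IsComponent.commutator_eq_bot_of_isSolvable hL hsolv hinv
    rw [commutator_comm] at this
    exact commutator_eq_bot_iff_le_centralizer.mp this
  have huniq : ∀ K : Subgroup G, IsComponent K → K = L := by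
    intro K hK
    by_contra hne
    have h1 := Helper31.IsComponent.commutator_eq_bot_of_ne hK hL hne
    have h2 : K ≤ centralizer (L : Set G) := commutator_eq_bot_iff_le_centralizer.mp h1
    have h3 : (S : Subgroup G) ⊓ K = ⊥ := by
      rw [eq_bot_iff, ← hSC]
      exact inf_le_inf_left _ h2
    have h4 : IsSylowIn p ((S : Subgroup G) ⊓ K) K := (isSylowIn_top S).inf_of_isSubnormal hK.1
    rw [h3] at h4
    exact hpne K hK (coprime_card_of_isSylowIn_bot h4)
  have hlayer : layer G = L :=
    le_antisymm (sSup_le (fun K hK => (huniq K hK).le)) (Helper31.IsComponent.le_layer hL)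
  have hFL : generalizedFittingSubgroup G = L := by
    unfold generalizedFittingSubgroup
    rw [hlayer, hF, hOp, sup_bot_eq]
  have hZ : center ↥L = ⊥ := by
    have h1 : IsPGroup p ↥(center ↥L) := Helper30.center_isPGroup_of_subnormal p hcore hL.1
    have h2 : ((center ↥L).map L.subtype).IsSubnormal := by
      refine Subgroup.IsSubnormal.step _ L (map_subtype_le _) hL.1 ?_
      have e : ((center ↥L).map L.subtype).subgroupOf L = center ↥L :=
        comap_map_eq_self_of_injective (subtype_injective L) _
      rw [e]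
      infer_instance
    have h3 := Helper30.subnormal_pGroup_le_pCore p h2 (h1.map _)
    rw [hOp, le_bot_iff, Subgroup.map_eq_bot_iff_of_injective _ (subtype_injective L)] at h3
    exact h3
  rw [hFL]
  have hperf := hL.2.1
  have hsimp := hL.2.2
  have hnt := Helper31.IsQuasisimple.nontrivial hL.2
  constructor
  · exact ((QuotientGroup.quotientMulEquivOfEq hZ).trans QuotientGroup.quotientBot).symm.isSimpleGroup
  · exact Group.IsPerfect.not_isMulCommutative ↥L

end Finite

end Cfsg.Agent.Lib.Helper47
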