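import Cfsg.Agent.Lib.Helper47.Trace

set_option autoImplicit false
open Cfsg Subgroup
open scoped Pointwise commutatorElement

namespace Cfsg.Agent.Lib.Helper47

variable {G : Type*} [Group G] {p : ℕ}

theorem mem_OmZ {A : Subgroup G} {x : G} (h1 : x ∈ A) (h2 : x ∈ centralizer (A : Set G))
    (h3 : x ^ p = 1) : x ∈ OmZ p A := subset_closure ⟨mem_inf.mpr ⟨h1, h2⟩, h3⟩

theorem pow_eq_one_of_mem_OmZ {A : Subgroup G} {x : G} (h : x ∈ OmZ p A) : x ^ p = 1 :=
  (isElementaryAbelian_iff.mp (isElementaryAbelian_OmZ (p := p) A)).2 x h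

theorem mem_of_pow_mem_of_pow_eq_one {X : Subgroup G} {z : G} {n : ℕ} (hz : z ^ p = 1)
    (hn : n.Coprime p) (h : z ^ n ∈ X) : z ∈ X := by
  obtain ⟨m, hm⟩ := exists_pow_eq_self_of_coprime (x := z) (n := n)
    (Nat.Coprime.coprime_dvd_right (orderOf_dvd_of_pow_eq_one hz) hn)
  rw [← hm]
  exact pow_mem h m

theorem eq_one_of_pow_eq_one_of_coprime {z : G} {n : ℕ} (hz : z ^ p = 1)
    (hn : n.Coprime p) (h : z ^ n = 1) : z = 1 := by
  have := mem_of_pow_mem_of_pow_eq_one (X := ⊥) hz hn (by rw [h]; exact one_mem _)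
  exact mem_bot.mp this

section Finite
variable [Finite G] [hp : Fact p.Prime]

/-- normal subgroups of groups of characteristic `p` have characteristic `p`. -/
theorem charP_of_normal {K L : Subgroup G}
    (hK : K ⊓ centralizer (pCoreOf p K : Set G) ≤ pCoreOf p K) (hLK : L ≤ K)
    (hn : K ≤ normalizer (L : Set G)) :
    L ⊓ centralizer (pCoreOf p L : Set G) ≤ pCoreOf p L := by
  set Q := pCoreOf p K with hQ
  set Q₀ := pCoreOf p L with hQ₀
  have hLQ₀ : L ≤ normalizer (Q₀ : Set G) := le_normalizer_pCoreOf L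
  apply le_pCoreOf inf_le_left
  · exact le_normalizer_inf Subgroup.le_normalizer
      (hLQ₀.trans (normalizer_le_normalizer_centralizer Q₀))
  · apply isPGroup_of_forall_coprime
    intro x hx hxo
    have hxK : x ∈ K := hLK hx.1
    have h1 : ∀ y ∈ Q, Commute y x := by
      apply centralizes_of_step hxo (A := Q) (B := Q₀) (pCoreOf_isPGroup L)
      · intro y hy
        apply pCoreOf_inf_le hLK
        refine mem_inf.mpr ⟨?_, ?_⟩
        · have e : ⁅y, x⁆ = y * (x * y⁻¹ * x⁻¹) := by rw [commutatorElement_def]; group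
          rw [e]
          exact mul_mem hy (conj_mem_of_mem_normalizer (le_normalizer_pCoreOf K hxK) (inv_mem hy))
        · rw [commutatorElement_def]
          exact mul_mem (conj_mem_of_mem_normalizer (hn (pCoreOf_le K hy)) hx.1) (inv_mem hx.1)
      · exact mem_centralizer_iff_commute.mp hx.2
    have h2 : x ∈ Q := hK (mem_inf.mpr ⟨hxK, mem_centralizer_iff_commute.mpr h1⟩)
    exact eq_one_of_mem_pGroup_of_coprime (pCoreOf_isPGroup K) h2 hxo

theorem OmZ_le_OmZ_pCoreOf {K T : Subgroup G}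
    (hK : K ⊓ centralizer (pCoreOf p K : Set G) ≤ pCoreOf p K) (hT : IsSylowIn p T K) :
    OmZ p T ≤ OmZ p (pCoreOf p K) := by
  have hQT : pCoreOf p K ≤ T := pCoreOf_le_of_isSylowIn hT
  have h2 : OmZ p T ≤ centralizer (pCoreOf p K : Set G) :=
    (OmZ_le_centralizer T).trans (centralizer_le (by exact_mod_cast hQT))
  exact le_OmZ ((le_inf ((OmZ_le T).trans hT.le) h2).trans hK) h2
    (fun a ha => pow_eq_one_of_mem_OmZ ha)

/-- **Kieler Lemma**, normal case, relative form. -/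
theorem kieler_normal {K L T : Subgroup G}
    (hK : K ⊓ centralizer (pCoreOf p K : Set G) ≤ pCoreOf p K) (hT : IsSylowIn p T K)
    (hLK : L ≤ K) (hn : K ≤ normalizer (L : Set G)) :
    L ⊓ centralizer (OmZ p T : Set G) = L ⊓ centralizer (OmZ p (T ⊓ L) : Set G) := by
  have hL : L ⊓ centralizer (pCoreOf p L : Set G) ≤ pCoreOf p L := charP_of_normal hK hLK hn
  set T₀ := T ⊓ L with hT₀
  have hT₀S : IsSylowIn p T₀ L := hT.inf_of_normal hLK hn
  set Q := pCoreOf p K with hQ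
  set Q₀ := pCoreOf p L with hQ₀
  set Z := OmZ p T with hZ
  set Z₀ := OmZ p T₀ with hZ₀
  have hZA : Z ≤ OmZ p Q := OmZ_le_OmZ_pCoreOf hK hT
  have hZ₀B : Z₀ ≤ OmZ p Q₀ := OmZ_le_OmZ_pCoreOf hL hT₀S
  have hT₀T : T₀ ≤ T := inf_le_left
  have hT₀L : T₀ ≤ L := inf_le_right
  have hZcT₀ : Z ≤ centralizer (T₀ : Set G) :=
    (OmZ_le_centralizer T).trans (centralizer_le (by exact_mod_cast hT₀T))
  apply le_antisymm
  · -- direction B
    set E := L ⊓ centralizer (Z : Set G) with hE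
    refine le_inf inf_le_left ?_
    set B := OmZ p Q₀ with hB
    have hLB : normalizer (L : Set G) ≤ normalizer (B : Set G) :=
      (normalizer_le_normalizer_pCoreOf L).trans (normalizer_le_normalizer_OmZ Q₀)
    have hEB : E ≤ normalizer (B : Set G) := (inf_le_left.trans Subgroup.le_normalizer).trans hLB
    have hT₀E : T₀ ≤ E := le_inf hT₀L (le_centralizer_comm.mp hZcT₀)
    obtain ⟨τ, hτ⟩ := exists_isTrace (B := B) (E := E) T₀
      (IsElementaryAbelian.le_centralizer (isElementaryAbelian_OmZ (p := p) Q₀)) hEB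
    set n := T₀.relIndex E with hn'
    have hnp : n.Coprime p :=
      ((Nat.Prime.coprime_iff_not_dvd hp.out).mpr (hT₀S.mono hT₀E inf_le_left).not_dvd_relIndex).symm
    have hBT₀ : B ≤ T₀ := (OmZ_le Q₀).trans (pCoreOf_le_of_isSylowIn hT₀S)
    have hZ₀c : Z₀ ≤ centralizer (T₀ : Set G) := OmZ_le_centralizer T₀
    have hτZ₀ : ∀ f ∈ Z₀, τ f ∈ Z₀ := by
      intro f hf
      have h1 := hτ.mem f (hZ₀B hf)
      have h2 := hτ.fixed f (hZ₀B hf) (hZ₀c hf)
      exact mem_OmZ (hBT₀ h1) (centralizer_le (by exact_mod_cast hT₀E) h2) (pow_eq_one_of_mem_OmZ h1)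
    let F₂ : Subgroup G :=
      { carrier := {g | g ∈ Z₀ ∧ τ g = 1}
        mul_mem' := by
          rintro a b ⟨ha, ha'⟩ ⟨hb, hb'⟩
          exact ⟨mul_mem ha hb, by rw [hτ.mul a (hZ₀B ha) b (hZ₀B hb), ha', hb', one_mul]⟩
        one_mem' := ⟨one_mem _, hτ.one⟩
        inv_mem' := by
          rintro a ⟨ha, ha'⟩
          exact ⟨inv_mem ha, by rw [hτ.inv (hZ₀B ha), ha', inv_one]⟩ }
    have hF₂mem : ∀ g, g ∈ F₂ ↔ g ∈ Z₀ ∧ τ g = 1 := fun g => Iff.rfl
    have hTK : T ≤ K := hT.le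
    have hTL : T ≤ normalizer (L : Set G) := hTK.trans hn
    have hTT₀ : T ≤ normalizer (T₀ : Set G) := le_normalizer_inf Subgroup.le_normalizer hTL
    have hTZ₀ : T ≤ normalizer (Z₀ : Set G) := hTT₀.trans (normalizer_le_normalizer_OmZ T₀)
    have hTE : T ≤ normalizer (E : Set G) :=
      le_normalizer_inf hTL ((Subgroup.le_normalizer.trans (normalizer_le_normalizer_OmZ T)).trans
        (normalizer_le_normalizer_centralizer Z))
    have hTF₂ : T ≤ normalizer (F₂ : Set G) := by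
      apply le_normalizer_of_cj_le
      rintro t ht _ ⟨g, hg, rfl⟩
      have hg' := (hF₂mem g).mp hg
      rw [hF₂mem]
      simp only [MulEquiv.coe_toMonoidHom, MulAut.conj_apply]
      refine ⟨conj_mem_of_mem_normalizer (hTZ₀ ht) hg'.1, ?_⟩
      rw [hτ.equivariant t (hTE ht) (hTT₀ ht) (hLB (hTL ht)) g (hZ₀B hg'.1) (hZ₀c hg'.1), hg'.2]
      group
    have hF₂Z₀ : F₂ ≤ Z₀ := fun g hg => ((hF₂mem g).mp hg).1
    have hF₂bot : F₂ = ⊥ := by
      by_contra hne
      have h1 := inf_centralizer_ne_bot (p := p)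
        ((IsElementaryAbelian.isPGroup (isElementaryAbelian_OmZ (p := p) T₀)).to_le hF₂Z₀)
        hT.isPGroup hne hTF₂
      apply h1
      rw [eq_bot_iff]
      intro f hf
      have hf1 := (hF₂mem f).mp hf.1
      have hfp : f ^ p = 1 := pow_eq_one_of_mem_OmZ hf1.1
      have hfZ : f ∈ Z := mem_OmZ (hT₀T ((OmZ_le T₀) hf1.1)) hf.2 hfp
      have hfE : f ∈ centralizer (E : Set G) :=
        (le_centralizer_comm.mp (inf_le_right : E ≤ centralizer (Z : Set G))) hfZ
      have h2 := hτ.of_fixed f (hZ₀B hf1.1) hfE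
      rw [hf1.2] at h2
      exact mem_bot.mpr (eq_one_of_pow_eq_one_of_coprime hfp hnp h2.symm)
    rw [le_centralizer_comm]
    intro f hf
    have hfB := hZ₀B hf
    have hτf := hτZ₀ f hf
    have hτfE := hτ.fixed f hfB (hZ₀c hf)
    have hg : f ^ n * (τ f)⁻¹ ∈ F₂ := by
      rw [hF₂mem]
      refine ⟨mul_mem (pow_mem hf n) (inv_mem hτf), ?_⟩
      rw [hτ.mul _ (pow_mem hfB n) _ (inv_mem (hZ₀B hτf)), hτ.pow hfB, hτ.inv (hZ₀B hτf),
        hτ.of_fixed _ (hZ₀B hτf) hτfE, mul_inv_cancel]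
    rw [hF₂bot, mem_bot, mul_inv_eq_one] at hg
    exact mem_of_pow_mem_of_pow_eq_one (pow_eq_one_of_mem_OmZ hf) hnp (hg ▸ hτfE)
  · -- direction A
    set E₀ := L ⊓ centralizer (Z₀ : Set G) with hE₀
    refine le_inf inf_le_left ?_
    set A := OmZ p Q with hA
    have hKA : K ≤ normalizer (A : Set G) :=
      (le_normalizer_pCoreOf K).trans (normalizer_le_normalizer_OmZ Q)
    have hE₀A : E₀ ≤ normalizer (A : Set G) := (inf_le_left.trans hLK).trans hKA
    have hT₀E₀ : T₀ ≤ E₀ := le_inf hT₀L (le_centralizer_comm.mp (OmZ_le_centralizer T₀))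
    obtain ⟨τ, hτ⟩ := exists_isTrace (B := A) (E := E₀) T₀
      (IsElementaryAbelian.le_centralizer (isElementaryAbelian_OmZ (p := p) Q)) hE₀A
    set n := T₀.relIndex E₀ with hn'
    have hnp : n.Coprime p :=
      ((Nat.Prime.coprime_iff_not_dvd hp.out).mpr (hT₀S.mono hT₀E₀ inf_le_left).not_dvd_relIndex).symm
    rw [le_centralizer_comm]
    intro z hz
    have hzA := hZA hz
    have hzK : z ∈ K := hT.le (OmZ_le T hz)
    have hτz := hτ.fixed z hzA (hZcT₀ hz)
    have ha : τ z * (z ^ n)⁻¹ ∈ A ⊓ L := by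
      apply hτ.div_mem _ z hzA
      intro e he
      refine mem_inf.mpr ⟨mul_mem (conj_mem_of_mem_normalizer (hE₀A he) hzA) (inv_mem hzA), ?_⟩
      have e1 : e * z * e⁻¹ * z⁻¹ = e * (z * e⁻¹ * z⁻¹) := by group
      rw [e1]
      exact mul_mem he.1 (conj_mem_of_mem_normalizer (hn hzK) (inv_mem he.1))
    have haT₀ : τ z * (z ^ n)⁻¹ ∈ T₀ :=
      mem_inf.mpr ⟨pCoreOf_le_of_isSylowIn hT (OmZ_le Q ha.1), ha.2⟩
    have hac : τ z * (z ^ n)⁻¹ ∈ centralizer (T₀ : Set G) :=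
      mul_mem (centralizer_le (by exact_mod_cast hT₀E₀) hτz) (inv_mem (pow_mem (hZcT₀ hz) n))
    have haZ₀ : τ z * (z ^ n)⁻¹ ∈ Z₀ := mem_OmZ haT₀ hac (pow_eq_one_of_mem_OmZ ha.1)
    have haE₀ : τ z * (z ^ n)⁻¹ ∈ centralizer (E₀ : Set G) :=
      (le_centralizer_comm.mp (inf_le_right : E₀ ≤ centralizer (Z₀ : Set G))) haZ₀
    have hzn : z ^ n ∈ centralizer (E₀ : Set G) := by
      have e : z ^ n = (τ z * (z ^ n)⁻¹)⁻¹ * τ z := by group
      rw [e]
      exact mul_mem (inv_mem haE₀) hτz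
    exact mem_of_pow_mem_of_pow_eq_one (pow_eq_one_of_mem_OmZ hz) hnp hzn

/-- **Kieler Lemma** together with the standard facts on subnormal subgroups of groups of
characteristic `p`. -/
theorem kieler {L T : Subgroup G}
    (hG : (⊤ : Subgroup G) ⊓ centralizer (pCoreOf p (⊤ : Subgroup G) : Set G) ≤ pCoreOf p ⊤)
    (hT : IsSylowIn p T ⊤) (hL : L.IsSubnormal) :
    L ⊓ centralizer (pCoreOf p L : Set G) ≤ pCoreOf p L ∧ IsSylowIn p (T ⊓ L) L ∧
      L ⊓ centralizer (OmZ p T : Set G) = L ⊓ centralizer (OmZ p (T ⊓ L) : Set G) := by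
  induction hL with
  | top => exact ⟨hG, by rwa [inf_top_eq], by rw [inf_top_eq]⟩
  | step L L₁ hle hsub hN ih =>
    obtain ⟨ih1, ih2, ih3⟩ := ih
    have hn : L₁ ≤ normalizer (L : Set G) := (normal_subgroupOf_iff_le_normalizer hle).mp hN
    have e : T ⊓ L₁ ⊓ L = T ⊓ L := by rw [inf_assoc, inf_eq_right.mpr hle]
    refine ⟨charP_of_normal ih1 hle hn, e ▸ ih2.inf_of_normal hle hn, ?_⟩
    have h1 := kieler_normal ih1 ih2 hle hn
    rw [e] at h1
    rw [← h1]
    calc L ⊓ centralizer (OmZ p T : Set G) = L ⊓ (L₁ ⊓ centralizer (OmZ p T : Set G)) := by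
          rw [← inf_assoc, inf_eq_left.mpr hle]
      _ = L ⊓ (L₁ ⊓ centralizer (OmZ p (T ⊓ L₁) : Set G)) := by rw [ih3]
      _ = L ⊓ centralizer (OmZ p (T ⊓ L₁) : Set G) := by rw [← inf_assoc, inf_eq_left.mpr hle]

end Finite

end Cfsg.Agent.Lib.Helper47
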