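import Cfsg.Agent.Lib.Helper47.WC

set_option autoImplicit false
open Cfsg Subgroup
open scoped Pointwise commutatorElement

namespace Cfsg.Agent.Lib.Helper47

variable {G : Type*} [Group G] {p : ℕ}

namespace IsLarge

variable {Q : Subgroup G}

theorem centralizer_le (h : IsLarge Q) : centralizer (Q : Set G) ≤ Q := h.1

theorem normalizer_le (h : IsLarge Q) {U : Subgroup G} (hU : U ≤ centralizer (Q : Set G))
    (hne : U ≠ ⊥) : normalizer (U : Set G) ≤ normalizer (Q : Set G) := h.2 U hU hne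

theorem conj (h : IsLarge Q) (g : G) : IsLarge (cj g Q) := by
  refine ⟨?_, ?_⟩
  · rw [← cj_centralizer]; exact cj_mono h.1
  · intro U hU hne
    rw [← cj_centralizer, le_cj_iff] at hU
    have h1 := h.2 (cj g⁻¹ U) hU (fun h0 => hne (cj_eq_bot_iff.mp h0))
    have h2 := cj_mono (g := g) h1
    rwa [cj_normalizer, cj_normalizer, cj_cj_inv] at h2

section Finite
variable [Finite G] [hp : Fact p.Prime]

/-- every `p`-subgroup containing `Q` normalizes `Q`; more precisely so does its normalizer -/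
theorem normalizer_le_of_isPGroup (h : IsLarge Q) (hQ1 : Q ≠ ⊥) {R : Subgroup G}
    (hR : IsPGroup p R) (hQR : Q ≤ R) : normalizer (R : Set G) ≤ normalizer (Q : Set G) := by
  have hR1 : R ≠ ⊥ := fun h0 => hQ1 (le_bot_iff.mp (h0 ▸ hQR))
  have h1 := center_ne_bot hR hR1
  have h2 : R ⊓ centralizer (R : Set G) ≤ centralizer (Q : Set G) :=
    inf_le_right.trans (Subgroup.centralizer_le (by exact_mod_cast hQR))
  exact (normalizer_le_normalizer_center R).trans (IsLarge.normalizer_le h h2 h1)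

theorem wcIn (h : IsLarge Q) (hQ1 : Q ≠ ⊥) : WCIn p Q ⊤ := by
  intro R hR hQR _ g _ hgR
  obtain ⟨T, hRT⟩ := hR.exists_le_sylow
  have hT1 : normalizer ((T : Subgroup G) : Set G) ≤ normalizer (Q : Set G) :=
    IsLarge.normalizer_le_of_isPGroup h hQ1 T.2 (hQR.trans hRT)
  have hT2 : normalizer ((T : Subgroup G) : Set G) ≤ normalizer ((cj g Q : Subgroup G) : Set G) :=
    IsLarge.normalizer_le_of_isPGroup (IsLarge.conj h g) (fun h0 => hQ1 (cj_eq_bot_iff.mp h0)) T.2 (hgR.trans hRT)
  set M := normalizer (Q : Set G) with hM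
  rw [← cj_normalizer] at hT2
  have hTM : (T : Subgroup G) ≤ M := Subgroup.le_normalizer.trans hT1
  have hS1 : IsSylowIn p (T : Subgroup G) (cj g M) :=
    isSylowIn_of_sylow T (Subgroup.le_normalizer.trans hT2)
  have hS2 : IsSylowIn p (cj g (T : Subgroup G)) (cj g M) := (isSylowIn_of_sylow T hTM).conj g
  obtain ⟨m, hm, hmT⟩ := hS2.exists_conj hS1
  rw [← cj_mul] at hmT
  have h3 : m * g ∈ cj g M := hT2 (mem_normalizer_of_cj_eq hmT)
  have h4 : g ∈ cj g M := by
    have := mul_mem (inv_mem hm) h3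
    rwa [inv_mul_cancel_left] at this
  rw [mem_cj] at h4
  apply cj_eq_self_of_mem_normalizer
  simpa using h4

theorem inf_centralizer_cj_eq_bot (h : IsLarge Q) (hQp : IsPGroup p Q) (hQ1 : Q ≠ ⊥) {g : G}
    (hg : g ∉ normalizer (Q : Set G)) :
    centralizer (Q : Set G) ⊓ centralizer ((cj g Q : Subgroup G) : Set G) = ⊥ := by
  by_contra hne
  set U := centralizer (Q : Set G) ⊓ centralizer ((cj g Q : Subgroup G) : Set G) with hU
  have h1 : normalizer (U : Set G) ≤ normalizer ((cj g Q : Subgroup G) : Set G) :=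
    IsLarge.normalizer_le (IsLarge.conj h g) inf_le_right hne
  have h3 : Q ≤ normalizer ((cj g Q : Subgroup G) : Set G) := by
    refine le_trans ?_ h1
    refine le_trans ?_ (centralizer_le_normalizer _)
    rw [le_centralizer_comm]
    exact inf_le_left
  have h4 : IsPGroup p (cj g Q ⊔ Q : Subgroup G) := IsPGroup_sup (IsPGroup_cj hQp g) hQp h3
  exact hg (mem_normalizer_of_cj_eq
    (IsLarge.wcIn h hQ1 _ h4 le_sup_right le_top g (mem_top g) le_sup_left))

/-- `C(Y) ≤ N(Q)` for a nontrivial `p`-subgroup `Y` normalized by `Q`. -/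
theorem centralizer_le_normalizer_of (h : IsLarge Q) (hQp : IsPGroup p Q) {Y : Subgroup G}
    (hY : IsPGroup p Y) (hY1 : Y ≠ ⊥) (hQY : Q ≤ normalizer (Y : Set G)) :
    centralizer (Y : Set G) ≤ normalizer (Q : Set G) := by
  have h1 := inf_centralizer_ne_bot hY hQp hY1 hQY
  refine le_trans ?_ (IsLarge.normalizer_le h inf_le_right h1)
  refine le_trans ?_ (centralizer_le_normalizer _)
  exact Subgroup.centralizer_le (by exact_mod_cast (inf_le_left : Y ⊓ centralizer (Q : Set G) ≤ Y))

/-- `C_H(O_p(L))` is a `p`-group for `Q ≤ L`, `O_p(L) ≠ 1`. -/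
theorem isPGroup_centralizer_pCoreOf (h : IsLarge Q) (hQp : IsPGroup p Q) (hQ1 : Q ≠ ⊥)
    {L : Subgroup G} (hQL : Q ≤ L) (hL : pCoreOf p L ≠ ⊥) :
    IsPGroup p (centralizer (pCoreOf p L : Set G)) := by
  set P := pCoreOf p L with hP
  have hPp : IsPGroup p P := pCoreOf_isPGroup L
  have hLP : L ≤ normalizer (P : Set G) := le_normalizer_pCoreOf L
  set D := centralizer (P : Set G) with hD
  have hDQ : D ≤ normalizer (Q : Set G) :=
    IsLarge.centralizer_le_normalizer_of h hQp hPp hL (hQL.trans hLP)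
  have hPQ : P ≤ normalizer (Q : Set G) := by
    have h1 : IsPGroup p (P ⊔ Q : Subgroup G) := IsPGroup_sup hPp hQp (hQL.trans hLP)
    exact le_sup_left.trans (Subgroup.le_normalizer.trans
      (IsLarge.normalizer_le_of_isPGroup h hQ1 h1 le_sup_right))
  -- E = C_Q(P) ≤ P
  have hLD : L ≤ normalizer (D : Set G) := hLP.trans (normalizer_le_normalizer_centralizer P)
  have hE : Q ⊓ D ≤ P := by
    have h1 : Q ⊓ D ≤ pCoreOf p (L ⊓ D) := by
      apply le_pCoreOf (le_inf (inf_le_left.trans hQL) inf_le_right)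
      · exact le_normalizer_inf (inf_le_right.trans hDQ) (inf_le_right.trans Subgroup.le_normalizer)
      · exact hQp.to_inf_left
    exact h1.trans (pCoreOf_le_pCoreOf_of_normal inf_le_left
      (le_normalizer_inf Subgroup.le_normalizer hLD))
  apply isPGroup_of_forall_coprime
  intro a haD ha
  have h2 : ∀ x ∈ Q, Commute x a := by
    apply thompson_AxB hQp hPp ha (hDQ haD) hPQ haD
    intro x hx
    exact (mem_centralizer_iff.mp haD) x (hE hx)
  have h3 : a ∈ centralizer (Q : Set G) := mem_centralizer_iff_commute.mpr h2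
  exact eq_one_of_mem_pGroup_of_coprime hQp (IsLarge.centralizer_le h h3) ha

end Finite

end IsLarge

end Cfsg.Agent.Lib.Helper47
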