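import Cfsg.Agent.Lib.Helper47.Basic2

set_option autoImplicit false
open Cfsg Subgroup
open scoped Pointwise commutatorElement

namespace Cfsg.Agent.Lib.Helper47

variable {G : Type*} [Group G] {p : ℕ}

/-- relative `Y`-minimality of `E`, with named maximal subgroup `M`. -/
structure MinOverIn (Y M E : Subgroup G) : Prop where
  le : Y ≤ M
  le' : M ≤ E
  ne : M ≠ E
  max : ∀ X : Subgroup G, Y ≤ X → X ≤ E → X ≠ E → X ≤ M
  ncl_eq : ncl Y E = E

theorem isMinimalOver_iff_top [Finite G] {Y : Subgroup G} :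
    IsMinimalOver Y ↔ ∃ M, MinOverIn Y M ⊤ := by
  constructor
  · intro h
    obtain ⟨M, ⟨hM, hYM⟩, _⟩ := h.2
    refine ⟨M, hYM, le_top, hM.1, ?_, ?_⟩
    · intro X hYX _ hX
      exact IsMinimalOver.le_of_ne_top h hM hYM hYX hX
    · rw [ncl_top]; exact h.1
  · rintro ⟨M, h⟩
    refine ⟨by rw [← ncl_top]; exact h.ncl_eq, M, ⟨⟨h.ne, ?_⟩, h.le⟩, ?_⟩
    · intro X hX
      by_contra hne
      exact absurd (h.max X (h.le.trans hX.le) le_top hne) (not_le_of_gt hX)
    · rintro M' ⟨hM', hYM'⟩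
      have h1 := h.max M' hYM' le_top hM'.1
      by_contra hne
      exact h.ne (hM'.2 M (lt_of_le_of_ne h1 hne))

theorem eq_top_of_map_subtype_eq {E : Subgroup G} {M : Subgroup ↥E} (h : M.map E.subtype = E) :
    M = ⊤ := by
  apply map_injective (subtype_injective E)
  rw [h, ← MonoidHom.range_eq_map, range_subtype]

theorem MinOverIn.map_subtype {E : Subgroup G} {Y M : Subgroup ↥E} (h : MinOverIn Y M ⊤) :
    MinOverIn (Y.map E.subtype) (M.map E.subtype) E := by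
  refine ⟨map_mono h.le, map_subtype_le _, ?_, ?_, ?_⟩
  · intro h1
    exact h.ne (eq_top_of_map_subtype_eq h1)
  · intro X hYX hXE hne
    have h1 : X.subgroupOf E ≤ M := by
      apply h.max _ (map_le_iff_le_comap.mp hYX) le_top
      intro h2
      exact hne (le_antisymm hXE (subgroupOf_eq_top.mp h2))
    have h2 := map_mono (f := E.subtype) h1
    rwa [map_subgroupOf_eq_of_le hXE] at h2
  · have h1 := h.ncl_eq
    rw [ncl_top] at h1
    have h2 := map_normalClosure_subgroupOf (map_subtype_le Y)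
    rw [subgroupOf_map_subtype', h1, ← MonoidHom.range_eq_map, range_subtype] at h2
    exact h2.symm

theorem MinOverIn.subgroupOf {E Y M : Subgroup G} (h : MinOverIn Y M E) :
    MinOverIn (Y.subgroupOf E) (M.subgroupOf E) (⊤ : Subgroup ↥E) := by
  have hYE : Y ≤ E := h.le.trans h.le'
  refine ⟨comap_mono h.le, le_top, ?_, ?_, ?_⟩
  · intro h1
    exact h.ne (le_antisymm h.le' (subgroupOf_eq_top.mp h1))
  · intro X hYX _ hne
    have h1 : X.map E.subtype ≤ M := by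
      apply h.max _ _ (map_subtype_le X)
      · intro h2
        exact hne (eq_top_of_map_subtype_eq h2)
      · have := map_mono (f := E.subtype) hYX
        rwa [map_subgroupOf_eq_of_le hYE] at this
    exact map_le_iff_le_comap.mp h1
  · rw [ncl_top]
    have h2 := map_normalClosure_subgroupOf hYE
    rw [h.ncl_eq] at h2
    exact eq_top_of_map_subtype_eq h2

theorem isMinimalOver_subgroup_iff [Finite G] {E : Subgroup G} {Y : Subgroup ↥E} :
    IsMinimalOver Y ↔ ∃ M, MinOverIn (Y.map E.subtype) M E := by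
  rw [isMinimalOver_iff_top]
  constructor
  · rintro ⟨M, h⟩
    exact ⟨_, h.map_subtype⟩
  · rintro ⟨M, h⟩
    have := h.subgroupOf
    rw [subgroupOf_map_subtype'] at this
    exact ⟨_, this⟩

theorem cj_ncl (g : G) (Y E : Subgroup G) : cj g (ncl Y E) = ncl (cj g Y) (cj g E) := by
  apply le_antisymm
  · rw [cj_le_iff]
    apply ncl_le
    intro e he
    rw [← cj_le_iff, ← cj_mul]
    have : g * e = (g * e * g⁻¹) * g := by group
    rw [this, cj_mul]
    apply cj_le_ncl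
    rw [mem_cj]
    simpa [mul_assoc] using he
  · apply ncl_le
    intro e he
    rw [mem_cj] at he
    rw [← cj_mul]
    have : e * g = g * (g⁻¹ * e * g) := by group
    rw [this, cj_mul]
    exact cj_mono (cj_le_ncl he)

theorem MinOverIn.cj {Y M E : Subgroup G} (h : MinOverIn Y M E) (g : G) :
    MinOverIn (cj g Y) (cj g M) (cj g E) := by
  refine ⟨cj_mono h.le, cj_mono h.le', fun h1 => h.ne (cj_injective g h1), ?_, ?_⟩
  · intro X h1 h2 h3
    rw [le_cj_iff]
    apply h.max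
    · rwa [← cj_le_iff]
    · rwa [← le_cj_iff]
    · intro h4
      apply h3
      rw [← h4, cj_cj_inv]
  · rw [← cj_ncl, h.ncl_eq]

theorem MinOverIn.unique {Y M M' E : Subgroup G} (h : MinOverIn Y M E) (h' : MinOverIn Y M' E) :
    M = M' :=
  le_antisymm (h'.max M h.le h.le' h.ne) (h.max M' h'.le h'.le' h'.ne)

/-- the maximal subgroup is not normal -/
theorem MinOverIn.not_le_normalizer {Y M E : Subgroup G} (h : MinOverIn Y M E) :
    ¬ E ≤ normalizer (M : Set G) := by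
  intro hn
  have h1 : ncl Y E ≤ M := ncl_le_of_normal h.le hn
  rw [h.ncl_eq] at h1
  exact h.ne (le_antisymm h.le' h1)

/-- Dedekind's law. -/
theorem le_inf_sup_of_le_sup {X E P : Subgroup G} (hEP : E ≤ normalizer (P : Set G))
    (hPX : P ≤ X) (hX : X ≤ E ⊔ P) : X ≤ (X ⊓ E) ⊔ P := by
  intro x hx
  have hx' : x ∈ P ⊔ E := by rw [sup_comm]; exact hX hx
  obtain ⟨n, hn, e, he, rfl⟩ := mem_sup_of_le_normalizer hEP hx'
  have h1 : e ∈ X := by
    have : e = n⁻¹ * (n * e) := by group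
    rw [this]; exact mul_mem (inv_mem (hPX hn)) hx
  exact mul_mem (mem_sup_right hn) (mem_sup_left (mem_inf.mpr ⟨h1, he⟩))

/-- Dedekind's law, other form. -/
theorem inf_sup_le_of_le {M E P : Subgroup G} (hMP : M ≤ normalizer (P : Set G))
    (hME : M ≤ E) : E ⊓ (M ⊔ P) ≤ M ⊔ (E ⊓ P) := by
  intro x hx
  obtain ⟨m, hm, n, hn, rfl⟩ := mem_sup_of_le_normalizer' hMP hx.2
  have h1 : n ∈ E := by
    have : n = m⁻¹ * (m * n) := by group
    rw [this]; exact mul_mem (inv_mem (hME hm)) hx.1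
  exact mul_mem (mem_sup_left hm) (mem_sup_right (mem_inf.mpr ⟨h1, hn⟩))

section Finite
variable [Finite G] [hp : Fact p.Prime]

theorem IsSylowIn.sup_pGroup {T E P : Subgroup G} (hT : IsSylowIn p T E) (hP : IsPGroup p P)
    (hEP : E ≤ normalizer (P : Set G)) : IsSylowIn p (T ⊔ P) (E ⊔ P) := by
  refine ⟨sup_le_sup_right hT.le P, ?_, ?_⟩
  · rw [sup_comm]; exact IsPGroup_sup hP hT.isPGroup (hT.le.trans hEP)
  · intro T₁ hT₁ h1 h2
    have h3 : T₁ ≤ (T₁ ⊓ E) ⊔ P := le_inf_sup_of_le_sup hEP (le_sup_right.trans h1) h2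
    have h4 : T₁ ⊓ E = T :=
      hT.eq_of_le hT₁.to_inf_left (le_inf (le_sup_left.trans h1) hT.le) inf_le_right
    rw [h4] at h3
    exact le_antisymm h3 h1

omit [Finite G] hp in
theorem MinOverIn.sup_pGroup {T M E P : Subgroup G} (h : MinOverIn T M E) (hT : IsSylowIn p T E)
    (hP : IsPGroup p P) (hEP : E ≤ normalizer (P : Set G)) :
    MinOverIn (T ⊔ P) (M ⊔ P) (E ⊔ P) := by
  have hEPT : E ⊓ P ≤ T := by
    refine le_trans ?_ (pCoreOf_le_of_isSylowIn hT)
    exact le_pCoreOf inf_le_left (le_normalizer_inf Subgroup.le_normalizer hEP) hP.to_inf_right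
  refine ⟨sup_le_sup_right h.le P, sup_le_sup_right h.le' P, ?_, ?_, ?_⟩
  · intro h1
    apply h.ne
    apply le_antisymm h.le'
    have h2 : E ≤ E ⊓ (M ⊔ P) := le_inf le_rfl (h1 ▸ le_sup_left)
    refine h2.trans ((inf_sup_le_of_le (h.le'.trans hEP) h.le').trans ?_)
    exact sup_le le_rfl (hEPT.trans h.le)
  · intro X h1 h2 h3
    have h4 : X ≤ (X ⊓ E) ⊔ P := le_inf_sup_of_le_sup hEP (le_sup_right.trans h1) h2
    refine h4.trans (sup_le_sup_right ?_ P)
    apply h.max _ (le_inf (le_sup_left.trans h1) hT.le) inf_le_right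
    intro h5
    apply h3
    apply le_antisymm h2
    exact sup_le (inf_eq_right.mp h5) (le_sup_right.trans h1)
  · apply le_antisymm
    · exact ncl_le_self (sup_le_sup_right hT.le P)
    · apply sup_le
      · calc E = ncl T E := h.ncl_eq.symm
          _ ≤ ncl (T ⊔ P) (E ⊔ P) := (ncl_mono_left le_sup_left).trans (ncl_mono_right le_sup_left)
      · exact le_sup_right.trans (le_ncl _ _)

/-- if `E` is `p`-minimal, so is `E P` for a `p`-group `P` normalized by `E`. -/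
theorem exists_minOverIn_sup_pGroup {E P : Subgroup G}
    (h : ∀ T, IsSylowIn p T E → ∃ M, MinOverIn T M E) (hP : IsPGroup p P)
    (hEP : E ≤ normalizer (P : Set G)) :
    ∀ T, IsSylowIn p T (E ⊔ P) → ∃ M, MinOverIn T M (E ⊔ P) := by
  intro T hT
  obtain ⟨T₀, hT₀⟩ := exists_isSylowIn p E
  obtain ⟨M₀, hM₀⟩ := h T₀ hT₀
  obtain ⟨x, hx, hxT⟩ := (hT₀.sup_pGroup hP hEP).exists_conj hT
  have h1 := (hM₀.sup_pGroup hT₀ hP hEP).cj x
  rw [hxT, cj_eq_self_of_mem hx] at h1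
  exact ⟨_, h1⟩

/-- common set-up for a transitive family of subgroups, each normal in the join `R`. -/
structure Fam (p : ℕ) (𝓕 : Set (Subgroup G)) (R : Subgroup G) : Prop where
  nonempty : 𝓕.Nonempty
  inv : ∀ g : G, ∀ F ∈ 𝓕, cj g F ∈ 𝓕
  trans : ∀ F ∈ 𝓕, ∀ F' ∈ 𝓕, ∃ g : G, F' = cj g F
  eq : R = sSup 𝓕
  res : pResidual p G ≤ R
  norm : ∀ F ∈ 𝓕, R ≤ normalizer (F : Set G)

namespace Fam

variable {𝓕 : Set (Subgroup G)} {R : Subgroup G}

omit [Finite G] hp in
theorem le (h : Fam p 𝓕 R) {F : Subgroup G} (hF : F ∈ 𝓕) : F ≤ R := h.eq ▸ le_sSup hF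

omit [Finite G] hp in
theorem le_normalizer (h : Fam p 𝓕 R) (X : Subgroup G) : X ≤ normalizer (R : Set G) := by
  apply le_normalizer_of_cj_le
  intro k _
  rw [cj_le_iff]
  conv_lhs => rw [h.eq]
  apply sSup_le
  intro F hF
  rw [← cj_le_iff]
  exact h.le (h.inv k F hF)

theorem sup_sylow (h : Fam p 𝓕 R) (T : Sylow p G) : R ⊔ (T : Subgroup G) = ⊤ := by
  rw [eq_top_iff, ← pResidual_sup_sylow T]
  exact sup_le_sup_right h.res _

theorem isSylowIn (h : Fam p 𝓕 R) (T : Sylow p G) {F : Subgroup G} (hF : F ∈ 𝓕) :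
    IsSylowIn p ((T : Subgroup G) ⊓ F) F := by
  have h1 : IsSylowIn p ((T : Subgroup G) ⊓ R) R :=
    (isSylowIn_top T).inf_of_normal le_top (h.le_normalizer ⊤)
  have h2 := h1.inf_of_normal (h.le hF) (h.norm F hF)
  rwa [inf_assoc, inf_eq_right.mpr (h.le hF)] at h2

theorem trans_sylow (h : Fam p 𝓕 R) (T : Sylow p G) {F F' : Subgroup G} (hF : F ∈ 𝓕)
    (hF' : F' ∈ 𝓕) : ∃ t ∈ (T : Subgroup G), F' = cj t F := by
  obtain ⟨g, rfl⟩ := h.trans F hF F' hF'
  have hg : g ∈ (T : Subgroup G) ⊔ R := by rw [sup_comm, h.sup_sylow T]; exact mem_top g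
  obtain ⟨t, ht, r, hr, rfl⟩ := mem_sup_of_le_normalizer' (h.le_normalizer _) hg
  exact ⟨t, ht, by rw [cj_mul, cj_eq_self_of_mem_normalizer (h.norm F hF hr)]⟩

theorem le_of_le (h : Fam p 𝓕 R) (T : Sylow p G) {F M : Subgroup G} (hF : F ∈ 𝓕)
    (hTM : (T : Subgroup G) ≤ M) (hFM : F ≤ M) : M = ⊤ := by
  rw [eq_top_iff, ← h.sup_sylow T]
  refine sup_le ?_ hTM
  rw [h.eq]
  apply sSup_le
  intro F' hF'
  obtain ⟨t, ht, rfl⟩ := h.trans_sylow T hF hF'
  have := cj_mono (g := t) hFM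
  rwa [cj_eq_self_of_mem (hTM ht)] at this

/-- **`p`-minimality from a transitive family of `p`-minimal subgroups.** -/
theorem isMinimalOver (h : Fam p 𝓕 R)
    (hmin : ∀ F ∈ 𝓕, ∀ T, IsSylowIn p T F → ∃ M, MinOverIn T M F) (T : Sylow p G) :
    IsMinimalOver (T : Subgroup G) := by
  rw [isMinimalOver_iff_top]
  set 𝓜 : Set (Subgroup G) := {U | ∃ F ∈ 𝓕, MinOverIn ((T : Subgroup G) ⊓ F) U F} with h𝓜
  set X : Subgroup G := R ⊓ ⨅ U ∈ 𝓜, normalizer (U : Set G) with hX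
  have hmemX : ∀ x, x ∈ X ↔ x ∈ R ∧ ∀ U ∈ 𝓜, x ∈ normalizer (U : Set G) := by
    intro x
    rw [hX, mem_inf]
    simp only [mem_iInf]
  have hcjT : ∀ t ∈ (T : Subgroup G), ∀ F : Subgroup G,
      cj t ((T : Subgroup G) ⊓ F) = (T : Subgroup G) ⊓ cj t F := by
    intro t ht F
    rw [cj_inf, cj_eq_self_of_mem ht]
  have h𝓜T : ∀ t ∈ (T : Subgroup G), ∀ U ∈ 𝓜, cj t U ∈ 𝓜 := by
    rintro t ht U ⟨F, hF, hU⟩
    refine ⟨cj t F, h.inv t F hF, ?_⟩
    have := hU.cj t
    rwa [hcjT t ht] at this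
  have hTX : (T : Subgroup G) ≤ normalizer (X : Set G) := by
    apply le_normalizer_of_cj_le
    intro t ht x hx
    rw [mem_cj] at hx
    rw [hmemX] at hx ⊢
    refine ⟨?_, ?_⟩
    · have := conj_mem_of_mem_normalizer (h.le_normalizer _ ht) hx.1
      simpa [mul_assoc] using this
    · intro U hU
      have h1 := hx.2 (cj t⁻¹ U) (h𝓜T t⁻¹ (inv_mem ht) U hU)
      rw [← cj_normalizer, mem_cj] at h1
      simpa [mul_assoc] using h1
  -- proper overgroups of `T`
  have hA : ∀ M : Subgroup G, (T : Subgroup G) ≤ M → M ≠ ⊤ → ∀ F ∈ 𝓕, ∀ U,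
      MinOverIn ((T : Subgroup G) ⊓ F) U F → M ⊓ F ≤ U := by
    intro M hTM hM F hF U hU
    apply hU.max _ (inf_le_inf_right F hTM) inf_le_right
    intro h1
    exact hM (h.le_of_le T hF hTM (inf_eq_right.mp h1))
  have hB : ∀ M : Subgroup G, (T : Subgroup G) ≤ M → M ≠ ⊤ → M ⊓ R ≤ X := by
    intro M hTM hM x hx
    rw [hmemX]
    refine ⟨hx.2, ?_⟩
    rintro U ⟨F, hF, hU⟩
    have h1 := hU.cj x
    rw [cj_eq_self_of_mem_normalizer (h.norm F hF hx.2)] at h1
    have h2 : cj x ((T : Subgroup G) ⊓ F) ≤ U := by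
      refine le_trans ?_ (hA M hTM hM F hF U hU)
      apply le_inf
      · have := cj_mono (g := x) ((inf_le_left : (T : Subgroup G) ⊓ F ≤ _).trans hTM)
        rwa [cj_eq_self_of_mem hx.1] at this
      · exact h1.le.trans h1.le'
    have h3 : U ≤ cj x U := h1.max U h2 hU.le' hU.ne
    exact mem_normalizer_of_cj_eq (cj_eq_of_ge h3)
  refine ⟨X ⊔ (T : Subgroup G), le_sup_right, le_top, ?_, ?_, ?_⟩
  · intro htop
    obtain ⟨F, hF⟩ := h.nonempty
    obtain ⟨U, hU⟩ := hmin F hF _ (h.isSylowIn T hF)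
    apply hU.not_le_normalizer
    intro f hf
    have hf' : f ∈ X ⊔ (T : Subgroup G) := htop ▸ mem_top f
    obtain ⟨x, hx, t, ht, rfl⟩ := mem_sup_of_le_normalizer hTX hf'
    have hxX := (hmemX x).mp hx
    have htR : t ∈ R := by
      have : t = x⁻¹ * (x * t) := by group
      rw [this]; exact mul_mem (inv_mem hxX.1) (h.le hF hf)
    have h1 := hU.cj t
    rw [hcjT t ht, cj_eq_self_of_mem_normalizer (h.norm F hF htR)] at h1
    exact mul_mem (hxX.2 U ⟨F, hF, hU⟩) (mem_normalizer_of_cj_eq (h1.unique hU))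
  · intro M hTM _ hM m hm
    have hm' : m ∈ R ⊔ (T : Subgroup G) := by rw [h.sup_sylow T]; exact mem_top m
    obtain ⟨r, hr, t, ht, rfl⟩ := mem_sup_of_le_normalizer (h.le_normalizer _) hm'
    have hrM : r ∈ M := by
      have : r = (r * t) * t⁻¹ := by group
      rw [this]; exact mul_mem hm (inv_mem (hTM ht))
    exact mul_mem (mem_sup_left (hB M hTM hM (mem_inf.mpr ⟨hrM, hr⟩))) (mem_sup_right ht)
  · rw [eq_top_iff]
    refine (h.sup_sylow T).symm.le.trans (sup_le ?_ (le_ncl _ _))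
    refine h.eq.le.trans ?_
    apply sSup_le
    intro F hF
    obtain ⟨U, hU⟩ := hmin F hF _ (h.isSylowIn T hF)
    calc F = ncl ((T : Subgroup G) ⊓ F) F := hU.ncl_eq.symm
      _ ≤ ncl (T : Subgroup G) ⊤ := (ncl_mono_left inf_le_left).trans (ncl_mono_right le_top)

end Fam

end Finite

end Cfsg.Agent.Lib.Helper47
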