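import Cfsg.Agent.Lib.Helper47.FrakM2

set_option autoImplicit false
open Cfsg Subgroup
open scoped Pointwise commutatorElement

namespace Cfsg.Agent.Lib.Helper47

variable {G : Type*} [Group G] {p : ℕ}

/-- `O_p(G/C) = 1` without quotients. -/
theorem pCore_quotient_eq_bot_iff {C : Subgroup G} [C.Normal] :
    pCore p (G ⧸ C) = ⊥ ↔ ∀ D : Subgroup G, D.Normal → PQuot p D C → D ≤ C := by
  constructor
  · intro hcore D hD hq
    have h1 : (D.map (QuotientGroup.mk' C)).Normal := hD.map _ (QuotientGroup.mk'_surjective _)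
    have h2 : IsPGroup p (D.map (QuotientGroup.mk' C)) := by
      rw [isPGroup_iff_PQuot_bot]
      rintro _ ⟨d, hd, rfl⟩
      obtain ⟨k, hk⟩ := hq d hd
      refine ⟨k, ?_⟩
      rw [← map_pow, mem_bot]
      exact (QuotientGroup.eq_one_iff _).mpr hk
    have h3 := le_pCore h1 h2
    rw [hcore, le_bot_iff, Subgroup.map_eq_bot_iff, QuotientGroup.ker_mk'] at h3
    exact h3
  · intro h
    set D := (pCore p (G ⧸ C)).comap (QuotientGroup.mk' C) with hD
    have h1 : D.Normal := (Helper47.pCore_normal).comap _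
    have h2 : PQuot p D C := by
      intro d hd
      obtain ⟨k, hk⟩ := (isPGroup_iff_PQuot_bot.mp (pCore_isPGroup (p := p) (G := G ⧸ C))) _ hd
      refine ⟨k, ?_⟩
      rw [← map_pow, mem_bot] at hk
      exact (QuotientGroup.eq_one_iff _).mp hk
    have h3 := h D h1 h2
    have h4 := map_mono (f := QuotientGroup.mk' C) h3
    rw [hD, map_comap_eq_self_of_surjective (QuotientGroup.mk'_surjective C)] at h4
    have h5 : C.map (QuotientGroup.mk' C) = ⊥ := by
      rw [Subgroup.map_eq_bot_iff, QuotientGroup.ker_mk']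
    rw [h5] at h4
    exact le_bot_iff.mp h4

theorem PQuot_map_subtype {H : Subgroup G} {D : Subgroup ↥H} {C : Subgroup G} :
    PQuot p D (C.subgroupOf H) ↔ PQuot p (D.map H.subtype) C := by
  constructor
  · rintro h _ ⟨d, hd, rfl⟩
    obtain ⟨k, hk⟩ := h d hd
    exact ⟨k, hk⟩
  · intro h d hd
    obtain ⟨k, hk⟩ := h d ⟨d, hd, rfl⟩
    exact ⟨k, hk⟩

theorem normal_iff_le_normalizer_map {H : Subgroup G} {D : Subgroup ↥H} :
    D.Normal ↔ H ≤ normalizer ((D.map H.subtype : Subgroup G) : Set G) := by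
  rw [← normal_subgroupOf_iff_le_normalizer (map_subtype_le D), subgroupOf_map_subtype']

/-- relative form of `O_p(H/C_H) = 1`. -/
theorem pCore_quotient_subgroupOf_eq_bot_iff {H C : Subgroup G} [(C.subgroupOf H).Normal] :
    pCore p (↥H ⧸ C.subgroupOf H) = ⊥ ↔
      ∀ D : Subgroup G, D ≤ H → H ≤ normalizer (D : Set G) → PQuot p D C → D ≤ C := by
  rw [pCore_quotient_eq_bot_iff]
  constructor
  · intro h D hDH hn hq
    have h1 := h (D.subgroupOf H) ((normal_subgroupOf_iff_le_normalizer hDH).mpr hn)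
      (PQuot_map_subtype.mpr (by rwa [map_subgroupOf_eq_of_le hDH]))
    intro x hx
    exact h1 (show (⟨x, hDH hx⟩ : ↥H) ∈ D.subgroupOf H from hx)
  · intro h D hD hq
    have h1 := h (D.map H.subtype) (map_subtype_le D) (normal_iff_le_normalizer_map.mp hD)
      (PQuot_map_subtype.mp hq)
    intro x hx
    exact h1 ⟨x, hx, rfl⟩

/-- `p`-closedness is invariant under isomorphism. -/
theorem IsPClosed.of_equiv {A B : Type*} [Group A] [Group B] (e : A ≃* B) (h : IsPClosed p A) :
    IsPClosed p B := by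
  intro P
  have h1 : ((P : Subgroup B).comap e.toMonoidHom).Normal :=
    h (P.comapOfInjective e.toMonoidHom e.injective (by
      rw [MonoidHom.range_eq_top.mpr e.surjective]; exact le_top))
  have h2 := h1.map e.toMonoidHom e.surjective
  rwa [map_comap_eq_self_of_surjective e.surjective] at h2

theorem isPClosed_congr {A B : Type*} [Group A] [Group B] (e : A ≃* B) :
    IsPClosed p A ↔ IsPClosed p B := ⟨IsPClosed.of_equiv e, IsPClosed.of_equiv e.symm⟩

theorem isPClosed_map_subtype {H : Subgroup G} (N : Subgroup ↥H) :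
    IsPClosed p ↥(N.map H.subtype) ↔ IsPClosed p ↥N :=
  (isPClosed_congr (N.equivMapOfInjective H.subtype (subtype_injective H))).symm

/-- relative form of `p`-irreducibility. -/
def IsPIrrIn (p : ℕ) (H : Subgroup G) : Prop :=
  ¬ IsPClosed p ↥H ∧ ∀ N : Subgroup G, N ≤ H → H ≤ normalizer (N : Set G) → ¬ IsPClosed p ↥N →
    pResOf p H ≤ N

theorem isPIrreducible_subgroup_iff {H : Subgroup G} : IsPIrreducible p ↥H ↔ IsPIrrIn p H := by
  unfold IsPIrreducible IsPIrrIn
  refine and_congr Iff.rfl ?_
  constructor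
  · intro h N hNH hn hc
    have h1 := h (N.subgroupOf H) ((normal_subgroupOf_iff_le_normalizer hNH).mpr hn) (by
      rwa [← isPClosed_map_subtype, map_subgroupOf_eq_of_le hNH])
    have h2 := map_mono (f := H.subtype) h1
    rwa [map_subgroupOf_eq_of_le hNH] at h2
  · intro h N hN hc
    have h1 := h (N.map H.subtype) (map_subtype_le N) (normal_iff_le_normalizer_map.mp hN) (by
      rwa [isPClosed_map_subtype])
    exact (map_le_map_iff_of_injective (subtype_injective H)).mp h1

end Cfsg.Agent.Lib.Helper47
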