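import Cfsg.Agent.Lib.Helper47.Kieler

set_option autoImplicit false
open Cfsg Subgroup
open scoped Pointwise commutatorElement

namespace Cfsg.Agent.Lib.Helper47

variable {G : Type*} [Group G] {p : ℕ}

theorem PQuot.cj {D C : Subgroup G} (h : PQuot p D C) (g : G) : PQuot p (cj g D) (cj g C) := by
  intro x hx
  rw [mem_cj] at hx
  obtain ⟨k, hk⟩ := h _ hx
  refine ⟨k, ?_⟩
  rw [mem_cj]
  have : g⁻¹ * x ^ p ^ k * g = (g⁻¹ * x * g) ^ p ^ k := by
    have := conj_pow (a := g⁻¹) (b := x) (i := p ^ k)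
    simpa using this.symm
  rwa [this]

theorem IsPRedIn.cj {V L : Subgroup G} (h : IsPRedIn p V L) (g : G) :
    IsPRedIn p (cj g V) (cj g L) := by
  refine ⟨cj_mono h.le, ?_, IsElementaryAbelian.cj h.isElementaryAbelian g, ?_⟩
  · rw [← cj_normalizer]; exact cj_mono h.le_normalizer
  · intro D hD hn hq
    rw [← cj_centralizer, le_cj_iff]
    apply h.le_centralizer_of
    · rwa [← le_cj_iff]
    · rw [← cj_normalizer, le_cj_iff, inv_inv]; exact hn
    · have := hq.cj g⁻¹
      rwa [← cj_centralizer, cj_inv_cj] at this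

theorem cj_largestPReducedOf (g : G) (L : Subgroup G) :
    cj g (largestPReducedOf p L) = largestPReducedOf p (cj g L) := by
  apply le_antisymm
  · exact ((isPRedIn_largest L).cj g).le_largest
  · rw [le_cj_iff]
    have := ((isPRedIn_largest (p := p) (cj g L)).cj g⁻¹).le_largest
    rwa [cj_inv_cj] at this

theorem normalizer_le_normalizer_largest (L : Subgroup G) :
    normalizer (L : Set G) ≤ normalizer (largestPReducedOf p L : Set G) := by
  intro g hg
  apply mem_normalizer_of_cj_eq
  rw [cj_largestPReducedOf, cj_eq_self_of_mem_normalizer hg]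

theorem mem_centralizer_zpowers_iff {x w : G} :
    w ∈ centralizer ((zpowers x : Subgroup G) : Set G) ↔ Commute w x := by
  rw [mem_centralizer_iff]
  constructor
  · intro h1
    exact (h1 x (mem_zpowers x)).symm
  · intro h1 y hy
    obtain ⟨n, rfl⟩ := mem_zpowers_iff.mp hy
    exact (h1.zpow_right n).symm

/-- all `p'`-elements of `D` lie in `C`: then `D/C` is a `p`-group. -/
theorem PQuot_of_forall_coprime [Finite G] [Fact p.Prime] {D C : Subgroup G}
    (h : ∀ x ∈ D, (orderOf x).Coprime p → x ∈ C) : PQuot p D C := by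
  refine (PQuot_pResOf D).mono_right ?_
  rw [pResOf_eq_closure, closure_le]
  exact fun x hx => h x hx.1 hx.2

theorem PQuot.mem_of_coprime {D C : Subgroup G} (h : PQuot p D C) {x : G} (hx : x ∈ D)
    (hxo : (orderOf x).Coprime p) : x ∈ C := by
  obtain ⟨k, hk⟩ := h x hx
  exact mem_of_pow_mem_of_coprime hxo hk

section Finite
variable [Finite G] [hp : Fact p.Prime]

/-- coprime action on an abelian `p`-group: `[V, x] ∩ C_V(x) = 1`. -/
theorem eq_one_of_mem_commutator_of_commute {V : Subgroup G} {x w : G}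
    (hVc : V ≤ centralizer (V : Set G)) (hVp : IsPGroup p V) (hx : x ∈ normalizer (V : Set G))
    (hxo : (orderOf x).Coprime p) (hw : w ∈ ⁅V, zpowers x⁆) (hc : Commute w x) : w = 1 := by
  have hE : zpowers x ≤ normalizer (V : Set G) := by rwa [zpowers_le]
  obtain ⟨τ, hτ⟩ := exists_isTrace (B := V) (E := zpowers x) ⊥ hVc hE
  have hWV : ⁅V, zpowers x⁆ ≤ V := le_normalizer_iff_commutator_le_left.mp hE
  have hbot : ∀ f : G, f ∈ centralizer (((⊥ : Subgroup G) : Subgroup G) : Set G) := by
    intro f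
    rw [mem_centralizer_iff]
    intro y hy
    rw [SetLike.mem_coe, mem_bot] at hy
    rw [hy, one_mul, mul_one]
  let Ker : Subgroup G :=
    { carrier := {g | g ∈ V ∧ τ g = 1}
      mul_mem' := by
        rintro a b ⟨ha, ha'⟩ ⟨hb, hb'⟩
        exact ⟨mul_mem ha hb, by rw [hτ.mul a ha b hb, ha', hb', one_mul]⟩
      one_mem' := ⟨one_mem _, hτ.one⟩
      inv_mem' := by
        rintro a ⟨ha, ha'⟩
        exact ⟨inv_mem ha, by rw [hτ.inv ha, ha', inv_one]⟩ }
  have hle : ⁅V, zpowers x⁆ ≤ Ker := by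
    rw [commutator_le]
    intro v hv e he
    have hev : e * v⁻¹ * e⁻¹ ∈ V := conj_mem_of_mem_normalizer (hE he) (inv_mem hv)
    have e1 : ⁅v, e⁆ = v * (e * v⁻¹ * e⁻¹) := by rw [commutatorElement_def]; group
    refine ⟨by rw [e1]; exact mul_mem hv hev, ?_⟩
    have h2 : τ (e * v⁻¹ * e⁻¹) = (τ v)⁻¹ := by
      rw [hτ.equivariant e (Subgroup.le_normalizer he) (by rw [normalizer_eq_top]; exact mem_top e)
        (hE he) _ (inv_mem hv) (hbot _)]
      rw [conj_eq_of_mem_centralizer (hτ.fixed _ (inv_mem hv) (hbot _)) he, hτ.inv hv]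
    rw [e1, hτ.mul v hv _ hev, h2, mul_inv_cancel]
  have h1 : τ w = 1 := (hle hw).2
  have h2 := hτ.of_fixed w (hWV hw) (mem_centralizer_zpowers_iff.mpr hc)
  rw [h1, relIndex_bot_left, Nat.card_zpowers] at h2
  obtain ⟨k, hk⟩ := hVp ⟨w, hWV hw⟩
  have hk' : w ^ p ^ k = 1 := by simpa using congrArg Subtype.val hk
  exact eq_one_of_coprime_of_pow hxo h2.symm hk'

/-- **A×B lemma, module form**: `P` acts on the abelian `p`-group `V` as a `p`-group and commutes
with the `p'`-element `x` modulo `C(V)`; if `x` centralizes `C_V(P)` then `x` centralizes `V`. -/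
theorem AxB_module {V P : Subgroup G} {x : G}
    (hVc : V ≤ centralizer (V : Set G)) (hVp : IsPGroup p V) (hx : x ∈ normalizer (V : Set G))
    (hxo : (orderOf x).Coprime p) (hPV : P ≤ normalizer (V : Set G))
    (hq : PQuot p P (centralizer (V : Set G)))
    (hcomm : ∀ g ∈ P, ⁅g, x⁆ ∈ centralizer (V : Set G))
    (h : x ∈ centralizer ((V ⊓ centralizer (P : Set G) : Subgroup G) : Set G)) :
    x ∈ centralizer (V : Set G) := by
  have hE : zpowers x ≤ normalizer (V : Set G) := by rwa [zpowers_le]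
  set W := ⁅V, zpowers x⁆ with hW
  have hWV : W ≤ V := le_normalizer_iff_commutator_le_left.mp hE
  -- `W = ⁅V, x⁆` in terms of generators
  have hWle : ∀ U : Subgroup G, U ≤ V → (∀ v ∈ V, ⁅v, x⁆ ∈ U) → W ≤ U := by
    intro U hUV hU
    rw [hW, zpowers_eq_closure]
    apply commutator_closure_le
    rintro s rfl
    refine ⟨?_, hU⟩
    -- `x` normalizes `U`: since `x u x⁻¹ = [u,x]⁻¹ u`
    apply mem_normalizer_of_cj_le
    rintro _ ⟨u, hu, rfl⟩
    have e : (MulAut.conj s).toMonoidHom u = (⁅u, s⁆)⁻¹ * u := by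
      simp only [MulEquiv.coe_toMonoidHom, MulAut.conj_apply]
      rw [commutatorElement_def]; group
    rw [e]
    exact mul_mem (inv_mem (hU u (hUV hu))) hu
  have hPW : P ≤ normalizer (W : Set G) := by
    apply le_normalizer_of_cj_le
    intro g hg
    rw [cj_le_iff]
    apply hWle
    · exact (cj_mono hWV).trans (cj_eq_self_of_mem_normalizer (inv_mem (hPV hg))).le
    · intro v hv
      rw [mem_cj, inv_inv]
      -- g [v,x] g⁻¹ = [g v g⁻¹, x]
      set v' := g * v * g⁻¹ with hv'
      have hv'V : v' ∈ V := conj_mem_of_mem_normalizer (hPV hg) hv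
      have hc := hcomm g hg
      -- c = [g,x] centralizes V
      have h3 : x * v'⁻¹ * x⁻¹ ∈ V := conj_mem_of_mem_normalizer hx (inv_mem hv'V)
      have h4 := (mem_centralizer_iff.mp hc) _ h3
      have e : g * ⁅v, x⁆ * g⁻¹ = ⁅v', x⁆ := by
        have e1 : g * ⁅v, x⁆ * g⁻¹ = v' * (⁅g, x⁆ * (x * v'⁻¹ * x⁻¹) * ⁅g, x⁆⁻¹) := by
          rw [hv']; simp only [commutatorElement_def]; group
        rw [e1, ← h4]
        simp only [commutatorElement_def]; group
      rw [e]
      exact commutator_mem_commutator hv'V (mem_zpowers x)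
  by_cases hWbot : W = ⊥
  · rw [hW, commutator_eq_bot_iff_le_centralizer, le_centralizer_comm] at hWbot
    exact hWbot (mem_zpowers x)
  exfalso
  obtain ⟨B, hB⟩ := exists_isSylowIn p P
  have h1 := inf_centralizer_ne_bot (hVp.to_le hWV) hB.isPGroup hWbot (hB.le.trans hPW)
  apply h1
  rw [eq_bot_iff]
  intro w hw
  have hsup : (P ⊓ centralizer (V : Set G)) ⊔ B = P :=
    hB.sup_eq_of_PQuot inf_le_left
      (le_normalizer_inf Subgroup.le_normalizer (hPV.trans (normalizer_le_normalizer_centralizer V)))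
      (hq.inf_right' le_rfl)
  have hwP : w ∈ centralizer (P : Set G) := by
    have : P ≤ centralizer ((zpowers w : Subgroup G) : Set G) := by
      rw [← hsup]
      apply sup_le
      · refine inf_le_right.trans (centralizer_le ?_)
        have : zpowers w ≤ V := by rw [zpowers_le]; exact hWV hw.1
        exact_mod_cast this
      · rw [le_centralizer_comm, zpowers_le]; exact hw.2
    exact (le_centralizer_comm.mp this) (mem_zpowers w)
  have hwx : Commute w x := (mem_centralizer_iff.mp h) w (mem_inf.mpr ⟨hWV hw.1, hwP⟩)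
  exact mem_bot.mpr (eq_one_of_mem_commutator_of_commute hVc hVp hx hxo hw.1 hwx)

end Finite

end Cfsg.Agent.Lib.Helper47
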