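import Cfsg.Agent.Lib.Helper47.PRed5

set_option autoImplicit false
open Cfsg Subgroup
open scoped Pointwise commutatorElement

namespace Cfsg.Agent.Lib.Helper47

variable {G : Type*} [Group G] {p : ℕ}

section Finite
variable [Finite G] [hp : Fact p.Prime]

/-- `L ⊴ K`, `V ⊴ K` a `p`-reduced normal subgroup of `L`: the `p'`-elements of `C_L(Y_K)`
centralize `V`. -/
theorem IsPRedIn.mem_centralizer_of_normal {K L : Subgroup G} (hLK : L ≤ K)
    (hn : K ≤ normalizer (L : Set G)) {x : G} (hx : x ∈ L) (hxo : (orderOf x).Coprime p)
    (hxY : x ∈ centralizer (largestPReducedOf p K : Set G)) (V : Subgroup G) :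
    K ≤ normalizer (V : Set G) → IsPRedIn p V L → x ∈ centralizer (V : Set G) := by
  induction V using WellFoundedLT.induction with
  | ind V ih =>
    intro hKV hV
    by_cases hred : IsPRedIn p V K
    · exact centralizer_le (by exact_mod_cast hred.le_largest) hxY
    · have hex : ∃ D : Subgroup G, D ≤ K ∧ K ≤ normalizer (D : Set G) ∧
          PQuot p D (centralizer (V : Set G)) ∧ ¬ D ≤ centralizer (V : Set G) := by
        by_contra hcon
        apply hred
        refine ⟨hV.le.trans hLK, hKV, hV.isElementaryAbelian, fun D h1 h2 h3 => ?_⟩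
        by_contra h4
        exact hcon ⟨D, h1, h2, h3, h4⟩
      obtain ⟨D, hDK, hKD, hq, hDV⟩ := hex
      set V₁ := V ⊓ centralizer (D : Set G) with hV₁
      have hlt : V₁ < V := by
        refine lt_of_le_of_ne inf_le_left (fun h => hDV ?_)
        rw [le_centralizer_comm, ← h]
        exact inf_le_right
      have hKV₁ : K ≤ normalizer (V₁ : Set G) :=
        le_normalizer_inf hKV (hKD.trans (normalizer_le_normalizer_centralizer D))
      have hDL : D ⊓ L ≤ centralizer (V : Set G) :=
        hV.le_centralizer_of inf_le_right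
          (le_normalizer_inf (hLK.trans hKD) Subgroup.le_normalizer) (hq.mono_left inf_le_left)
      have hVc := IsElementaryAbelian.le_centralizer hV.isElementaryAbelian
      have hVp := IsElementaryAbelian.isPGroup hV.isElementaryAbelian
      have hAB : ∀ y ∈ L, (orderOf y).Coprime p → y ∈ centralizer (V₁ : Set G) →
          y ∈ centralizer (V : Set G) := by
        intro y hy hyo hyV₁
        apply AxB_module hVc hVp (hKV (hLK hy)) hyo (hDK.trans hKV) hq _ hyV₁
        intro g hg
        apply hDL
        refine mem_inf.mpr ⟨?_, ?_⟩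
        · have e : ⁅g, y⁆ = g * (y * g⁻¹ * y⁻¹) := by rw [commutatorElement_def]; group
          rw [e]
          exact mul_mem hg (conj_mem_of_mem_normalizer (hKD (hLK hy)) (inv_mem hg))
        · rw [commutatorElement_def]
          exact mul_mem (conj_mem_of_mem_normalizer (hn (hDK hg)) hy) (inv_mem hy)
      have hV₁red : IsPRedIn p V₁ L := by
        refine ⟨inf_le_left.trans hV.le, hLK.trans hKV₁,
          IsElementaryAbelian.mono hV.isElementaryAbelian inf_le_left, fun N₁ h1 h2 h3 => ?_⟩
        have h4 : PQuot p N₁ (centralizer (V : Set G)) :=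
          PQuot_of_forall_coprime (fun y hy hyo => hAB y (h1 hy) hyo (h3.mem_of_coprime hy hyo))
        exact (hV.le_centralizer_of h1 h2 h4).trans
          (centralizer_le (by exact_mod_cast (inf_le_left : V₁ ≤ V)))
      exact hAB x hx hxo (ih V₁ hlt hKV₁ hV₁red)

theorem inf_centralizer_largest_le_of_normal {K L : Subgroup G} (hLK : L ≤ K)
    (hn : K ≤ normalizer (L : Set G)) :
    L ⊓ centralizer (largestPReducedOf p K : Set G) ≤
      centralizer (largestPReducedOf p L : Set G) := by
  apply (isPRedIn_largest L).le_centralizer_of inf_le_left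
  · exact le_normalizer_inf Subgroup.le_normalizer
      ((hLK.trans (isPRedIn_largest K).le_normalizer).trans
        (normalizer_le_normalizer_centralizer _))
  · exact PQuot_of_forall_coprime (fun x hx hxo =>
      IsPRedIn.mem_centralizer_of_normal hLK hn hx.1 hxo hx.2 _
        (hn.trans (normalizer_le_normalizer_largest L)) (isPRedIn_largest L))

theorem IsSubnormal.inf_centralizer_largest_le {L : Subgroup G} (hL : L.IsSubnormal) :
    L ⊓ centralizer (largestPReducedOf p (⊤ : Subgroup G) : Set G) ≤
      centralizer (largestPReducedOf p L : Set G) := by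
  induction hL with
  | top => exact inf_le_right
  | step L L₁ hle hsub hN ih =>
    have hn : L₁ ≤ normalizer (L : Set G) := (normal_subgroupOf_iff_le_normalizer hle).mp hN
    refine le_trans ?_ (inf_centralizer_largest_le_of_normal (p := p) hle hn)
    exact le_inf inf_le_left ((inf_le_inf_right _ hle).trans ih)

/-- `D ≤ L` subnormal, acting as a `p`-group on `Y_G ∩ L`: then `D` centralizes `Y_G`. -/
theorem IsSubnormal.le_centralizer_largest {D L : Subgroup G} (hD : D.IsSubnormal) (hDL : D ≤ L)
    (hq : PQuot p D (centralizer ((largestPReduced p G ⊓ L : Subgroup G) : Set G))) :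
    D ≤ centralizer (largestPReduced p G : Set G) := by
  have hY := isPReducedNormal_largest G p
  set Y := largestPReduced p G with hYdef
  have hYn : Y.Normal := hY.1
  have hYp : IsPGroup p Y := IsElementaryAbelian.isPGroup hY.2.1
  apply IsPReducedNormal.le_centralizer_of_isSubnormal hY hD
  apply PQuot_of_forall_coprime
  intro x hx hxo
  have hxK : x ∈ pResOf p D := mem_pResOf hx hxo
  have hYK : Y ≤ normalizer (pResOf p D : Set G) :=
    (Helper47.le_pCore hYn hYp).trans (IsSubnormal.pCore_le_normalizer_pResOf hD)
  rw [mem_centralizer_iff_commute]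
  apply centralizes_of_step hxo (A := Y) (B := Y ⊓ L) hYp.to_inf_left
  · intro y hy
    refine mem_inf.mpr ⟨?_, ?_⟩
    · have e : ⁅y, x⁆ = y * (x * y⁻¹ * x⁻¹) := by rw [commutatorElement_def]; group
      rw [e]
      exact mul_mem hy (hYn.conj_mem _ (inv_mem hy) x)
    · rw [commutatorElement_def]
      exact hDL (pResOf_le D (mul_mem (conj_mem_of_mem_normalizer (hYK hy) hxK) (inv_mem hxK)))
  · exact mem_centralizer_iff_commute.mp (hq.mem_of_coprime hx hxo)

end Finite

end Cfsg.Agent.Lib.Helper47
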