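import Cfsg.Agent.Lib.Helper47.FStarQ
import Cfsg.Agent.Lib.Helper31.Quasisimple
import Cfsg.Agent.S2843

set_option autoImplicit false
set_option linter.unusedSectionVars false
open Cfsg Subgroup
open scoped Pointwise commutatorElement

namespace Cfsg.Agent.Lib.Helper47

variable {G : Type*} [Group G] {p : ℕ}

/-- ambient form of "`X / N` is quasisimple". -/
structure QSec (X N : Subgroup G) : Prop where
  le : N ≤ X
  nor : X ≤ normalizer (N : Set G)
  perf : ⁅X, X⁆ ⊔ N = X
  ne : N ≠ X
  simp : ∀ D : Subgroup G, N ≤ D → D ≤ X → X ≤ normalizer (D : Set G) → D = X ∨ ⁅D, X⁆ ≤ N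

theorem eq_of_map_mk'_eq {N A B : Subgroup G} [N.Normal] (hA : N ≤ A) (hB : N ≤ B)
    (h : A.map (QuotientGroup.mk' N) = B.map (QuotientGroup.mk' N)) : A = B := by
  have := congrArg (Subgroup.comap (QuotientGroup.mk' N)) h
  rwa [comap_map_eq, comap_map_eq, QuotientGroup.ker_mk', sup_eq_left.mpr hA,
    sup_eq_left.mpr hB] at this

theorem qSec_of_isQuasisimple_map {N X : Subgroup G} [hN : N.Normal] (hNX : N ≤ X)
    (h : IsQuasisimple ↥(X.map (QuotientGroup.mk' N))) : QSec X N := by
  rw [Helper31.isQuasisimple_subgroup_iff] at h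
  obtain ⟨h1, h2, h3⟩ := h
  refine ⟨hNX, ?_, ?_, ?_, ?_⟩
  · rw [normalizer_eq_top_iff.mpr hN]; exact le_top
  · apply eq_of_map_mk'_eq (N := N) le_sup_right hNX
    rw [Subgroup.map_sup, map_commutator, h1]
    have : N.map (QuotientGroup.mk' N) = ⊥ := by
      rw [Subgroup.map_eq_bot_iff, QuotientGroup.ker_mk']
    rw [this, sup_bot_eq]
  · intro h0
    apply h2
    rw [← h0, Subgroup.map_eq_bot_iff, QuotientGroup.ker_mk']
  · intro D hND hDX hXD
    have hn : X.map (QuotientGroup.mk' N) ≤
        normalizer ((D.map (QuotientGroup.mk' N) : Subgroup (G ⧸ N)) : Set (G ⧸ N)) :=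
      (map_mono hXD).trans (le_normalizer_map _)
    rcases h3 _ (map_mono hDX) hn with h | h
    · exact Or.inl (eq_of_map_mk'_eq hND hNX h)
    · right
      have h4 := commutator_eq_bot_iff_le_centralizer.mpr h
      rw [← map_commutator, Subgroup.map_eq_bot_iff, QuotientGroup.ker_mk'] at h4
      exact h4

theorem isQuasisimple_quotient_of_qSec_top {N : Subgroup G} [hN : N.Normal] (h : QSec ⊤ N) :
    IsQuasisimple (G ⧸ N) := by
  rw [Helper31.isQuasisimple_iff]
  have hbot : N.map (QuotientGroup.mk' N) = ⊥ := by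
    rw [Subgroup.map_eq_bot_iff, QuotientGroup.ker_mk']
  have htop : (⊤ : Subgroup G).map (QuotientGroup.mk' N) = ⊤ :=
    map_top_of_surjective _ (QuotientGroup.mk'_surjective N)
  refine ⟨?_, ?_, ?_⟩
  · rw [Group.isPerfect_def, _root_.commutator_def]
    have h1 := congrArg (Subgroup.map (QuotientGroup.mk' N)) h.perf
    rwa [Subgroup.map_sup, map_commutator, hbot, sup_bot_eq, htop] at h1
  · by_contra hnt
    rw [not_nontrivial_iff_subsingleton] at hnt
    apply h.ne
    rw [eq_top_iff]
    intro x _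
    rw [← QuotientGroup.eq_one_iff]
    exact Subsingleton.elim _ _
  · intro D hD
    have hDn : (D.comap (QuotientGroup.mk' N)).Normal := hD.comap _
    have hND : N ≤ D.comap (QuotientGroup.mk' N) := by
      intro x hx
      rw [mem_comap, QuotientGroup.mk'_apply, (QuotientGroup.eq_one_iff x).mpr hx]
      exact one_mem _
    have hmap : (D.comap (QuotientGroup.mk' N)).map (QuotientGroup.mk' N) = D :=
      map_comap_eq_self_of_surjective (QuotientGroup.mk'_surjective N) D
    rcases h.simp _ hND le_top (by rw [normalizer_eq_top_iff.mpr hDn]) with h1 | h1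
    · left
      rw [← hmap, h1, htop]
    · right
      have h2 := map_mono (f := QuotientGroup.mk' N) h1
      rw [map_commutator, hmap, htop, hbot, le_bot_iff,
        commutator_eq_bot_iff_le_centralizer] at h2
      rwa [coe_top, centralizer_univ] at h2

/-- transfer of `QSec` from a subgroup to the ambient group -/
theorem QSec.map_subtype [Finite G] {E : Subgroup G} {X N : Subgroup ↥E} (h : QSec X N) :
    QSec (X.map E.subtype) (N.map E.subtype) := by
  have hnor : ∀ {A B : Subgroup ↥E}, A ≤ normalizer (B : Set ↥E) →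
      A.map E.subtype ≤ normalizer ((B.map E.subtype : Subgroup G) : Set G) := by
    intro A B hAB
    apply le_normalizer_of_cj_le
    rintro _ ⟨a, ha, rfl⟩
    rw [← map_cj, cj_eq_self_of_mem_normalizer (hAB ha)]
  refine ⟨map_mono h.le, hnor h.nor, ?_, ?_, ?_⟩
  · rw [← map_commutator, ← Subgroup.map_sup, h.perf]
  · intro h0
    exact h.ne (map_injective (subtype_injective E) h0)
  · intro D hND hDX hXD
    have hDE : D ≤ E := hDX.trans (map_subtype_le X)
    have hD : (D.subgroupOf E).map E.subtype = D := map_subgroupOf_eq_of_le hDE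
    have h1 : N ≤ D.subgroupOf E := by
      rw [← map_subtype_le_map_subtype, hD]; exact hND
    have h2 : D.subgroupOf E ≤ X := by
      rw [← map_subtype_le_map_subtype, hD]; exact hDX
    have h3 : X ≤ normalizer ((D.subgroupOf E : Subgroup ↥E) : Set ↥E) := by
      intro x hx
      have hx' : (x : G) ∈ normalizer (D : Set G) := hXD ⟨x, hx, rfl⟩
      rw [mem_normalizer_iff] at hx' ⊢
      intro y
      rw [mem_subgroupOf, mem_subgroupOf]
      exact hx' y
    rcases h.simp _ h1 h2 h3 with h4 | h4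
    · left; rw [← hD, h4]
    · right
      have := map_mono (f := E.subtype) h4
      rwa [map_commutator, hD] at this

/-- `K / (K ∩ N)` quasisimple, in quotient form. -/
theorem QSec.isQuasisimple {K N : Subgroup G} [hn : (N.subgroupOf K).Normal]
    (h : QSec K (K ⊓ N)) : IsQuasisimple (↥K ⧸ N.subgroupOf K) := by
  apply isQuasisimple_quotient_of_qSec_top
  have htop : (⊤ : Subgroup ↥K).map K.subtype = K := by
    rw [← MonoidHom.range_eq_map, range_subtype]
  have hN : (N.subgroupOf K).map K.subtype = K ⊓ N := by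
    rw [subgroupOf_map_subtype, inf_comm]
  refine ⟨le_top, ?_, ?_, ?_, ?_⟩
  · rw [normalizer_eq_top_iff.mpr hn]
  · apply map_injective (subtype_injective K)
    rw [Subgroup.map_sup, map_commutator, htop, hN, h.perf]
  · intro h0
    apply h.ne
    rw [← hN, h0, htop]
  · intro D hND _ hD
    have hDn : D.Normal := normalizer_eq_top_iff.mp (top_le_iff.mp hD)
    rcases h.simp (D.map K.subtype) (by rw [← hN]; exact map_mono hND) (map_subtype_le D)
      (normal_iff_le_normalizer_map.mp hDn) with h1 | h1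
    · left
      apply map_injective (subtype_injective K)
      rw [h1, htop]
    · right
      rw [← map_subtype_le_map_subtype, map_commutator, htop, hN]
      exact h1

section Finite
variable [Finite G] [hp : Fact p.Prime]

/-- a `p`-subgroup of `E` acting trivially on `O^p(E) C / C` lies in `C`, if `O_p(E/C_E) = 1`. -/
theorem le_of_commutator_pResOf_le {E C Y : Subgroup G} (hEC : E ≤ normalizer (C : Set G))
    (hred : ∀ D : Subgroup G, D ≤ E → E ≤ normalizer (D : Set G) → PQuot p D C → D ≤ C)
    (hYE : Y ≤ E) (hY : IsPGroup p Y) (h : ⁅pResOf p E, Y⁆ ≤ C) : Y ≤ C := by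
  obtain ⟨T, hT, hYT⟩ := exists_isSylowIn_ge hY hYE
  set R := pResOf p E with hR
  set CE := E ⊓ C with hCE
  set Y1 := ncl Y T with hY1
  have hTE : T ≤ E := hT.1
  have hRE : R ≤ E := pResOf_le E
  have hECE : E ≤ normalizer (CE : Set G) := le_normalizer_inf Subgroup.le_normalizer hEC
  have hY1T : Y1 ≤ T := ncl_le_self hYT
  have hY1p : IsPGroup p Y1 := hT.isPGroup.to_le hY1T
  have h1 : ⁅R, Y⁆ ≤ CE :=
    le_inf ((commutator_mono hRE hYE).trans
      (commutator_le_left_of_le_normalizer Subgroup.le_normalizer)) h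
  have h2 : ⁅R, Y1⁆ ≤ CE :=
    commutator_ncl_le (hTE.trans (le_normalizer_pResOf E)) (hTE.trans hECE) hYT h1
  set B := CE ⊔ Y1 with hB
  have hBE : B ≤ E := sup_le inf_le_left (hY1T.trans hTE)
  have hRB : R ≤ normalizer (B : Set G) := by
    apply le_normalizer_of_commutator_le
    apply commutator_sup_le
    · exact (commutator_le_right_of_le_normalizer (hRE.trans hECE)).trans le_sup_left
    · exact h2.trans le_sup_left
    · exact le_sup_left.trans Subgroup.le_normalizer
    · exact le_sup_right.trans Subgroup.le_normalizer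
  have hTB : T ≤ normalizer (B : Set G) :=
    le_normalizer_sup (hTE.trans hECE) (le_normalizer_ncl Y T)
  have hEB : E ≤ normalizer (B : Set G) := by
    rw [← hT.pResOf_sup]
    exact sup_le hRB hTB
  have hq : PQuot p B C :=
    (PQuot_sup ((hY1T.trans hTE).trans hECE) hY1p).mono_right inf_le_right
  exact ((le_ncl Y T).trans le_sup_right).trans (hred B hBE hEB hq)

/-- **MSS**: quasisimple sections on a module and the weak closure of a large subgroup. -/
theorem large_quasisimple_section {Q U E : Subgroup G} (hQp : IsPGroup p Q) (hQ1 : Q ≠ ⊥)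
    (hQ : IsLarge Q) (hU : IsPGroup p U) (hU1 : U ≠ ⊥) (hQE : Q ≤ E)
    (hEU : E ≤ normalizer (U : Set G)) (hQn : ¬ E ≤ normalizer (Q : Set G))
    (hred : ∀ D : Subgroup G, D ≤ E → E ≤ normalizer (D : Set G) →
      PQuot p D (centralizer (U : Set G)) → D ≤ centralizer (U : Set G))
    (hqs : QSec (pResOf p E ⊔ (E ⊓ centralizer (U : Set G))) (E ⊓ centralizer (U : Set G)))
    {K : Subgroup G} (hK : K = pResOf p (weakClosure Q E)) :
    pResOf p E ⊔ (E ⊓ centralizer (U : Set G)) = K ⊔ (E ⊓ centralizer (U : Set G)) ∧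
    ⁅K, K⁆ = K ∧ pResOf p K = K ∧ QSec K (K ⊓ centralizer (U : Set G)) ∧
    QSec K (pCoreOf p K) ∧
    ∀ Y : Subgroup G, Y ≤ E → IsPGroup p Y → ¬ Y ≤ centralizer (U : Set G) → ⁅K, Y⁆ = K := by
  set C := centralizer (U : Set G) with hC
  set CE := E ⊓ C with hCE
  set R := pResOf p E with hR
  set X := R ⊔ CE with hX
  set D := weakClosure Q E with hD
  have hwc : WCIn p Q ⊤ := IsLarge.wcIn hQ hQ1
  have hDncl : D = ncl Q E := hwc.weakClosure_eq_ncl hQp hQE
  have hDD : ncl Q D = D := by rw [hDncl]; exact hwc.ncl_ncl hQp hQE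
  have hDE : D ≤ E := weakClosure_le_self Q E
  have hQD : Q ≤ D := le_weakClosure hQE
  have hED : E ≤ normalizer (D : Set G) :=
    Subgroup.le_normalizer.trans (normalizer_le_normalizer_weakClosure Q E)
  have hEK : E ≤ normalizer (K : Set G) := by
    rw [hK]; exact hED.trans (normalizer_le_normalizer_pResOf D)
  have hKD : K ≤ D := by rw [hK]; exact pResOf_le D
  have hKE : K ≤ E := hKD.trans hDE
  have hQK : Q ⊔ K = D := by rw [hK]; exact sup_pResOf_eq_of_ncl_eq hDD
  have hKQ : ⁅K, Q⁆ = K := by rw [hK]; exact commutator_pResOf_eq_of_ncl_eq hQp hDD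
  have hKK : pResOf p K = K := by rw [hK]; exact pResOf_pResOf D
  have hKR : K ≤ R := by rw [hK]; exact pResOf_mono hDE
  have hEC : E ≤ normalizer (C : Set G) := hEU.trans (normalizer_le_normalizer_centralizer U)
  have hECE : E ≤ normalizer (CE : Set G) := le_normalizer_inf Subgroup.le_normalizer hEC
  have hRE : R ≤ E := pResOf_le E
  have hER : E ≤ normalizer (R : Set G) := le_normalizer_pResOf E
  have hXE : X ≤ E := sup_le hRE inf_le_left
  have hEX : E ≤ normalizer (X : Set G) := le_normalizer_sup hER hECE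
  have hDC : ⁅D, C⁆ ≤ pCoreOf p D :=
    (Cfsg.Agent.S2843.result Q hQp hQ1 hQ E hQE U hU hU1 hEU).2.1
  have hEOD : E ≤ normalizer (pCoreOf p D : Set G) := hED.trans (normalizer_le_normalizer_pCoreOf D)
  have hCEX : CE ≤ X := le_sup_right
  -- `C_E` normalizes every `A C_E`
  have hCEn : ∀ A : Subgroup G, A ≤ E → CE ≤ normalizer ((A ⊔ CE : Subgroup G) : Set G) := by
    intro A hA
    apply le_normalizer_of_commutator_le
    apply commutator_sup_le
    · exact (commutator_le_left_of_le_normalizer (hA.trans hECE)).trans le_sup_right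
    · exact (commutator_le_left_of_le_normalizer Subgroup.le_normalizer).trans le_sup_right
    · exact le_sup_left.trans Subgroup.le_normalizer
    · exact le_sup_right.trans Subgroup.le_normalizer
  have hQC : ¬ Q ≤ C := by
    intro h
    apply hQn
    exact hEU.trans (IsLarge.normalizer_le hQ (le_centralizer_comm.mp h) hU1)
  have hXD : ¬ ⁅X, D⁆ ≤ CE := by
    intro h
    apply hQC
    apply le_of_commutator_pResOf_le hEC hred hQE hQp
    exact ((commutator_mono le_sup_left hQD).trans h).trans inf_le_right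
  -- (1)
  have hRle : R ≤ K ⊔ CE := by
    set N1 := ⁅X, D⁆ ⊔ CE with hN1
    have hXDX : ⁅X, D⁆ ≤ X := commutator_le_left_of_le_normalizer (hDE.trans hEX)
    have hXDD : ⁅X, D⁆ ≤ D := commutator_le_right_of_le_normalizer (hXE.trans hED)
    have hN1X : N1 ≤ X := sup_le hXDX hCEX
    have hXN1 : X ≤ normalizer (N1 : Set G) :=
      hXE.trans (le_normalizer_sup (le_normalizer_commutator hEX hED) hECE)
    rcases hqs.simp N1 le_sup_right hN1X hXN1 with h | h
    · have h2 : R ≤ (K ⊔ CE) ⊔ Q := by
        calc R ≤ X := le_sup_left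
          _ = N1 := h.symm
          _ ≤ D ⊔ CE := sup_le_sup_right hXDD CE
          _ = (Q ⊔ K) ⊔ CE := by rw [hQK]
          _ ≤ (K ⊔ CE) ⊔ Q := sup_le (sup_le le_sup_right (le_sup_left.trans le_sup_left))
              (le_sup_right.trans le_sup_left)
      exact le_of_le_sup_pGroup (pResOf_pResOf E) hQp
        (hQE.trans (le_normalizer_sup hEK hECE)) h2
    · exfalso
      apply hXD
      have h1 : ⁅⁅X, D⁆, X⁆ ≤ CE := (commutator_mono le_sup_left le_rfl).trans h
      have h2 : ⁅⁅D, X⁆, X⁆ ≤ CE := by rw [commutator_comm D X]; exact h1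
      have h3 : ⁅⁅X, X⁆, D⁆ ≤ CE :=
        three_subgroups_mod (hXE.trans hECE) (hXE.trans hECE) (hDE.trans hECE) h1 h2
      have hXXE : ⁅X, X⁆ ≤ E :=
        (commutator_le_left_of_le_normalizer Subgroup.le_normalizer).trans hXE
      have h4 : ⁅D, ⁅X, X⁆ ⊔ CE⁆ ≤ CE := by
        apply commutator_sup_le
        · rw [commutator_comm]; exact h3
        · exact commutator_le_right_of_le_normalizer (hDE.trans hECE)
        · exact hXXE.trans hECE
        · exact Subgroup.le_normalizer
      rw [hqs.perf] at h4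
      rw [commutator_comm]; exact h4
  have h1 : X = K ⊔ CE :=
    le_antisymm (sup_le hRle le_sup_right) (sup_le (hKR.trans le_sup_left) le_sup_right)
  have hKX : K ≤ X := hKR.trans le_sup_left
  have hKKK : ⁅K, K⁆ ≤ K := commutator_le_left_of_le_normalizer Subgroup.le_normalizer
  have hEKK : E ≤ normalizer ((⁅K, K⁆ : Subgroup G) : Set G) := le_normalizer_commutator hEK hEK
  -- (2)
  have hperf : ⁅K, K⁆ = K := by
    apply le_antisymm hKKK
    have hZ1 : ⁅X, X⁆ ≤ ⁅K, K⁆ ⊔ CE := by
      have hEZ : E ≤ normalizer ((⁅K, K⁆ ⊔ CE : Subgroup G) : Set G) := le_normalizer_sup hEKK hECE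
      have ha : ⁅X, K⁆ ≤ ⁅K, K⁆ ⊔ CE := by
        rw [commutator_comm, h1]
        apply commutator_sup_le le_sup_left
        · exact (commutator_le_right_of_le_normalizer (hKE.trans hECE)).trans le_sup_right
        · exact hKE.trans hEZ
        · exact inf_le_left.trans hEZ
      have hb : ⁅X, CE⁆ ≤ ⁅K, K⁆ ⊔ CE :=
        (commutator_le_right_of_le_normalizer (hXE.trans hECE)).trans le_sup_right
      have := commutator_sup_le ha hb (hKE.trans hEZ) (inf_le_left.trans hEZ)
      rwa [← h1] at this
    have hK1 : K ≤ ⁅K, K⁆ ⊔ CE := by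
      calc K ≤ X := hKX
        _ = ⁅X, X⁆ ⊔ CE := hqs.perf.symm
        _ ≤ ⁅K, K⁆ ⊔ CE := sup_le hZ1 le_sup_right
    have hEZ2 : E ≤ normalizer ((⁅K, K⁆ ⊔ pCoreOf p D : Subgroup G) : Set G) :=
      le_normalizer_sup hEKK hEOD
    have hK2 : ⁅Q, ⁅K, K⁆ ⊔ CE⁆ ≤ ⁅K, K⁆ ⊔ pCoreOf p D := by
      apply commutator_sup_le
      · exact (commutator_le_right_of_le_normalizer (hQE.trans hEKK)).trans le_sup_left
      · exact ((commutator_mono hQD inf_le_right).trans hDC).trans le_sup_right
      · exact (hKKK.trans hKE).trans hEZ2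
      · exact inf_le_left.trans hEZ2
    have hK3 : K ≤ ⁅K, K⁆ ⊔ pCoreOf p D := by
      calc K = ⁅K, Q⁆ := hKQ.symm
        _ = ⁅Q, K⁆ := commutator_comm _ _
        _ ≤ ⁅Q, ⁅K, K⁆ ⊔ CE⁆ := commutator_mono le_rfl hK1
        _ ≤ _ := hK2
    exact le_of_le_sup_pGroup hKK (pCoreOf_isPGroup D)
      (((pCoreOf_le D).trans hDE).trans hEKK) hK3
  set P0 := pCoreOf p D ⊓ K with hP0
  have hP0p : IsPGroup p P0 := (pCoreOf_isPGroup D).to_inf_left
  have hP0K : P0 ≤ K := inf_le_right
  have hEP0 : E ≤ normalizer (P0 : Set G) := le_normalizer_inf hEOD hEK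
  have hP0O : P0 ≤ pCoreOf p K := pCoreOf_inf_le hKD
  -- `[A, B] ≤ P0` for `A ≤ K`, `B ≤ C_E`
  have hcomm : ∀ A B : Subgroup G, A ≤ K → B ≤ CE → ⁅A, B⁆ ≤ P0 := by
    intro A B hA hB
    apply le_inf
    · exact (commutator_mono (hA.trans hKD) (hB.trans inf_le_right)).trans hDC
    · exact (commutator_mono hA hB).trans
        (commutator_le_left_of_le_normalizer (inf_le_left.trans hEK))
  have hKC : ¬ K ≤ C := by
    intro h
    apply hqs.ne
    rw [h1]
    exact (sup_eq_right.mpr (le_inf hKE h)).symm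
  have h4 : QSec K (K ⊓ C) := by
    refine ⟨inf_le_left, le_normalizer_inf Subgroup.le_normalizer (hKE.trans hEC), ?_, ?_, ?_⟩
    · rw [hperf]; exact sup_eq_left.mpr inf_le_left
    · intro h
      exact hKC (inf_eq_left.mp h)
    · intro D' hCD hDK hKD'
      have hD'E : D' ≤ E := hDK.trans hKE
      have hXn : X ≤ normalizer ((D' ⊔ CE : Subgroup G) : Set G) := by
        rw [h1]
        exact sup_le (le_normalizer_sup hKD' (hKE.trans hECE)) (hCEn D' hD'E)
      rcases hqs.simp (D' ⊔ CE) le_sup_right (sup_le (hDK.trans hKX) hCEX) hXn with h | h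
      · left
        apply le_antisymm hDK
        have h5 : K ≤ K ⊓ (D' ⊔ CE) := le_inf le_rfl (by rw [h]; exact hKX)
        refine (h5.trans (inf_sup_le_of_le (hD'E.trans hECE) hDK)).trans (sup_le le_rfl ?_)
        exact (inf_le_inf_left K inf_le_right).trans hCD
      · right
        apply le_inf
        · exact (commutator_mono hDK le_rfl).trans hKKK
        · exact ((commutator_mono le_sup_left hKX).trans h).trans inf_le_right
  have h5 : QSec K (pCoreOf p K) := by
    refine ⟨pCoreOf_le K, le_normalizer_pCoreOf K, ?_, ?_, ?_⟩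
    · rw [hperf]; exact sup_eq_left.mpr (pCoreOf_le K)
    · intro h
      apply hKC
      have hKp : IsPGroup p K := h ▸ pCoreOf_isPGroup K
      have : K ≤ ⊥ := le_of_le_sup_pGroup hKK hKp
        (by rw [normalizer_eq_top_iff.mpr (inferInstance : (⊥ : Subgroup G).Normal)]; exact le_top)
        le_sup_right
      exact this.trans bot_le
    · intro D' hOD hDK hKD'
      have hKCK : K ≤ normalizer ((K ⊓ C : Subgroup G) : Set G) := h4.nor
      rcases h4.simp (D' ⊔ (K ⊓ C)) le_sup_right (sup_le hDK inf_le_left)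
        (le_normalizer_sup hKD' hKCK) with h | h
      · left
        apply le_antisymm hDK
        have h6 : ⁅K, D' ⊔ (K ⊓ C)⁆ ≤ D' := by
          apply commutator_sup_le
          · exact commutator_le_right_of_le_normalizer hKD'
          · exact ((hcomm K (K ⊓ C) le_rfl (inf_le_inf_right C hKE)).trans hP0O).trans hOD
          · exact Subgroup.le_normalizer
          · exact inf_le_left.trans hKD'
        rw [h, hperf] at h6
        exact h6
      · right
        have h6 : ⁅D', K⁆ ≤ K ⊓ C := (commutator_mono le_sup_left le_rfl).trans h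
        have h7 : ⁅⁅D', K⁆, K⁆ ≤ pCoreOf p K := by
          rw [commutator_comm]
          exact (hcomm K ⁅D', K⁆ le_rfl (h6.trans (inf_le_inf_right C hKE))).trans hP0O
        have h8 : ⁅⁅K, D'⁆, K⁆ ≤ pCoreOf p K := by rw [commutator_comm K D']; exact h7
        have h9 := three_subgroups_mod (le_normalizer_pCoreOf K) (le_normalizer_pCoreOf K)
          (hDK.trans (le_normalizer_pCoreOf K)) h8 h7
        rw [hperf, commutator_comm] at h9
        exact h9
  refine ⟨h1, hperf, hKK, h4, h5, ?_⟩
  intro Y hYE hYp hYC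
  have hKYK : ⁅K, Y⁆ ≤ K := commutator_le_left_of_le_normalizer (hYE.trans hEK)
  have ha : ¬ ⁅K, Y⁆ ≤ C := by
    intro h
    apply hYC
    apply le_of_commutator_pResOf_le hEC hred hYE hYp
    have h6 : ⁅Y, K ⊔ CE⁆ ≤ CE := by
      apply commutator_sup_le
      · rw [commutator_comm]; exact le_inf (hKYK.trans hKE) h
      · exact commutator_le_right_of_le_normalizer (hYE.trans hECE)
      · exact hKE.trans hECE
      · exact Subgroup.le_normalizer
    rw [← h1, commutator_comm] at h6
    exact ((commutator_mono le_sup_left le_rfl).trans h6).trans inf_le_right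
  apply le_antisymm hKYK
  set N3 := ⁅K, Y⁆ with hN3
  have hKN3 : K ≤ normalizer (N3 : Set G) := normalizer_commutator_ge_left K Y
  have hN3E : N3 ≤ E := hKYK.trans hKE
  have hXn : X ≤ normalizer ((N3 ⊔ CE : Subgroup G) : Set G) := by
    rw [h1]
    exact sup_le (le_normalizer_sup hKN3 (hKE.trans hECE)) (hCEn N3 hN3E)
  rcases hqs.simp (N3 ⊔ CE) le_sup_right (sup_le (hKYK.trans hKX) hCEX) hXn with h | h
  · have hCEU : CE ≤ normalizer ((N3 ⊔ P0 : Subgroup G) : Set G) := by
      apply le_normalizer_of_commutator_le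
      apply commutator_sup_le
      · rw [commutator_comm]; exact (hcomm N3 CE hKYK le_rfl).trans le_sup_right
      · exact (commutator_le_right_of_le_normalizer (inf_le_left.trans hEP0)).trans le_sup_right
      · exact le_sup_left.trans Subgroup.le_normalizer
      · exact le_sup_right.trans Subgroup.le_normalizer
    have h6 : ⁅K, N3 ⊔ CE⁆ ≤ N3 ⊔ P0 := by
      apply commutator_sup_le
      · exact (commutator_le_right_of_le_normalizer hKN3).trans le_sup_left
      · exact (hcomm K CE le_rfl le_rfl).trans le_sup_right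
      · exact le_sup_left.trans Subgroup.le_normalizer
      · exact hCEU
    have h7 : K ≤ N3 ⊔ P0 := by
      calc K = ⁅K, K⁆ := hperf.symm
        _ ≤ ⁅K, N3 ⊔ CE⁆ := commutator_mono le_rfl (by rw [h]; exact hKX)
        _ ≤ _ := h6
    exact le_of_le_sup_pGroup hKK hP0p (hP0K.trans hKN3) h7
  · exfalso
    apply ha
    have h6 : ⁅⁅K, Y⁆, K⁆ ≤ CE := (commutator_mono le_sup_left hKX).trans h
    have h7 : ⁅⁅Y, K⁆, K⁆ ≤ CE := by rw [commutator_comm Y K]; exact h6
    have h8 := three_subgroups_mod (hKE.trans hECE) (hKE.trans hECE) (hYE.trans hECE) h6 h7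
    rw [hperf] at h8
    exact h8.trans inf_le_right

end Finite

end Cfsg.Agent.Lib.Helper47
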