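import Cfsg.Agent.Lib.Helper47.Sidki
import Cfsg.Agent.Lib.Helper31.CharP
import Cfsg.Prelude.Def_QuasithinSetup

set_option autoImplicit false
set_option linter.unusedSectionVars false
open Cfsg Subgroup
open scoped Pointwise commutatorElement

namespace Cfsg.Agent.Lib.Helper47

variable {G : Type*} [Group G] {p : ℕ}

/-- induction principle for relative subnormality -/
theorem subnIn_induction {H : Subgroup G} {P : Subgroup G → Prop} (top : P H)
    (step : ∀ B K : Subgroup G, B ≤ K → K ≤ H → K ≤ normalizer (B : Set G) → P K → P B)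
    {Y : Subgroup G} (hYH : Y ≤ H) (hY : (Y.subgroupOf H).IsSubnormal) : P Y := by
  have key : ∀ K : Subgroup ↥H, K.IsSubnormal → P (K.map H.subtype) := by
    intro K hK
    induction hK with
    | top => rw [← MonoidHom.range_eq_map, range_subtype]; exact top
    | step B K hBK hK hN ih =>
      refine step _ _ (map_mono hBK) (map_subtype_le K) ?_ ih
      have h1 : K ≤ normalizer (B : Set ↥H) := (normal_subgroupOf_iff_le_normalizer hBK).mp hN
      rintro _ ⟨k, hk, rfl⟩
      apply mem_normalizer_of_cj_eq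
      change cj (k : G) (B.map H.subtype) = _
      rw [← cj_map_subtype, cj_eq_self_of_mem_normalizer (h1 hk)]
  have := key _ hY
  rwa [map_subgroupOf_eq_of_le hYH] at this

theorem pCoreOf_le_pCoreOf_of_subnIn {H Y : Subgroup G} (hYH : Y ≤ H)
    (hY : (Y.subgroupOf H).IsSubnormal) : pCoreOf p Y ≤ pCoreOf p H := by
  refine subnIn_induction (P := fun Y => pCoreOf p Y ≤ pCoreOf p H) le_rfl ?_ hYH hY
  intro B K hBK _ hKB ih
  exact (pCoreOf_le_pCoreOf_of_normal hBK hKB).trans ih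

/-- `O_p(H)` normalizes `O^p(Y)` for `Y` subnormal in `H`. -/
theorem pCoreOf_le_normalizer_pResOf_of_subnIn {H Y : Subgroup G} (hYH : Y ≤ H)
    (hY : (Y.subgroupOf H).IsSubnormal) : pCoreOf p H ≤ normalizer (pResOf p Y : Set G) := by
  refine subnIn_induction (P := fun Y => pCoreOf p H ≤ normalizer (pResOf p Y : Set G)) ?_ ?_ hYH hY
  · exact (pCoreOf_le H).trans (le_normalizer_pResOf H)
  · intro B K hBK hKH hKB ih
    set Q := pCoreOf p H with hQ
    set K₀ := pResOf p K with hK₀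
    set B₀ := pResOf p B with hB₀
    have hKB₀ : K ≤ normalizer (B₀ : Set G) := hKB.trans (normalizer_le_normalizer_pResOf B)
    set E := K₀ ⊓ Q with hE
    have hEK : E ≤ K := inf_le_left.trans (pResOf_le K)
    have hEp : IsPGroup p E := (pCoreOf_isPGroup H).to_inf_right
    have h1 : pResOf p (B₀ ⊔ E) = B₀ :=
      pResOf_eq_of_PQuot le_sup_left (pResOf_pResOf B) (PQuot_sup (hEK.trans hKB₀) hEp)
    have h2 : ⁅B₀, Q⁆ ≤ E := by
      apply le_inf
      · exact (commutator_mono (pResOf_mono hBK) le_rfl).trans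
          (commutator_le_left_of_le_normalizer ih)
      · exact commutator_le_right_of_le_normalizer
          ((((pResOf_le B).trans hBK).trans hKH).trans (le_normalizer_pCoreOf H))
    have h3 : Q ≤ normalizer ((B₀ ⊔ E : Subgroup G) : Set G) := by
      apply le_normalizer_of_cj_le
      intro q hq
      rw [cj_sup]
      apply sup_le
      · refine (cj_le_sup_commutator (B := B₀) (V := B₀) (X := Q) le_rfl hq).trans ?_
        exact sup_le (h2.trans le_sup_right) le_sup_left
      · rw [hE, cj_inf, cj_eq_self_of_mem_normalizer (ih hq), cj_eq_self_of_mem hq]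
        exact le_sup_right
    have h4 := h3.trans (normalizer_le_normalizer_pResOf (p := p) (B₀ ⊔ E))
    rwa [h1] at h4

section Finite
variable [Finite G] [hp : Fact p.Prime]

theorem CharP.of_subnIn {H Y : Subgroup G} (hH : CharP p H) (hYH : Y ≤ H)
    (hY : (Y.subgroupOf H).IsSubnormal) : CharP p Y := by
  refine subnIn_induction (P := fun Y => CharP p Y) hH ?_ hYH hY
  intro B K hBK _ hKB ih
  exact charP_of_normal ih hBK hKB

/-- coprime action: `[A,Y,Y] = 1` implies `[A,Y] = 1` for `Y = O^p(Y)`. -/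
theorem commutator_eq_bot_of_commutator_commutator_eq_bot {A Y : Subgroup G}
    (hAY : IsPGroup p (⁅A, Y⁆ : Subgroup G)) (hY : pResOf p Y = Y) (h : ⁅⁅A, Y⁆, Y⁆ = ⊥) :
    ⁅A, Y⁆ = ⊥ := by
  rw [commutator_comm, commutator_eq_bot_iff_le_centralizer, ← hY, pResOf_eq_closure, closure_le]
  rintro a ⟨ha, hc⟩
  rw [SetLike.mem_coe, mem_centralizer_iff_commute]
  apply centralizes_of_step hc hAY
  · intro x hx
    exact commutator_mem_commutator hx ha
  · intro y hy
    have h1 := commutator_eq_bot_iff_le_centralizer.mp h hy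
    exact (mem_centralizer_iff.mp h1 a ha).symm

/-- iterated commutators `[W,Q,…,Q]`. -/
def iterComm (W Q : Subgroup G) : ℕ → Subgroup G
  | 0 => W
  | n + 1 => ⁅iterComm W Q n, Q⁆

theorem iterComm_le {W Q : Subgroup G} (hQW : Q ≤ normalizer (W : Set G)) (n : ℕ) :
    iterComm W Q n ≤ W := by
  induction n with
  | zero => exact le_rfl
  | succ n ih => exact (commutator_mono ih le_rfl).trans (commutator_le_left_of_le_normalizer hQW)

theorem iterComm_le_lcs {W Q : Subgroup G} (hWQ : W ≤ Q) (n : ℕ) :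
    iterComm W Q n ≤ lcs Q n := by
  induction n with
  | zero => exact hWQ
  | succ n ih => exact commutator_mono ih le_rfl

/-- the module `Ω₁Z(O_p(Y))` is centralized by `Y` if `Ω₁Z(Q)` is. -/
theorem commutator_OmZ_eq_bot_of {Q Y : Subgroup G} (hQ : IsPGroup p Q) (hY : pResOf p Y = Y)
    (hQY : Q ≤ normalizer (Y : Set G)) (hYQ : Y ≤ normalizer (Q : Set G))
    (h1 : pCoreOf p Y ≤ Q) (h : ⁅OmZ p Q, Y⁆ = ⊥) : ⁅OmZ p (pCoreOf p Y), Y⁆ = ⊥ := by
  set W := OmZ p (pCoreOf p Y) with hW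
  have hWQ : W ≤ Q := (OmZ_le _).trans h1
  have hWp : IsPGroup p W := hQ.to_le hWQ
  have hQW : Q ≤ normalizer (W : Set G) :=
    (hQY.trans (normalizer_le_normalizer_pCoreOf Y)).trans (normalizer_le_normalizer_OmZ _)
  have hYW : Y ≤ normalizer (W : Set G) :=
    (le_normalizer_pCoreOf Y).trans (normalizer_le_normalizer_OmZ _)
  have hQYW : ⁅Q, Y⁆ ≤ centralizer (W : Set G) := by
    have h2 : ⁅Q, Y⁆ ≤ pCoreOf p Y := by
      apply le_pCoreOf (commutator_le_right_of_le_normalizer hQY)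
      · exact le_normalizer_commutator hYQ Subgroup.le_normalizer
      · exact hQ.to_le (commutator_le_left_of_le_normalizer hYQ)
    rw [le_centralizer_comm]
    exact (OmZ_le_centralizer _).trans (centralizer_le (by exact_mod_cast h2))
  obtain ⟨n, hn⟩ := exists_lcs_eq_bot hQ
  have key : ∀ j, j ≤ n → ⁅iterComm W Q (n - j), Y⁆ = ⊥ := by
    intro j
    induction j with
    | zero =>
      intro _
      have : iterComm W Q n = ⊥ := le_bot_iff.mp (hn ▸ iterComm_le_lcs hWQ n)
      rw [Nat.sub_zero, this]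
      exact commutator_bot_left Y
    | succ j ih =>
      intro hj
      have e : n - j = (n - (j + 1)) + 1 := by omega
      have ih' := ih (by omega)
      rw [e] at ih'
      set D := iterComm W Q (n - (j + 1)) with hD
      have hDW : D ≤ W := iterComm_le hQW _
      have a1 : ⁅⁅D, Q⁆, Y⁆ = ⊥ := ih'
      have a2 : ⁅⁅Q, Y⁆, D⁆ = ⊥ :=
        commutator_eq_bot_iff_le_centralizer.mpr
          (hQYW.trans (centralizer_le (by exact_mod_cast hDW)))
      have a3 : ⁅⁅Y, D⁆, Q⁆ = ⊥ := commutator_commutator_eq_bot_of_rotate a1 a2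
      have hDY : ⁅D, Y⁆ ≤ W :=
        (commutator_mono hDW le_rfl).trans (commutator_le_left_of_le_normalizer hYW)
      apply commutator_eq_bot_of_commutator_commutator_eq_bot (hWp.to_le hDY) hY
      rw [eq_bot_iff, ← h]
      apply commutator_mono _ le_rfl
      apply le_OmZ (hDY.trans hWQ)
      · rw [commutator_comm Y D] at a3
        exact commutator_eq_bot_iff_le_centralizer.mp a3
      · intro a ha
        exact pow_eq_one_of_mem_OmZ (hDY ha)
  have := key n le_rfl
  rwa [Nat.sub_self] at this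

/-- conversely. -/
theorem commutator_OmZ_eq_bot_of' {Q Y : Subgroup G} (hQ : IsPGroup p Q) (hY : pResOf p Y = Y)
    (hQY : Q ≤ normalizer (Y : Set G)) (hYQ : Y ≤ normalizer (Q : Set G))
    (h1 : pCoreOf p Y ≤ Q) (h : ⁅OmZ p (pCoreOf p Y), Y⁆ = ⊥) : ⁅OmZ p Q, Y⁆ = ⊥ := by
  set U := OmZ p Q with hU
  have hUQ : U ≤ Q := OmZ_le _
  have hYU : Y ≤ normalizer (U : Set G) := hYQ.trans (normalizer_le_normalizer_OmZ _)
  have hUYU : ⁅U, Y⁆ ≤ U := commutator_le_left_of_le_normalizer hYU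
  apply commutator_eq_bot_of_commutator_commutator_eq_bot (hQ.to_le (hUYU.trans hUQ)) hY
  rw [eq_bot_iff, ← h]
  apply commutator_mono _ le_rfl
  apply le_OmZ
  · apply le_pCoreOf (commutator_le_right_of_le_normalizer (hUQ.trans hQY))
    · exact le_normalizer_commutator hYU Subgroup.le_normalizer
    · exact hQ.to_le (hUYU.trans hUQ)
  · exact (hUYU.trans (OmZ_le_centralizer _)).trans (centralizer_le (by exact_mod_cast h1))
  · intro a ha
    exact pow_eq_one_of_mem_OmZ (hUYU ha)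

theorem pResOf_eq_self_of_perfect {K : Subgroup G} (h : ⁅K, K⁆ = K) : pResOf p K = K := by
  have : Group.IsPerfect ↥K := Subgroup.isPerfect_iff.mpr h
  have hn : (pResidual p ↥K).Normal := pResidual_normal
  have h2 : IsPGroup p (↥K ⧸ pResidual p ↥K) := isPGroup_quotient_pResidual
  have h3 : Group.IsNilpotent (↥K ⧸ pResidual p ↥K) := h2.isNilpotent
  have h4 : Subsingleton (↥K ⧸ pResidual p ↥K) := by
    by_contra hns
    rw [not_subsingleton_iff_nontrivial] at hns
    exact Group.IsPerfect.not_isNilpotent _ h3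
  have h5 : pResidual p ↥K = ⊤ := QuotientGroup.subgroup_eq_top_of_subsingleton _ h4
  unfold pResOf
  rw [h5, ← MonoidHom.range_eq_map, range_subtype]

/-- overgroups of a Sylow subgroup in a group of characteristic `p`. -/
theorem CharP.of_sylow_le {N H T : Subgroup G} (hN : CharP p N) (hT : IsSylowIn p T N)
    (hTH : T ≤ H) (hHN : H ≤ N) : CharP p H := by
  have h1 : pCoreOf p N ≤ pCoreOf p H :=
    le_pCoreOf ((pCoreOf_le_of_isSylowIn hT).trans hTH) (hHN.trans (le_normalizer_pCoreOf N))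
      (pCoreOf_isPGroup N)
  unfold CharP at *
  exact ((inf_le_inf hHN (centralizer_le (by exact_mod_cast h1))).trans hN).trans h1

end Finite

section QT
variable [Finite G]

theorem oddGenerated_eq (H : Subgroup G) : oddGenerated H = pResOf 2 H := by
  rw [pResOf_eq_closure]
  unfold oddGenerated
  congr 1
  ext x
  simp only [Set.mem_ofPred_eq, Nat.coprime_two_right]

theorem mem_calHe_iff {H : Subgroup G} : H ∈ calHe G ↔ CharP 2 H := by
  have : Fact (Nat.Prime 2) := ⟨Nat.prime_two⟩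
  unfold calHe
  rw [Set.mem_ofPred_eq, Helper31.genFitting_eq_pCore_iff_centralizer, charP_iff']

theorem moduleV_eq (Y : Subgroup G) : moduleV Y = ⁅OmZ 2 (pCoreOf 2 Y), Y⁆ := rfl

theorem calL_data {T K : Subgroup G} (hK : K ∈ calL T) :
    K ≠ ⊥ ∧ ⁅K, K⁆ = K ∧ (K.subgroupOf (K ⊔ T)).IsSubnormal ∧ IsSylowIn 2 T (K ⊔ T) ∧
      pCoreOf 2 (K ⊔ T) ≠ ⊥ := by
  obtain ⟨⟨h1, h2, h3, _⟩, ⟨P, hP⟩, h5⟩ := hK
  refine ⟨?_, ?_, h3, ?_, ?_⟩
  · rintro rfl
    exact h1 (bot_subgroupOf _)
  · have := congrArg (Subgroup.map (K ⊔ T).subtype) h2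
    rwa [map_commutator, map_subgroupOf_eq_of_le le_sup_left] at this
  · rw [isSylowIn_iff_exists]
    exact ⟨P, by rw [hP, map_subgroupOf_eq_of_le le_sup_right]⟩
  · intro h
    exact h5 (pCore_eq_bot_iff_pCoreOf.mpr h)

theorem charP_of_evenChar (hE : IsOfEvenCharacteristic G) (T : Sylow 2 G) {H : Subgroup G}
    (hTH : (T : Subgroup G) ≤ H) (hO : pCoreOf 2 H ≠ ⊥) : CharP 2 H := by
  have : Fact (Nat.Prime 2) := ⟨Nat.prime_two⟩
  have hHN : H ≤ normalizer (pCoreOf 2 H : Set G) := le_normalizer_pCoreOf H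
  have h1 : IsOfCharacteristicTwo ↥(normalizer (pCoreOf 2 H : Set G)) :=
    hE _ ⟨pCoreOf 2 H, pCoreOf_isPGroup H, hO, rfl⟩ ⟨T, hTH.trans hHN⟩
  have h2 : CharP 2 (normalizer (pCoreOf 2 H : Set G)) := charP_iff'.mp h1
  exact h2.of_sylow_le (isSylowIn_of_sylow T (hTH.trans hHN)) hTH hHN

theorem calLf_upward (hE : IsOfEvenCharacteristic G) (T : Sylow 2 G) {L K : Subgroup G}
    (hL : L ∈ calLf (T : Subgroup G)) (hK : K ∈ calL (T : Subgroup G)) (hLK : L ≤ K) :
    K ∈ calLf (T : Subgroup G) := by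
  have : Fact (Nat.Prime 2) := ⟨Nat.prime_two⟩
  obtain ⟨hLL, ⟨_, hLres, _⟩, hLV⟩ := hL
  obtain ⟨_, _, hLsub, hLT, hLO⟩ := calL_data hLL
  obtain ⟨hK1, hKperf, hKsub, hKT, hKO⟩ := calL_data hK
  rw [oddGenerated_eq] at hLres
  have hKres : pResOf 2 K = K := pResOf_eq_self_of_perfect hKperf
  set HL := L ⊔ (T : Subgroup G) with hHL
  set HK := K ⊔ (T : Subgroup G) with hHK
  have hHLK : HL ≤ HK := sup_le_sup_right hLK _
  have hcK : CharP 2 HK := charP_of_evenChar hE T le_sup_right hKO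
  have hR : pCoreOf 2 HK ≤ pCoreOf 2 HL :=
    le_pCoreOf ((pCoreOf_le_of_isSylowIn hKT).trans le_sup_right)
      (hHLK.trans (le_normalizer_pCoreOf HK)) (pCoreOf_isPGroup HK)
  have hU : OmZ 2 (pCoreOf 2 HL) ≤ OmZ 2 (pCoreOf 2 HK) := by
    have h1 : OmZ 2 (pCoreOf 2 HL) ≤ centralizer (pCoreOf 2 HK : Set G) :=
      (OmZ_le_centralizer _).trans (centralizer_le (by exact_mod_cast hR))
    apply le_OmZ _ h1
    · intro a ha
      exact pow_eq_one_of_mem_OmZ ha
    · intro a ha
      exact hcK (mem_inf.mpr ⟨hHLK (pCoreOf_le HL (OmZ_le _ ha)), h1 ha⟩)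
  refine ⟨hK, ⟨hK1, by rw [oddGenerated_eq]; exact hKres,
    mem_calHe_iff.mpr (hcK.of_subnIn le_sup_left hKsub)⟩, ?_⟩
  rw [moduleV_eq] at hLV ⊢
  intro hbot
  apply hLV
  have hQK : pCoreOf 2 HK ≤ normalizer (K : Set G) := by
    have := pCoreOf_le_normalizer_pResOf_of_subnIn (p := 2) le_sup_left hKsub
    rwa [hKres] at this
  have hQL : pCoreOf 2 HL ≤ normalizer (L : Set G) := by
    have := pCoreOf_le_normalizer_pResOf_of_subnIn (p := 2) le_sup_left hLsub
    rwa [hLres] at this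
  have h1 : ⁅OmZ 2 (pCoreOf 2 HK), K⁆ = ⊥ :=
    commutator_OmZ_eq_bot_of' (pCoreOf_isPGroup HK) hKres hQK
      (le_sup_left.trans (le_normalizer_pCoreOf HK))
      (pCoreOf_le_pCoreOf_of_subnIn le_sup_left hKsub) hbot
  have h2 : ⁅OmZ 2 (pCoreOf 2 HL), L⁆ = ⊥ := by
    rw [eq_bot_iff, ← h1]
    exact commutator_mono hU hLK
  exact commutator_OmZ_eq_bot_of (pCoreOf_isPGroup HL) hLres hQL
    (le_sup_left.trans (le_normalizer_pCoreOf HL))
    (pCoreOf_le_pCoreOf_of_subnIn le_sup_left hLsub) h2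

end QT

end Cfsg.Agent.Lib.Helper47
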