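import Cfsg.Agent.Lib.Helper47.MinRel
import Cfsg.Agent.S2827
import Cfsg.Agent.S2829

set_option autoImplicit false
open Cfsg Subgroup
open scoped Pointwise commutatorElement

namespace Cfsg.Agent.Lib.Helper47

variable {G : Type*} [Group G] {p : ℕ}

/-- relative form of strong `p`-irreducibility. -/
def IsSPIrrIn (p : ℕ) (E : Subgroup G) : Prop :=
  ¬ IsPClosed p ↥E ∧ ∀ N : Subgroup G, N ≤ E → E ≤ normalizer (N : Set G) →
    ¬ ⁅N, E⁆ ≤ pCoreOf p E → pResOf p E ≤ N

theorem commutator_top_le_pCore_iff {E : Subgroup G} {N : Subgroup ↥E} :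
    ⁅N, (⊤ : Subgroup ↥E)⁆ ≤ pCore p ↥E ↔ ⁅N.map E.subtype, E⁆ ≤ pCoreOf p E := by
  unfold pCoreOf
  rw [← map_le_map_iff_of_injective (subtype_injective E), map_commutator,
    ← MonoidHom.range_eq_map, range_subtype]

theorem isStronglyPIrreducible_subgroup_iff {E : Subgroup G} :
    IsStronglyPIrreducible p ↥E ↔ IsSPIrrIn p E := by
  unfold IsStronglyPIrreducible IsSPIrrIn
  refine and_congr Iff.rfl ?_
  constructor
  · intro h N hNE hn hc
    have h1 := h (N.subgroupOf E) ((normal_subgroupOf_iff_le_normalizer hNE).mpr hn) (by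
      rwa [commutator_top_le_pCore_iff, map_subgroupOf_eq_of_le hNE])
    have h2 := map_mono (f := E.subtype) h1
    rwa [map_subgroupOf_eq_of_le hNE] at h2
  · intro h N hN hc
    have h1 := h (N.map E.subtype) (map_subtype_le N) (normal_iff_le_normalizer_map.mp hN) (by
      rwa [← commutator_top_le_pCore_iff])
    exact (map_le_map_iff_of_injective (subtype_injective E)).mp h1

section Finite
variable [Finite G] [hp : Fact p.Prime]

/-- `[K,Y,Y] ≤ P` forces `[K,Y] ≤ P` when `O_p(KP) ≤ P`. -/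
theorem commutator_le_of_quadratic_mod {K Y P : Subgroup G} (hP : IsPGroup p P)
    (hKP : K ≤ normalizer (P : Set G)) (hYP : Y ≤ normalizer (P : Set G)) (hY : IsPGroup p Y)
    (hYK : Y ≤ normalizer (K : Set G)) (hO : pCoreOf p (K ⊔ P) ≤ P) (hq : ⁅⁅K, Y⁆, Y⁆ ≤ P) :
    ⁅K, Y⁆ ≤ P := by
  set N := ⁅K, Y⁆ with hN
  have hKN : K ≤ normalizer (N : Set G) := normalizer_commutator_ge_left _ _
  have hYN : Y ≤ normalizer (N : Set G) := normalizer_commutator_ge_right _ _
  have hNP : N ≤ normalizer (P : Set G) := by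
    rw [hN, commutator_le]
    intro k hk y hy
    rw [commutatorElement_def]
    exact mul_mem (mul_mem (mul_mem (hKP hk) (hYP hy)) (inv_mem (hKP hk))) (inv_mem (hYP hy))
  have hNK : N ≤ K := le_normalizer_iff_commutator_le_left.mp hYK
  set Y' := P ⊔ Y with hY'
  have hY'p : IsPGroup p Y' := IsPGroup_sup hP hY hYP
  set A := N ⊔ Y' with hA
  have h1 : A ≤ normalizer (Y' : Set G) := by
    apply sup_le _ Subgroup.le_normalizer
    apply le_normalizer_of_commutator_le
    apply commutator_sup_le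
    · exact (commutator_le_right_of_le_normalizer hNP).trans le_sup_left
    · exact hq.trans le_sup_left
    · exact le_sup_left.trans Subgroup.le_normalizer
    · exact le_sup_right.trans Subgroup.le_normalizer
  have h2 : Y' ≤ pCoreOf p A := le_pCoreOf le_sup_right h1 hY'p
  set B := K ⊔ Y' with hB
  have h3 : B ≤ normalizer (A : Set G) := by
    apply sup_le _ (le_sup_right.trans Subgroup.le_normalizer)
    apply le_normalizer_of_cj_le
    intro k hk
    show cj k (N ⊔ (P ⊔ Y)) ≤ N ⊔ (P ⊔ Y)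
    rw [cj_sup, cj_sup]
    apply sup_le
    · rw [cj_eq_self_of_mem_normalizer (hKN hk)]; exact le_sup_left
    · apply sup_le
      · rw [cj_eq_self_of_mem_normalizer (hKP hk)]; exact le_sup_left.trans le_sup_right
      · rintro _ ⟨y, hy, rfl⟩
        have e : (MulAut.conj k).toMonoidHom y = ⁅k, y⁆ * y := by
          simp [MulAut.conj_apply, commutatorElement_def]
        rw [e]
        exact mul_mem (mem_sup_left (commutator_mem_commutator hk hy))
          (mem_sup_right (mem_sup_right hy))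
  have h4 : pCoreOf p A ≤ pCoreOf p B :=
    pCoreOf_le_pCoreOf_of_normal (sup_le (hNK.trans le_sup_left) le_sup_right) h3
  set Q := pCoreOf p B with hQ
  have hBKP : B ≤ normalizer ((K ⊔ P : Subgroup G) : Set G) := by
    apply sup_le (le_sup_left.trans Subgroup.le_normalizer)
    apply sup_le (le_sup_right.trans Subgroup.le_normalizer)
    exact le_normalizer_sup hYK hYP
  have h5 : ⁅K, Q⁆ ≤ K ⊔ P :=
    (commutator_mono le_sup_left le_rfl).trans
      (commutator_le_left_of_le_normalizer ((pCoreOf_le _).trans hBKP))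
  have h6 : ⁅K, Q⁆ ≤ Q :=
    commutator_le_right_of_le_normalizer (le_sup_left.trans (le_normalizer_pCoreOf _))
  have h7 : Q ⊓ (K ⊔ P) ≤ pCoreOf p (K ⊔ P) :=
    pCoreOf_inf_le (sup_le le_sup_left (le_sup_left.trans le_sup_right))
  exact (commutator_mono le_rfl ((le_sup_right.trans h2).trans h4)).trans
    ((le_inf h6 h5).trans (h7.trans hO))

theorem IsSPIrrIn.isPIrrIn {E : Subgroup G} (h : IsSPIrrIn p E) : IsPIrrIn p E :=
  isPIrreducible_subgroup_iff.mp
    (Cfsg.Agent.S2829.result (isStronglyPIrreducible_subgroup_iff.mpr h))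

theorem IsPIrrIn.ncl_sylow {E T : Subgroup G} (h : IsPIrrIn p E) (hT : IsSylowIn p T E) :
    ncl T E = E := by
  have h1 := (Cfsg.Agent.S2827.result (isPIrreducible_subgroup_iff.mpr h) hT.toSylow).1
  rw [IsSylowIn.coe_toSylow] at h1
  have h2 := map_normalClosure_subgroupOf hT.le
  rw [h1, ← MonoidHom.range_eq_map, range_subtype] at h2
  exact h2.symm

theorem pCoreOf_sup_pGroup {E P : Subgroup G} (hP : IsPGroup p P)
    (hEP : E ≤ normalizer (P : Set G)) : pCoreOf p (E ⊔ P) = pCoreOf p E ⊔ P := by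
  have hn : E ⊔ P ≤ normalizer (P : Set G) := sup_le hEP Subgroup.le_normalizer
  apply le_antisymm
  · have h1 : P ≤ pCoreOf p (E ⊔ P) := le_pCoreOf le_sup_right hn hP
    refine (le_inf_sup_of_le_sup hEP h1 (pCoreOf_le _)).trans (sup_le_sup_right ?_ P)
    exact pCoreOf_inf_le le_sup_left
  · apply le_pCoreOf (sup_le_sup_right (pCoreOf_le E) P)
    · apply sup_le
      · exact le_normalizer_sup (le_normalizer_pCoreOf E) hEP
      · exact le_sup_right.trans Subgroup.le_normalizer
    · rw [sup_comm]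
      exact IsPGroup_sup hP (pCoreOf_isPGroup E) ((pCoreOf_le E).trans hEP)

theorem IsSPIrrIn.sup_pGroup {E P : Subgroup G} (h : IsSPIrrIn p E) (hP : IsPGroup p P)
    (hEP : E ≤ normalizer (P : Set G)) : IsSPIrrIn p (E ⊔ P) := by
  refine ⟨fun hc => h.1 (IsPClosed.mono hc le_sup_left), ?_⟩
  intro N hNF hFN hc
  have hEN : E ≤ normalizer (N : Set G) := le_sup_left.trans hFN
  have hPN : P ≤ normalizer (N : Set G) := le_sup_right.trans hFN
  have hNP : N ≤ normalizer (P : Set G) := hNF.trans (sup_le hEP Subgroup.le_normalizer)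
  set N₁ := (N ⊔ P) ⊓ E with hN₁
  have hEN₁ : E ≤ normalizer (N₁ : Set G) :=
    le_normalizer_inf (le_normalizer_sup hEN hEP) Subgroup.le_normalizer
  have hNle : N ⊔ P ≤ N₁ ⊔ P :=
    le_inf_sup_of_le_sup hEP le_sup_right (sup_le hNF le_sup_right)
  have h1 : pResOf p E ≤ N₁ := by
    apply h.2 N₁ inf_le_right hEN₁
    intro h2
    apply hc
    rw [pCoreOf_sup_pGroup hP hEP]
    set U := pCoreOf p E ⊔ P with hU
    have hEU : E ≤ normalizer (U : Set G) := le_normalizer_sup (le_normalizer_pCoreOf E) hEP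
    have hPU : P ≤ normalizer (U : Set G) := le_sup_right.trans Subgroup.le_normalizer
    refine (commutator_mono (le_sup_left.trans hNle) le_rfl).trans ?_
    apply commutator_sup_le _ _ hEU hPU
    · rw [commutator_comm]
      apply commutator_sup_le _ _ ((inf_le_right : N₁ ≤ E).trans hEU) hPU
      · rw [commutator_comm]; exact h2.trans le_sup_left
      · exact (commutator_le_right_of_le_normalizer hEP).trans le_sup_right
    · refine (commutator_le_right_of_le_normalizer ?_).trans le_sup_right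
      exact sup_le ((inf_le_right : N₁ ≤ E).trans hEP) Subgroup.le_normalizer
  -- `O^p(EP) ≤ O^p(E) P ≤ N P`
  have h2 : pResOf p (E ⊔ P) ≤ N ⊔ P := by
    apply pResOf_le_of_PQuot
    have h3 : PQuot p E (N ⊔ P) := (PQuot_pResOf E).mono_right (h1.trans inf_le_left)
    intro x hx
    have hx' : x ∈ P ⊔ E := by rw [sup_comm]; exact hx
    obtain ⟨n, hn, e, he, rfl⟩ := mem_sup_of_le_normalizer hEP hx'
    obtain ⟨k, hk⟩ := h3 e he
    refine ⟨k, ?_⟩
    obtain ⟨n', hn', hne⟩ := mul_pow_mem_mul (N := N ⊔ P) (n := n) (t := e) (mem_sup_right hn)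
      (le_normalizer_sup hEN hEP he) (p ^ k)
    rw [hne]
    exact mul_mem hn' hk
  have h3 : pResOf p (N ⊔ P) ≤ N := pResOf_le_of_PQuot (PQuot_sup hPN hP)
  calc pResOf p (E ⊔ P) = pResOf p (pResOf p (E ⊔ P)) := (pResOf_pResOf _).symm
    _ ≤ pResOf p (N ⊔ P) := pResOf_mono h2
    _ ≤ N := h3

theorem IsPIrrIn.commutator_le_pCore {F K : Subgroup G} (hF : IsPIrrIn p F)
    (hFK : F ≤ normalizer (K : Set G)) (hO : pCoreOf p (K ⊔ pCore p G) ≤ pCore p G)
    (hq : ⁅⁅K, F⁆, F⁆ ≤ pCore p G) : ⁅K, F⁆ ≤ pCore p G := by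
  have hPn : ∀ X : Subgroup G, X ≤ normalizer ((pCore p G : Subgroup G) : Set G) :=
    le_normalizer_of_normal Helper47.pCore_normal
  obtain ⟨T, hT⟩ := exists_isSylowIn p F
  have h1 : ⁅K, T⁆ ≤ pCore p G := by
    apply commutator_le_of_quadratic_mod pCore_isPGroup (hPn _) (hPn _) hT.isPGroup
      (hT.le.trans hFK) hO
    exact (commutator_mono (commutator_mono le_rfl hT.le) hT.le).trans hq
  have h2 := commutator_ncl_le hFK (hPn F) hT.le h1
  rwa [hF.ncl_sylow hT] at h2

namespace Fam

variable {𝓕 : Set (Subgroup G)} {R : Subgroup G}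

omit [Finite G] hp in
theorem pCoreOf_le (h : Fam p 𝓕 R) {F : Subgroup G} (hF : F ∈ 𝓕) :
    pCoreOf p F ≤ pCore p G := by
  have h1 : pCoreOf p F ≤ pCoreOf p R := pCoreOf_le_pCoreOf_of_normal (h.le hF) (h.norm F hF)
  have h2 : pCoreOf p R ≤ pCoreOf p ⊤ :=
    pCoreOf_le_pCoreOf_of_normal (le_top : R ≤ ⊤) (h.le_normalizer ⊤)
  rw [pCoreOf_top] at h2
  exact h1.trans h2

theorem pResidual_le (h : Fam p 𝓕 R) {N : Subgroup G} (hN : N.Normal)
    (hle : ∀ F ∈ 𝓕, pResOf p F ≤ N) : pResidual p G ≤ N := by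
  obtain ⟨T⟩ : Nonempty (Sylow p G) := inferInstance
  have h1 : R ≤ N ⊔ (T : Subgroup G) := by
    refine h.eq.le.trans ?_
    apply sSup_le
    intro F hF
    rw [← (h.isSylowIn T hF).pResOf_sup]
    exact sup_le_sup (hle F hF) inf_le_left
  have h2 : (⊤ : Subgroup G) ≤ N ⊔ (T : Subgroup G) :=
    (h.sup_sylow T).symm.le.trans (sup_le h1 le_sup_right)
  apply pResidual_le_of_PQuot
  exact (PQuot_sup (le_normalizer_of_normal hN _) T.2).mono_left h2

theorem pResOf_eq_or (h : Fam p 𝓕 R) (hS : ∀ F ∈ 𝓕, IsSPIrrIn p F)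
    (hP : ∀ F ∈ 𝓕, pCore p G ≤ F) {F K : Subgroup G} (hF : F ∈ 𝓕) (hK : K ∈ 𝓕) :
    pResOf p F = pResOf p K ∨ ⁅F, K⁆ ≤ pCore p G := by
  have hKF : K ≤ normalizer (F : Set G) := (h.le hK).trans (h.norm F hF)
  have hFK : F ≤ normalizer (K : Set G) := (h.le hF).trans (h.norm K hK)
  by_cases h2 : ⁅F ⊓ K, K⁆ ≤ pCoreOf p K
  · right
    apply (hS K hK).isPIrrIn.commutator_le_pCore hKF
    · rw [sup_eq_left.mpr (hP F hF)]; exact h.pCoreOf_le hF
    · refine (commutator_mono ?_ le_rfl).trans (h2.trans (h.pCoreOf_le hK))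
      exact le_inf (commutator_le_left_of_le_normalizer hKF)
        (commutator_le_right_of_le_normalizer hFK)
  · left
    have h3 : pResOf p K ≤ F ⊓ K :=
      (hS K hK).2 _ inf_le_right (le_normalizer_inf hKF Subgroup.le_normalizer) h2
    have h4 : pResOf p K ≤ pResOf p F := by
      rw [← pResOf_pResOf K]
      exact pResOf_mono (h3.trans inf_le_left)
    obtain ⟨g, rfl⟩ := h.trans K hK F hF
    rw [← cj_pResOf] at h4 ⊢
    exact cj_eq_of_ge h4

theorem isPIrreducible (h : Fam p 𝓕 R) (hS : ∀ F ∈ 𝓕, IsSPIrrIn p F) : IsPIrreducible p G := by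
  have hPn : ∀ X : Subgroup G, X ≤ normalizer ((pCore p G : Subgroup G) : Set G) :=
    le_normalizer_of_normal Helper47.pCore_normal
  refine ⟨?_, ?_⟩
  · intro hc
    obtain ⟨F, hF⟩ := h.nonempty
    exact (hS F hF).1 (IsPClosed.mono (isPClosed_iff_top.mp hc) le_top)
  · intro N hN hc
    have hNn := le_normalizer_of_normal hN
    by_cases hex : ∃ F ∈ 𝓕, pResOf p F ≤ N
    · obtain ⟨F, hF, hFN⟩ := hex
      apply h.pResidual_le hN
      intro F' hF'
      obtain ⟨g, rfl⟩ := h.trans F hF F' hF'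
      rw [← cj_pResOf]
      have := cj_mono (g := g) hFN
      rwa [cj_eq_self_of_mem_normalizer (hNn ⊤ (mem_top g))] at this
    · exfalso
      apply hc
      push Not at hex
      have hcore : ∀ K : Subgroup G, (⊤ : Subgroup G) ≤ normalizer (K : Set G) →
          pCoreOf p (K ⊔ pCore p G) ≤ pCore p G := by
        intro K hK
        have := pCoreOf_le_pCoreOf_of_normal (p := p) (le_top : K ⊔ pCore p G ≤ ⊤)
          (le_normalizer_sup hK (hPn ⊤))
        rwa [pCoreOf_top] at this
      set N₁ := N ⊓ R with hN₁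
      have hN₁n : ∀ X : Subgroup G, X ≤ normalizer (N₁ : Set G) := fun X =>
        le_normalizer_inf (hNn X) (h.le_normalizer X)
      have h1 : ∀ F ∈ 𝓕, ⁅N₁, F⁆ ≤ pCore p G := by
        intro F hF
        apply (hS F hF).isPIrrIn.commutator_le_pCore (hN₁n F) (hcore N₁ (hN₁n ⊤))
        have h2 : ⁅N₁, F⁆ ≤ N₁ ⊓ F :=
          le_inf (commutator_le_left_of_le_normalizer (hN₁n F))
            (commutator_le_right_of_le_normalizer (inf_le_right.trans (h.norm F hF)))
        have h3 : ⁅N₁ ⊓ F, F⁆ ≤ pCoreOf p F := by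
          by_contra hne
          have h4 := (hS F hF).2 _ inf_le_right
            (le_normalizer_inf (hN₁n F) Subgroup.le_normalizer) hne
          exact hex F hF (h4.trans (inf_le_left.trans inf_le_left))
        exact (commutator_mono h2 le_rfl).trans (h3.trans (h.pCoreOf_le hF))
      have h2 : ∀ F ∈ 𝓕, ⁅N, F⁆ ≤ pCore p G := by
        intro F hF
        apply (hS F hF).isPIrrIn.commutator_le_pCore (hNn F) (hcore N (hNn ⊤))
        have h3 : ⁅N, F⁆ ≤ N₁ :=
          le_inf (commutator_le_left_of_le_normalizer (hNn F))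
            ((commutator_mono le_rfl (h.le hF)).trans
              (commutator_le_right_of_le_normalizer (h.le_normalizer N)))
        exact (commutator_mono h3 le_rfl).trans (h1 F hF)
      have h3 : ⁅N, R⁆ ≤ pCore p G := by
        rw [h.eq, sSup_eq_iSup']
        apply commutator_iSup_le
        · intro F; exact h2 F F.2
        · intro F; exact hPn _
      obtain ⟨T⟩ : Nonempty (Sylow p G) := inferInstance
      have hTN : IsSylowIn p ((T : Subgroup G) ⊓ N) N :=
        (isSylowIn_top T).inf_of_normal le_top (hNn ⊤)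
      apply isPClosed_of_isSylowIn hTN
      refine hTN.pResOf_sup.symm.le.trans (sup_le ?_ Subgroup.le_normalizer)
      apply le_normalizer_of_commutator_le
      have hW : pResOf p N ≤ R := by
        refine le_trans ?_ h.res
        rw [← pResOf_top]
        exact pResOf_mono le_top
      apply le_inf
      · refine le_trans ?_ (pCore_le_sylow T)
        rw [commutator_comm]
        exact (commutator_mono inf_le_right hW).trans h3
      · exact (commutator_mono (pResOf_le N) inf_le_right).trans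
          (commutator_le_left_of_le_normalizer Subgroup.le_normalizer)

end Fam

end Finite

end Cfsg.Agent.Lib.Helper47
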