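import Cfsg.Agent.Lib.Helper47.Isol
import Cfsg.Agent.Lib.Lead.Cores
import Cfsg.Agent.Lib.Helper91.Subnormal
import Cfsg.Agent.S3012
import Cfsg.Agent.S3013

set_option autoImplicit false
set_option linter.unusedSectionVars false
open Cfsg Subgroup
open scoped Pointwise commutatorElement

namespace Cfsg.Agent.Lib.Helper47

universe u

section General
variable {G : Type*} [Group G]

theorem mem_of_sq_mem_of_odd {x : G} {K : Subgroup G} (hx : Odd (orderOf x)) (h : x ^ 2 ∈ K) :
    x ∈ K := by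
  obtain ⟨k, hk⟩ := hx
  have h1 : x = (x ^ 2) ^ (k + 1) := by
    rw [← pow_mul]
    have : 2 * (k + 1) = orderOf x + 1 := by omega
    rw [this, pow_succ, pow_orderOf_eq_one, one_mul]
  rw [h1]
  exact pow_mem h _

theorem eq_one_of_sq_eq_one_of_odd {x : G} (hx : Odd (orderOf x)) (h : x ^ 2 = 1) : x = 1 := by
  have : x ∈ (⊥ : Subgroup G) := mem_of_sq_mem_of_odd hx (by rw [h]; exact one_mem _)
  exact mem_bot.mp this

/-- the relative Sidki pair condition. -/
def SidkiIn (W H : Subgroup G) : Prop :=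
  ∀ h ∈ H, ∀ v ∈ W, Odd (orderOf h) → v * h * v⁻¹ = h⁻¹ → ∃ w ∈ W, w ≠ 1 ∧ w * h = h * w

theorem SidkiIn.mono {W H K : Subgroup G} (h : SidkiIn W H) (hK : K ≤ H) : SidkiIn W K :=
  fun x hx v hv => h x (hK hx) v hv

theorem sidkiIn_top {W : Subgroup G} : SidkiIn W ⊤ ↔ IsSidkiPair W :=
  ⟨fun h x v hv ho hi => h x (mem_top x) v hv ho hi, fun h x _ v hv ho hi => h x v hv ho hi⟩

theorem sidkiIn_iff_subgroupOf {W H : Subgroup G} (hWH : W ≤ H) :
    SidkiIn W H ↔ IsSidkiPair (W.subgroupOf H) := by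
  constructor
  · intro h x v hv ho hi
    have ho' : Odd (orderOf (x : G)) := by rwa [Subgroup.orderOf_coe]
    obtain ⟨w, hw, hw1, hwx⟩ := h x x.2 v hv ho' (by simpa using congrArg Subtype.val hi)
    exact ⟨⟨w, hWH hw⟩, hw, fun e => hw1 (congrArg Subtype.val e), Subtype.ext hwx⟩
  · intro h x hx v hv ho hi
    have ho' : Odd (orderOf (⟨x, hx⟩ : ↥H)) := by rwa [← Subgroup.orderOf_coe]
    obtain ⟨w, hw, hw1, hwx⟩ := h ⟨x, hx⟩ ⟨v, hWH hv⟩ hv ho' (Subtype.ext hi)
    exact ⟨w, hw, fun e => hw1 (Subtype.ext e), congrArg Subtype.val hwx⟩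

theorem IsElementaryAbelian.subgroupOf' {p : ℕ} {W H : Subgroup G} (hW : IsElementaryAbelian p W)
    (hWH : W ≤ H) : IsElementaryAbelian p (W.subgroupOf H) := by
  rw [← isElementaryAbelian_map_subtype, map_subgroupOf_eq_of_le hWH]
  exact hW

theorem IsElementaryAbelian.commute' {p : ℕ} {V : Subgroup G} (hV : IsElementaryAbelian p V)
    {a b : G} (ha : a ∈ V) (hb : b ∈ V) : a * b = b * a :=
  (mem_centralizer_iff.mp (IsElementaryAbelian.le_centralizer hV hb)) a ha

theorem exists_ne_one_of_ne_bot {H : Subgroup G} (h : H ≠ ⊥) : ∃ x ∈ H, x ≠ 1 := by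
  by_contra hcon
  push Not at hcon
  exact h (eq_bot_iff.mpr fun x hx => mem_bot.mpr (hcon x hx))

theorem inverts_comm {v k : G} (hv : v * v = 1) :
    v * (k⁻¹ * (v * k * v⁻¹)) * v⁻¹ = (k⁻¹ * (v * k * v⁻¹))⁻¹ := by
  have hvi : v⁻¹ = v := inv_eq_of_mul_eq_one_left hv
  rw [hvi]
  calc v * (k⁻¹ * (v * k * v)) * v = v * k⁻¹ * v * k * (v * v) := by group
    _ = v * k⁻¹ * v * k := by rw [hv, mul_one]
    _ = (k⁻¹ * (v * k * v))⁻¹ := by simp only [mul_inv_rev, inv_inv, hvi, mul_assoc]

theorem isNilpotent_of_le_centralizer {A : Subgroup G} (h : A ≤ centralizer (A : Set G)) :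
    Group.IsNilpotent ↥A := by
  have h1 : IsMulCommutative ↥A := le_centralizer_iff_isMulCommutative.mp h
  exact ⟨1, Subgroup.upperCentralSeries_one_eq_top_iff.mpr h1⟩

theorem isSimpleGroup_of_isComponent_of_inf_centralizer {L : Subgroup G} (hL : IsComponent L)
    (hZ : L ⊓ centralizer (L : Set G) = ⊥) : IsSimpleGroup ↥L ∧ ¬ IsMulCommutative ↥L := by
  have hZ' : center ↥L = ⊥ := by
    rw [eq_bot_iff]
    intro z hz
    have h1 : (z : G) ∈ L ⊓ centralizer (L : Set G) := by
      refine mem_inf.mpr ⟨z.2, ?_⟩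
      rw [mem_centralizer_iff]
      intro l hl
      exact congrArg Subtype.val (mem_center_iff.mp hz ⟨l, hl⟩)
    rw [hZ, mem_bot] at h1
    exact mem_bot.mpr (Subtype.ext h1)
  have hperf := hL.2.1
  have hsimp := hL.2.2
  have hnt := Helper31.IsQuasisimple.nontrivial hL.2
  constructor
  · exact ((QuotientGroup.quotientMulEquivOfEq hZ').trans
      QuotientGroup.quotientBot).symm.isSimpleGroup
  · exact Group.IsPerfect.not_isMulCommutative ↥L

end General

variable {G : Type u} [Group G] [Finite G]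

/-- a minimal counterexample to the Sidki pair theorem. -/
structure MinSidki (V : Subgroup G) : Prop where
  ea : IsElementaryAbelian 2 V
  ne : V ≠ ⊥
  sid : IsSidkiPair V
  core : V ⊓ pCore 2 G = ⊥
  minG : ∀ (H : Type u) [Group H] [Finite H] (W : Subgroup H), Nat.card H < Nat.card G →
    IsElementaryAbelian 2 W → W ≠ ⊥ → IsSidkiPair W → W ⊓ pCore 2 H ≠ ⊥
  minV : ∀ W : Subgroup G, Nat.card W < Nat.card V → IsElementaryAbelian 2 W → W ≠ ⊥ →
    IsSidkiPair W → W ⊓ pCore 2 G ≠ ⊥

namespace MinSidki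

variable {V : Subgroup G}

theorem sub (m : MinSidki V) {W H : Subgroup G} (hWV : W ≤ V) (hW1 : W ≠ ⊥) (hWH : W ≤ H)
    (hS : SidkiIn W H) (hlt : H ≠ ⊤ ∨ W ≠ V) : ∃ w ∈ W, w ≠ 1 ∧ w ∈ pCoreOf 2 H := by
  have hWe : IsElementaryAbelian 2 W := IsElementaryAbelian.mono m.ea hWV
  by_cases hH : H = ⊤
  · subst hH
    have hne : W ≠ V := hlt.resolve_left (fun h => h rfl)
    have hcard : Nat.card W < Nat.card V := by
      by_contra hge
      exact hne (Subgroup.eq_of_le_of_card_ge hWV (not_lt.mp hge))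
    have h1 := m.minV W hcard hWe hW1 (sidkiIn_top.mp hS)
    obtain ⟨w, hw, hw1⟩ := exists_ne_one_of_ne_bot h1
    exact ⟨w, hw.1, hw1, by rw [pCoreOf_top]; exact hw.2⟩
  · have hcard : Nat.card ↥H < Nat.card G := by
      by_contra hge
      apply hH
      apply Subgroup.eq_top_of_card_eq
      exact le_antisymm (Subgroup.card_le_card_group H) (not_lt.mp hge)
    have hne : W.subgroupOf H ≠ ⊥ := by
      intro h
      rw [subgroupOf_eq_bot, disjoint_iff, inf_eq_left.mpr hWH] at h
      exact hW1 h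
    have h1 := m.minG ↥H (W.subgroupOf H) hcard (IsElementaryAbelian.subgroupOf' hWe hWH) hne
      ((sidkiIn_iff_subgroupOf hWH).mp hS)
    obtain ⟨w, hw, hw1⟩ := exists_ne_one_of_ne_bot h1
    exact ⟨w, hw.1, fun e => hw1 (Subtype.ext e), ⟨w, hw.2, rfl⟩⟩

theorem quot (m : MinSidki V) {K : Subgroup G} [hn : K.Normal] (hne : K ≠ ⊥) (hVK : V ⊓ K = ⊥) :
    ∃ w ∈ V, w ≠ 1 ∧ QuotientGroup.mk' K w ∈ pCore 2 (G ⧸ K) := by
  have hcard : Nat.card (G ⧸ K) < Nat.card G := by
    rw [← K.card_mul_index]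
    have h1 : 1 < Nat.card K := by
      rw [Finite.one_lt_card_iff_nontrivial]
      exact (Subgroup.nontrivial_iff_ne_bot K).mpr hne
    have h2 : 0 < K.index := Nat.pos_of_ne_zero K.index_ne_zero_of_finite
    change K.index < _
    nlinarith
  have hS := Cfsg.Agent.S3012.result V K m.ea m.ne m.sid hVK
  have hea : IsElementaryAbelian 2 (V.map (QuotientGroup.mk' K)) := by
    rw [isElementaryAbelian_iff]
    refine ⟨?_, ?_⟩
    · rintro _ ⟨a, ha, rfl⟩
      rw [mem_centralizer_iff]
      rintro _ ⟨b, hb, rfl⟩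
      rw [← map_mul, ← map_mul, IsElementaryAbelian.commute' m.ea hb ha]
    · rintro _ ⟨a, ha, rfl⟩
      rw [← map_pow, m.ea.2 a ha, map_one]
  have hne' : V.map (QuotientGroup.mk' K) ≠ ⊥ := by
    intro h
    rw [Subgroup.map_eq_bot_iff, QuotientGroup.ker_mk'] at h
    exact m.ne (by rw [← hVK]; exact (inf_eq_left.mpr h).symm)
  have h1 := m.minG (G ⧸ K) _ hcard hea hne' hS
  obtain ⟨wb, hwb, hwb1⟩ := exists_ne_one_of_ne_bot h1
  obtain ⟨w, hw, rfl⟩ := hwb.1
  exact ⟨w, hw, fun e => hwb1 (by rw [e, map_one]), hwb.2⟩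

theorem pCore_eq_bot (m : MinSidki V) : pCore 2 G = ⊥ := by
  by_contra hne
  have hn := pCore_normal (p := 2) (G := G)
  obtain ⟨w, hw, hw1, hwO⟩ := m.quot hne m.core
  have h2 : pCore 2 (G ⧸ pCore 2 G) = ⊥ := Cfsg.Agent.Lib.Lead.pCore_quotient_pCore 2 G
  rw [h2, mem_bot] at hwO
  have h3 : w ∈ pCore 2 G := by
    rw [← QuotientGroup.ker_mk' (pCore 2 G)]
    exact hwO
  exact hw1 (mem_bot.mp (m.core ▸ mem_inf.mpr ⟨hw, h3⟩))

/-- elements of `O_2(H)` centralize the subnormal subgroups of `G` that are normal in `H`. -/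
theorem centralizes (m : MinSidki V) {N H : Subgroup G} (hN : N.IsSubnormal) (hNH : N ≤ H)
    (hHN : H ≤ normalizer (N : Set G)) : pCoreOf 2 H ≤ centralizer (N : Set G) := by
  rw [← commutator_eq_bot_iff_le_centralizer, eq_bot_iff]
  have h1 : ⁅pCoreOf 2 H, N⁆ ≤ pCoreOf 2 H ⊓ N :=
    le_inf (commutator_le_left_of_le_normalizer (hNH.trans (le_normalizer_pCoreOf H)))
      (commutator_le_right_of_le_normalizer ((pCoreOf_le H).trans hHN))
  refine h1.trans ((pCoreOf_inf_le hNH).trans ?_)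
  rw [← m.pCore_eq_bot]
  exact IsSubnormal.pCoreOf_le_pCore hN

theorem centralizer_dichotomy (m : MinSidki V) {N : Subgroup G} (hN : N.Normal) :
    V ⊓ centralizer (N : Set G) = ⊥ ∨ V ≤ centralizer (N : Set G) := by
  by_contra hcon
  push Not at hcon
  obtain ⟨hU1, hUV⟩ := hcon
  set U := V ⊓ centralizer (N : Set G) with hU
  have hUne : U ≠ V := fun h => hUV (inf_eq_left.mp h)
  have hcard : Nat.card U < Nat.card V := by
    by_contra hge
    exact hUne (Subgroup.eq_of_le_of_card_ge inf_le_left (not_lt.mp hge))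
  have hnS : ¬ IsSidkiPair U := by
    intro hS
    apply m.minV U hcard (IsElementaryAbelian.mono m.ea inf_le_left) hU1 hS
    rw [m.pCore_eq_bot, inf_bot_eq]
  unfold IsSidkiPair at hnS
  push Not at hnS
  obtain ⟨b, u, hu, hbo, hinv, hb⟩ := hnS
  have hb1 : b ≠ 1 := by
    rintro rfl
    obtain ⟨w, hw, hw1⟩ := exists_ne_one_of_ne_bot hU1
    exact hb w hw hw1 (by simp)
  have hCn : (centralizer (N : Set G)).Normal := inferInstance
  have hinv' : u * b⁻¹ * u⁻¹ = b := by
    have := congrArg (·⁻¹) hinv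
    simpa [mul_assoc] using this
  have hbC : b ∈ centralizer (N : Set G) := by
    apply mem_of_sq_mem_of_odd hbo
    have e : b ^ 2 = (b * u * b⁻¹) * u⁻¹ := by
      calc b ^ 2 = b * b := sq b
        _ = b * (u * b⁻¹ * u⁻¹) := by rw [hinv']
        _ = _ := by group
    rw [e]
    exact mul_mem (hCn.conj_mem u hu.2 b) (inv_mem hu.2)
  set C := centralizer ({u} : Set G) ⊓ centralizer ({b} : Set G) with hC
  obtain ⟨hCV, hCS⟩ := Cfsg.Agent.S3013.result V m.ea m.ne m.sid u b hu.1 hbo hinv C hC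
  set V' := C ⊓ V with hV'
  have hS' : SidkiIn V' C := (sidkiIn_iff_subgroupOf inf_le_left).mpr hCS
  have hNC : N ≤ C := by
    intro n hn
    refine mem_inf.mpr ⟨mem_centralizer_singleton_iff.mpr ?_, mem_centralizer_singleton_iff.mpr ?_⟩
    · exact ((mem_centralizer_iff.mp hu.2) n hn)
    · exact ((mem_centralizer_iff.mp hbC) n hn)
  have hHC : N ⊔ V' ≤ C := sup_le hNC inf_le_left
  have huV' : u ∉ V' := by
    intro h
    have h1 : u * b = b * u := mem_centralizer_singleton_iff.mp h.1.2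
    apply hb1
    apply eq_one_of_sq_eq_one_of_odd hbo
    have h2 : b⁻¹ = b := by
      rw [← hinv, h1]; group
    calc b ^ 2 = b * b := sq b
      _ = b⁻¹ * b := by rw [h2]
      _ = 1 := by group
  obtain ⟨w, hw, hw1, hwO⟩ := m.sub (W := V') (H := N ⊔ V') inf_le_right hCV le_sup_right
    (hS'.mono hHC) (Or.inr (fun h => huV' (h ▸ hu.1)))
  have hwN : w ∈ centralizer (N : Set G) :=
    m.centralizes hN.isSubnormal le_sup_left (by rw [normalizer_eq_top]; exact le_top) hwO
  exact hb w ⟨hw.2, hwN⟩ hw1 (mem_centralizer_singleton_iff.mp hw.1.2)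

theorem inf_centralizer_ne_bot_of_sup_ne_top (m : MinSidki V) {N : Subgroup G} (hN : N.Normal)
    (h : N ⊔ V ≠ ⊤) : V ⊓ centralizer (N : Set G) ≠ ⊥ := by
  obtain ⟨w, hw, hw1, hwO⟩ := m.sub le_rfl m.ne le_sup_right
    ((sidkiIn_top.mpr m.sid).mono le_top) (Or.inl h)
  have := m.centralizes hN.isSubnormal le_sup_left (by rw [normalizer_eq_top]; exact le_top) hwO
  intro hbot
  exact hw1 (mem_bot.mp (hbot ▸ mem_inf.mpr ⟨hw, this⟩))

theorem normalClosure_eq_top (m : MinSidki V) : normalClosure (V : Set G) = ⊤ := by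
  by_contra hne
  have hVM : V ≤ normalClosure (V : Set G) := le_normalClosure
  obtain ⟨w, hw, hw1, hwO⟩ := m.sub le_rfl m.ne hVM
    ((sidkiIn_top.mpr m.sid).mono le_top) (Or.inl hne)
  have : pCoreOf 2 (normalClosure (V : Set G)) ≤ pCore 2 G :=
    IsSubnormal.pCoreOf_le_pCore (normalClosure_normal.isSubnormal)
  rw [m.pCore_eq_bot] at this
  exact hw1 (mem_bot.mp (this hwO))

theorem center_eq_bot (m : MinSidki V) : center G = ⊥ := by
  by_contra hne
  have hVZ : V ⊓ center G = ⊥ := by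
    rw [eq_bot_iff, ← m.pCore_eq_bot]
    apply le_pCore
    · constructor
      intro n hn g
      have : g * n * g⁻¹ = n := by
        rw [(mem_center_iff.mp hn.2 g)]; group
      rw [this]; exact hn
    · exact (IsElementaryAbelian.isPGroup m.ea).to_le inf_le_left
  obtain ⟨w, hw, hw1, hwO⟩ := m.quot hne hVZ
  have : Fact (Nat.Prime 2) := ⟨Nat.prime_two⟩
  set π := QuotientGroup.mk' (center G) with hπ
  have hAb : (zpowers (π w)).IsSubnormal := by
    have hle : zpowers (π w) ≤ pCore 2 (G ⧸ center G) := zpowers_le.mpr hwO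
    exact IsSubnormal.trans hle (IsPGroup.isSubnormal pCore_isPGroup _) pCore_normal.isSubnormal
  have hA := hAb.comap π
  have hwA : zpowers w ≤ (zpowers (π w)).comap π := by
    rw [zpowers_le, mem_comap]; exact mem_zpowers _
  have hn : (zpowers (π w)).comap π ≤ normalizer ((zpowers w : Subgroup G) : Set G) := by
    refine le_trans ?_ (centralizer_le_normalizer _)
    intro a ha
    obtain ⟨k, hk⟩ := mem_zpowers_iff.mp (mem_comap.mp ha)
    have h1 : (w ^ k)⁻¹ * a ∈ center G := by
      rw [← QuotientGroup.ker_mk' (center G), MonoidHom.mem_ker, map_mul, map_inv, map_zpow]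
      change (π w ^ k)⁻¹ * π a = 1
      rw [hk]; group
    rw [mem_centralizer_iff]
    intro x hx
    obtain ⟨j, rfl⟩ := mem_zpowers_iff.mp hx
    have h2 := mem_center_iff.mp h1 (w ^ j)
    have h3 : a = w ^ k * ((w ^ k)⁻¹ * a) := by group
    generalize (w ^ k)⁻¹ * a = z at h2 h3
    calc w ^ j * a = w ^ j * (w ^ k * z) := by rw [h3]
      _ = w ^ k * (w ^ j * z) := by
        rw [← mul_assoc, ← mul_assoc, ← zpow_add, ← zpow_add, add_comm]
      _ = w ^ k * (z * w ^ j) := by rw [h2]
      _ = a * w ^ j := by rw [← mul_assoc, ← h3]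
  have hsub := isSubnormal_of_le_normalizer hwA hn hA
  have hp : IsPGroup 2 (zpowers w) :=
    (IsElementaryAbelian.isPGroup m.ea).to_le (zpowers_le.mpr hw)
  have := IsSubnormal.le_pCore hsub hp
  rw [m.pCore_eq_bot] at this
  exact hw1 (mem_bot.mp (this (mem_zpowers w)))

theorem sup_eq_top (m : MinSidki V) {N : Subgroup G} (hN : N.Normal) (hN1 : N ≠ ⊥) :
    N ⊔ V = ⊤ ∧ V ⊓ centralizer (N : Set G) = ⊥ := by
  have key : V ⊓ centralizer (N : Set G) = ⊥ := by
    rcases m.centralizer_dichotomy hN with h | h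
    · exact h
    · exfalso
      have h1 : normalClosure (V : Set G) ≤ centralizer (N : Set G) := normalClosure_le_normal h
      rw [m.normalClosure_eq_top] at h1
      apply hN1
      rw [eq_bot_iff, ← m.center_eq_bot]
      intro n hn
      rw [mem_center_iff]
      intro g
      exact (mem_centralizer_iff.mp (h1 (mem_top g)) n hn).symm
  refine ⟨?_, key⟩
  by_contra h
  exact m.inf_centralizer_ne_bot_of_sup_ne_top hN h key

theorem fitting_eq_bot (m : MinSidki V) : fittingSubgroup G = ⊥ := by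
  rw [Helper1.fittingSubgroup_eq_iSup_pCore, iSup_eq_bot]
  intro r
  by_contra hne
  have hr : Fact (r : ℕ).Prime := ⟨r.2⟩
  have hr2 : (r : ℕ) ≠ 2 := by
    intro h
    rw [h] at hne
    exact hne m.pCore_eq_bot
  set P := pCore (r : ℕ) G with hP
  have hPn : P.Normal := pCore_normal
  have hPp : IsPGroup r P := pCore_isPGroup
  set N := P ⊓ centralizer (P : Set G) with hN
  have hNn : N.Normal := inferInstance
  have hN1 : N ≠ ⊥ := center_ne_bot hPp hne
  have hNp : IsPGroup r N := hPp.to_le inf_le_left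
  have hNab : N ≤ centralizer (N : Set G) :=
    inf_le_right.trans (centralizer_le (by exact_mod_cast (inf_le_left : N ≤ P)))
  obtain ⟨htop, hcent⟩ := m.sup_eq_top hNn hN1
  have hodd : ∀ h ∈ N, Odd (orderOf h) := by
    intro h hh
    obtain ⟨k, hk⟩ := IsPGroup.iff_orderOf.mp hNp ⟨h, hh⟩
    rw [Subgroup.orderOf_mk] at hk
    rw [hk]
    exact (r.2.odd_of_ne_two hr2).pow
  have h2p : Fact (Nat.Prime 2) := ⟨Nat.prime_two⟩
  have hNV : N ⊓ V = ⊥ :=
    disjoint_iff.mp (IsPGroup.disjoint_of_ne _ _ hr2 N V hNp (IsElementaryAbelian.isPGroup m.ea))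
  have hfix : ∀ v ∈ V, v ≠ 1 → N ⊓ centralizer {v} = ⊥ := by
    intro v hv hv1
    by_contra hD1
    set D := N ⊓ centralizer {v} with hD
    have hDn : D.Normal := by
      rw [← normalizer_eq_top_iff, eq_top_iff, ← htop]
      apply sup_le
      · exact (hNab.trans (centralizer_le (by exact_mod_cast (inf_le_left : D ≤ N)))).trans
          (centralizer_le_normalizer _)
      · intro s hs
        apply mem_normalizer_of_cj_eq
        have hs1 : s ∈ centralizer {v} :=
          mem_centralizer_singleton_iff.mpr (IsElementaryAbelian.commute' m.ea hs hv)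
        rw [hD, cj_inf, cj_eq_self_of_mem hs1,
          cj_eq_self_of_mem_normalizer (by rw [normalizer_eq_top]; exact mem_top s)]
    obtain ⟨htop', _⟩ := m.sup_eq_top hDn hD1
    have hND : N ≤ D := by
      intro n hn
      have h1 : n ∈ D ⊔ V := htop' ▸ mem_top n
      obtain ⟨d, hd, s, hs, rfl⟩ :=
        mem_sup_of_le_normalizer (by rw [normalizer_eq_top]; exact le_top) h1
      have h2 : s ∈ N ⊓ V := by
        refine mem_inf.mpr ⟨?_, hs⟩
        have : s = d⁻¹ * (d * s) := by group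
        rw [this]
        exact N.mul_mem (N.inv_mem hd.1) hn
      rw [hNV, mem_bot] at h2
      rw [h2, mul_one]; exact hd
    apply hv1
    rw [← mem_bot, ← hcent]
    refine mem_inf.mpr ⟨hv, ?_⟩
    rw [mem_centralizer_iff]
    intro n hn
    exact mem_centralizer_singleton_iff.mp (hND hn).2
  obtain ⟨v, hv, hv1⟩ := exists_ne_one_of_ne_bot m.ne
  obtain ⟨k, hk, hk1⟩ := exists_ne_one_of_ne_bot hN1
  have hhN : k⁻¹ * (v * k * v⁻¹) ∈ N := mul_mem (inv_mem hk) (hNn.conj_mem k hk v)
  have hv2 : v * v = 1 := by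
    have := m.ea.2 v hv
    rwa [sq] at this
  obtain ⟨w, hw, hw1, hwh⟩ := m.sid _ v hv (hodd _ hhN) (inverts_comm hv2)
  have h1 : k⁻¹ * (v * k * v⁻¹) ∈ N ⊓ centralizer {w} :=
    ⟨hhN, mem_centralizer_singleton_iff.mpr hwh.symm⟩
  rw [hfix w hw hw1, mem_bot] at h1
  have h2 : k ∈ N ⊓ centralizer {v} := by
    refine mem_inf.mpr ⟨hk, mem_centralizer_singleton_iff.mpr ?_⟩
    have h3 : v * k * v⁻¹ = k := by
      have := congrArg (k * ·) h1
      simpa using this
    calc k * v = (v * k * v⁻¹) * v := by rw [h3]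
      _ = v * k := by group
  rw [hfix v hv hv1, mem_bot] at h2
  exact hk1 h2

theorem component_inf_centralizer (m : MinSidki V) {L : Subgroup G} (hL : IsComponent L) :
    L ⊓ centralizer (L : Set G) = ⊥ := by
  rw [eq_bot_iff, ← m.fitting_eq_bot]
  apply Helper91.le_fittingSubgroup_of_isSubnormal
  · refine isSubnormal_of_le_normalizer inf_le_left ?_ hL.1
    intro l hl
    apply mem_normalizer_of_cj_eq
    rw [cj_inf, cj_centralizer, cj_eq_self_of_mem hl]
  · apply isNilpotent_of_le_centralizer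
    exact inf_le_right.trans (centralizer_le (by
      exact_mod_cast (inf_le_left : L ⊓ centralizer (L : Set G) ≤ L)))

theorem component_normal (m : MinSidki V) {L : Subgroup G} (hL : IsComponent L) : L.Normal := by
  have hZ := m.component_inf_centralizer hL
  have hE1 : layer G ≠ ⊥ := fun h =>
    Helper31.IsComponent.ne_bot hL (le_bot_iff.mp (h ▸ Helper31.IsComponent.le_layer hL))
  have hEn := Helper31.layer_normal (G := G)
  obtain ⟨hEV, _⟩ := m.sup_eq_top hEn hE1
  have hnorm : ∀ K : Subgroup G, IsComponent K → layer G ≤ normalizer (K : Set G) := by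
    intro K hK
    apply sSup_le
    intro K' hK'
    by_cases h : K' = K
    · rw [h]; exact Subgroup.le_normalizer
    · have := Helper31.IsComponent.commutator_eq_bot_of_ne hK' hK h
      exact (commutator_eq_bot_iff_le_centralizer.mp this).trans (centralizer_le_normalizer _)
  have hcomp : ∀ g : G, IsComponent (cj g L) :=
    fun g => Helper31.IsComponent.map_equiv hL (MulAut.conj g)
  have hdist : ∀ s : G, s ∉ normalizer (L : Set G) → cj s L ≤ centralizer (L : Set G) := by
    intro s hs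
    have hne : cj s L ≠ L := fun h => hs (mem_normalizer_of_cj_eq h)
    exact commutator_eq_bot_iff_le_centralizer.mp
      (Helper31.IsComponent.commutator_eq_bot_of_ne (hcomp s) hL hne)
  by_contra hLn
  set V₀ := V ⊓ normalizer (L : Set G) with hV₀
  have hCVL : V ⊓ centralizer (L : Set G) = ⊥ := by
    have hNn : (normalClosure (L : Set G)).Normal := normalClosure_normal
    have hN1 : normalClosure (L : Set G) ≠ ⊥ := fun h =>
      Helper31.IsComponent.ne_bot hL (le_bot_iff.mp (h ▸ le_normalClosure))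
    obtain ⟨_, h2⟩ := m.sup_eq_top hNn hN1
    rw [eq_bot_iff, ← h2]
    refine le_inf inf_le_left ?_
    intro w hw
    have key : normalClosure (L : Set G) ≤ centralizer {w} := by
      unfold normalClosure
      rw [closure_le]
      intro x hx
      obtain ⟨l, hl, hc⟩ := Group.mem_conjugatesOfSet_iff.mp hx
      obtain ⟨g, rfl⟩ := isConj_iff.mp hc
      have hg : g ∈ layer G ⊔ V := hEV ▸ mem_top g
      obtain ⟨e, he, s, hs, rfl⟩ := mem_sup_of_le_normalizer (N := layer G) (T := V)
        (by rw [normalizer_eq_top]; exact le_top) hg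
      have h1 : e * s * l * (e * s)⁻¹ ∈ cj s L := by
        have : cj (e * s) L = cj s L := by
          rw [cj_mul, cj_eq_self_of_mem_normalizer (hnorm _ (hcomp s) he)]
        rw [← this]; exact conj_mem_cj hl
      have h3 : w ∈ centralizer ((cj s L : Subgroup G) : Set G) := by
        rw [← cj_centralizer]
        have : w = s * w * s⁻¹ := by
          rw [IsElementaryAbelian.commute' m.ea hs hw.1]; group
        rw [this]; exact conj_mem_cj hw.2
      exact mem_centralizer_singleton_iff.mpr (mem_centralizer_iff.mp h3 _ h1)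
    rw [mem_centralizer_iff]
    intro n hn
    exact mem_centralizer_singleton_iff.mp (key hn)
  have hH : L ⊔ V₀ ≤ normalizer (L : Set G) := sup_le Subgroup.le_normalizer inf_le_right
  have hHtop : L ⊔ V₀ ≠ ⊤ := by
    intro h
    apply hLn
    rw [← normalizer_eq_top_iff, eq_top_iff, ← h]
    exact hH
  by_cases hV₀1 : V₀ = ⊥
  · obtain ⟨t, ht, ht1⟩ := exists_ne_one_of_ne_bot m.ne
    have hnotin : ∀ s ∈ V, s ≠ 1 → s ∉ normalizer (L : Set G) := by
      intro s hs hs1 hsn
      exact hs1 (mem_bot.mp (hV₀1 ▸ mem_inf.mpr ⟨hs, hsn⟩))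
    have ht2 : t * t = 1 := by
      have := m.ea.2 t ht
      rwa [sq] at this
    obtain ⟨a, haL, hao, ha1⟩ : ∃ a ∈ L, Odd (orderOf a) ∧ a ≠ 1 := by
      have hL2 : ¬ IsPGroup 2 L := fun h =>
        Helper31.IsComponent.ne_bot hL
          (le_bot_iff.mp (m.pCore_eq_bot ▸ IsSubnormal.le_pCore hL.1 h))
      obtain ⟨q, hq, hqd, hq2⟩ : ∃ q, q.Prime ∧ q ∣ Nat.card L ∧ q ≠ 2 := by
        by_contra hcon
        push Not at hcon
        apply hL2
        have := Nat.eq_prime_pow_of_unique_prime_dvd (n := Nat.card L) (p := 2)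
          Nat.card_pos.ne' (fun {d} hd hdv => hcon d hd hdv)
        exact IsPGroup.of_card this
      have : Fact q.Prime := ⟨hq⟩
      obtain ⟨y, hy⟩ := exists_prime_orderOf_dvd_card' q hqd
      refine ⟨y, y.2, ?_, ?_⟩
      · rw [Subgroup.orderOf_coe, hy]; exact hq.odd_of_ne_two hq2
      · intro h
        have : y = 1 := Subtype.ext h
        rw [this, orderOf_one] at hy
        exact hq.one_lt.ne hy
    have hcomm : Commute a (t * a * t⁻¹) :=
      (mem_centralizer_iff.mp (hdist t (hnotin t ht ht1) (conj_mem_cj haL)) a haL)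
    have hho : Odd (orderOf (a⁻¹ * (t * a * t⁻¹))) := by
      have : (a⁻¹ * (t * a * t⁻¹)) ^ orderOf a = 1 := by
        rw [(hcomm.inv_left).mul_pow, inv_pow, pow_orderOf_eq_one, conj_pow, pow_orderOf_eq_one]
        simp
      exact Odd.of_dvd_nat hao (orderOf_dvd_of_pow_eq_one this)
    obtain ⟨w, hw, hw1, hwh⟩ := m.sid _ t ht hho (inverts_comm ht2)
    by_cases hwt : w = t
    · subst hwt
      have h1 : (a⁻¹ * (w * a * w⁻¹))⁻¹ = a⁻¹ * (w * a * w⁻¹) := by
        rw [← inverts_comm ht2, hwh]; group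
      have h2 : a⁻¹ * (w * a * w⁻¹) = 1 := by
        apply eq_one_of_sq_eq_one_of_odd hho
        rw [sq]
        nth_rewrite 1 [← h1]
        group
      have h3 : w * a * w⁻¹ = a := by
        have := congrArg (a * ·) h2
        simpa using this
      have h4 : a ∈ cj w L := by
        rw [← h3]; exact conj_mem_cj haL
      exact ha1 (mem_bot.mp (hZ ▸ mem_inf.mpr ⟨haL, hdist w (hnotin w hw hw1) h4⟩))
    · have hwt1 : w * t ≠ 1 := by
        intro h
        apply hwt
        calc w = w * (t * t) := by rw [ht2, mul_one]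
          _ = (w * t) * t := by group
          _ = t := by rw [h, one_mul]
      have h5 : (w * a * w⁻¹)⁻¹ * ((w * t) * a * (w * t)⁻¹) = a⁻¹ * (t * a * t⁻¹) := by
        calc _ = w * (a⁻¹ * (t * a * t⁻¹)) * w⁻¹ := by group
          _ = _ := by rw [hwh]; group
      have hA := hdist w (hnotin w hw hw1) (conj_mem_cj haL)
      have hB := hdist (w * t) (hnotin (w * t) (mul_mem hw ht) hwt1) (conj_mem_cj haL)
      have hT := hdist t (hnotin t ht ht1) (conj_mem_cj haL)
      generalize w * a * w⁻¹ = A at h5 hA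
      generalize (w * t) * a * (w * t)⁻¹ = B at h5 hB
      generalize t * a * t⁻¹ = T at h5 hT
      have h6 : a⁻¹ = A⁻¹ * B * T⁻¹ := by rw [h5]; group
      have h7 : a = T * B⁻¹ * A := by
        calc a = (a⁻¹)⁻¹ := by group
          _ = (A⁻¹ * B * T⁻¹)⁻¹ := by rw [h6]
          _ = T * B⁻¹ * A := by group
      have h8 : a ∈ centralizer (L : Set G) := by
        rw [h7]
        exact mul_mem (mul_mem hT (inv_mem hB)) hA
      exact ha1 (mem_bot.mp (hZ ▸ mem_inf.mpr ⟨haL, h8⟩))
  · have hnS : ¬ SidkiIn V₀ (L ⊔ V₀) := by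
      intro hS
      obtain ⟨w, hw, hw1, hwO⟩ := m.sub inf_le_left hV₀1 le_sup_right hS (Or.inl hHtop)
      have := m.centralizes hL.1 le_sup_left hH hwO
      exact hw1 (mem_bot.mp (hCVL ▸ mem_inf.mpr ⟨hw.1, this⟩))
    unfold SidkiIn at hnS
    push Not at hnS
    obtain ⟨a, haH, v₀, hv₀, hao, hinv, ha⟩ := hnS
    have haL : a ∈ L := by
      apply mem_of_sq_mem_of_odd hao
      obtain ⟨l, hl, v, hv, rfl⟩ := mem_sup_of_le_normalizer (N := L) (T := V₀) inf_le_right haH
      have hv2 : v * v = 1 := by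
        have := m.ea.2 v hv.1
        rwa [sq] at this
      have : (l * v) ^ 2 = l * (v * l * v⁻¹) := by
        calc (l * v) ^ 2 = l * v * (l * v) := sq _
          _ = l * (v * l * v⁻¹) * (v * v) := by group
          _ = _ := by rw [hv2, mul_one]
      rw [this]
      exact mul_mem hl (conj_mem_of_mem_normalizer hv.2 hl)
    have ha1 : a ≠ 1 := by
      rintro rfl
      obtain ⟨w, hw, hw1⟩ := exists_ne_one_of_ne_bot hV₀1
      exact ha w hw hw1 (by simp)
    obtain ⟨w, hw, hw1, hwa⟩ := m.sid a v₀ hv₀.1 hao hinv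
    by_cases hwn : w ∈ normalizer (L : Set G)
    · exact ha w ⟨hw, hwn⟩ hw1 hwa
    · have h1 : a ∈ cj w L := by
        have : a = w * a * w⁻¹ := by rw [hwa]; group
        rw [this]; exact conj_mem_cj haL
      exact ha1 (mem_bot.mp (hZ ▸ mem_inf.mpr ⟨haL, hdist w hwn h1⟩))

theorem main (m : MinSidki V) : IsSimpleGroup ↥(generalizedFittingSubgroup G) ∧
    ¬ IsMulCommutative ↥(generalizedFittingSubgroup G) ∧
      V ⊔ generalizedFittingSubgroup G = ⊤ := by
  have hFs1 : generalizedFittingSubgroup G ≠ ⊥ := by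
    intro h
    have h1 := Helper31.centralizer_genFitting_le (G := G)
    rw [h] at h1
    apply m.ne
    rw [eq_bot_iff]
    intro v _
    apply h1
    rw [mem_centralizer_iff]
    intro x hx
    rw [SetLike.mem_coe, mem_bot] at hx
    rw [hx, one_mul, mul_one]
  have hFsE : generalizedFittingSubgroup G = layer G := by
    unfold generalizedFittingSubgroup
    rw [m.fitting_eq_bot, sup_bot_eq]
  obtain ⟨L, hL⟩ : ∃ L : Subgroup G, IsComponent L := by
    by_contra hcon
    push Not at hcon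
    apply hFs1
    rw [hFsE, eq_bot_iff]
    exact sSup_le (fun K hK => absurd hK (hcon K))
  have hLn := m.component_normal hL
  obtain ⟨hLV, _⟩ := m.sup_eq_top hLn (Helper31.IsComponent.ne_bot hL)
  have hZ := m.component_inf_centralizer hL
  have hC : centralizer (L : Set G) = ⊥ := by
    rw [eq_bot_iff, ← m.pCore_eq_bot]
    apply le_pCore inferInstance
    intro c
    refine ⟨1, Subtype.ext ?_⟩
    have hc : (c : G) ∈ L ⊔ V := hLV ▸ mem_top _
    obtain ⟨l, hl, v, hv, hlv⟩ := mem_sup_of_le_normalizer (N := L) (T := V)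
      (by rw [normalizer_eq_top]; exact le_top) hc
    have hv2 : v * v = 1 := by
      have := m.ea.2 v hv
      rwa [sq] at this
    have h1 : (c : G) ^ 2 = l * (v * l * v⁻¹) := by
      rw [hlv]
      calc (l * v) ^ 2 = l * v * (l * v) := sq _
        _ = l * (v * l * v⁻¹) * (v * v) := by group
        _ = _ := by rw [hv2, mul_one]
    have h2 : (c : G) ^ 2 ∈ L ⊓ centralizer (L : Set G) := by
      refine mem_inf.mpr ⟨?_, pow_mem c.2 2⟩
      rw [h1]
      exact mul_mem hl (hLn.conj_mem l hl v)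
    rw [hZ, mem_bot] at h2
    simpa using h2
  have hlayer : layer G = L := by
    refine le_antisymm (sSup_le fun K hK => ?_) (Helper31.IsComponent.le_layer hL)
    by_contra hKL
    have hne : K ≠ L := fun h => hKL h.le
    have h1 := commutator_eq_bot_iff_le_centralizer.mp
      (Helper31.IsComponent.commutator_eq_bot_of_ne hK hL hne)
    rw [hC] at h1
    exact Helper31.IsComponent.ne_bot hK (le_bot_iff.mp h1)
  rw [hFsE, hlayer]
  obtain ⟨h1, h2⟩ := isSimpleGroup_of_isComponent_of_inf_centralizer hL hZ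
  exact ⟨h1, h2, by rw [sup_comm]; exact hLV⟩

end MinSidki

end Cfsg.Agent.Lib.Helper47
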