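import Cfsg.Agent.Lib.Helper47.WC2

set_option autoImplicit false
open Cfsg Subgroup
open scoped Pointwise commutatorElement

namespace Cfsg.Agent.Lib.Helper47

variable {G : Type*} [Group G] {p : ℕ}

theorem le_subnormalClosure (A : Subgroup G) : A ≤ subnormalClosure A :=
  le_sInf (fun _ h => h.1)

theorem subnormalClosure_le {A X : Subgroup G} (hAX : A ≤ X) (hX : X.IsSubnormal) :
    subnormalClosure A ≤ X := sInf_le ⟨hAX, hX⟩

theorem isSubnormal_sInf_of_finite {S : Set (Subgroup G)} (hS : S.Finite)
    (h : ∀ X ∈ S, X.IsSubnormal) : (sInf S).IsSubnormal := by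
  induction S, hS using Set.Finite.induction_on with
  | empty => simp
  | insert _ _ ih =>
    rw [sInf_insert]
    exact (h _ (Set.mem_insert _ _)).inf (ih (fun X hX => h X (Set.mem_insert_of_mem _ hX)))

theorem isSubnormal_subnormalClosure [Finite G] (A : Subgroup G) :
    (subnormalClosure A).IsSubnormal :=
  isSubnormal_sInf_of_finite (Set.toFinite _) (fun _ h => h.2)

theorem IsSubnormal.cj {X : Subgroup G} (h : X.IsSubnormal) (g : G) : (cj g X).IsSubnormal :=
  h.map (MulAut.conj g).surjective

theorem isSubnormal_of_le_normalizer {X K : Subgroup G} (hXK : X ≤ K)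
    (hn : K ≤ normalizer (X : Set G)) (hK : K.IsSubnormal) : X.IsSubnormal :=
  IsSubnormal.step X K hXK hK ((normal_subgroupOf_iff_le_normalizer hXK).mpr hn)

/-- every subgroup of a finite group with the normalizer condition is subnormal -/
theorem isSubnormal_of_normalizerCondition [Finite G] (h : NormalizerCondition G)
    (X : Subgroup G) : X.IsSubnormal := by
  induction X using WellFoundedGT.induction with
  | ind X ih =>
    by_cases hX : X = ⊤
    · rw [hX]; exact IsSubnormal.top
    · exact isSubnormal_of_le_normalizer le_normalizer le_rfl (ih _ (h X (lt_top_iff_ne_top.mpr hX)))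

theorem IsPGroup.isSubnormal [Finite G] [Fact p.Prime] (h : IsPGroup p G) (X : Subgroup G) :
    X.IsSubnormal := by
  haveI := h.isNilpotent
  exact isSubnormal_of_normalizerCondition Group.normalizerCondition_of_isNilpotent X

/-- overgroups of a normal subgroup with `p`-group quotient are subnormal -/
theorem isSubnormal_of_isPGroup_quotient [Finite G] [Fact p.Prime] {N X : Subgroup G} [N.Normal]
    (h : IsPGroup p (G ⧸ N)) (hNX : N ≤ X) : X.IsSubnormal := by
  have h1 := (IsPGroup.isSubnormal h (X.map (QuotientGroup.mk' N))).comap (QuotientGroup.mk' N)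
  rwa [comap_map_eq_self (by rw [QuotientGroup.ker_mk']; exact hNX)] at h1

theorem isSubnormal_of_pResOf_le [Finite G] [Fact p.Prime] {K X : Subgroup G}
    (hK : K.IsSubnormal) (h1 : pResOf p K ≤ X) (h2 : X ≤ K) : X.IsSubnormal := by
  haveI : (pResidual p ↥K).Normal := pResidual_normal
  apply IsSubnormal.trans h2 _ hK
  apply isSubnormal_of_isPGroup_quotient (p := p) (N := pResidual p ↥K)
    isPGroup_quotient_pResidual
  rw [← pResOf_subgroupOf]
  exact comap_mono h1

section closure

variable [Finite G] (A : Subgroup G)

theorem ncl_subnormalClosure : ncl A (subnormalClosure A) = subnormalClosure A := by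
  apply le_antisymm (ncl_le_self (le_subnormalClosure A))
  exact subnormalClosure_le (le_ncl _ _)
    (isSubnormal_of_le_normalizer (ncl_le_self (le_subnormalClosure A)) (le_normalizer_ncl _ _)
      (isSubnormal_subnormalClosure A))

theorem normalizer_le_normalizer_subnormalClosure :
    normalizer (A : Set G) ≤ normalizer (subnormalClosure A : Set G) := by
  apply le_normalizer_of_cj_le
  intro g hg
  rw [cj_le_iff]
  apply subnormalClosure_le _ (IsSubnormal.cj (isSubnormal_subnormalClosure A) _)
  rw [← cj_le_iff, cj_eq_self_of_mem_normalizer hg]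
  exact le_subnormalClosure A

theorem sup_pResOf_subnormalClosure [Fact p.Prime] :
    A ⊔ pResOf p (subnormalClosure A) = subnormalClosure A := by
  apply le_antisymm (sup_le (le_subnormalClosure A) (pResOf_le _))
  exact subnormalClosure_le le_sup_left
    (isSubnormal_of_pResOf_le (p := p) (isSubnormal_subnormalClosure A) le_sup_right
      (sup_le (le_subnormalClosure A) (pResOf_le _)))

theorem commutator_pResOf_subnormalClosure [Fact p.Prime] (hA : IsPGroup p A) :
    ⁅pResOf p (subnormalClosure A), A⁆ = pResOf p (subnormalClosure A) := by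
  set K := subnormalClosure A with hK
  set K₀ := pResOf p K with hK₀
  have hAK : A ≤ K := le_subnormalClosure A
  have hKK₀ : K ≤ normalizer (K₀ : Set G) := le_normalizer_pResOf K
  have hle : ⁅K₀, A⁆ ≤ K₀ := le_normalizer_iff_commutator_le_left.mp (hAK.trans hKK₀)
  apply le_antisymm hle
  set R := ⁅K₀, A⁆ with hR
  have hK₀R : K₀ ≤ normalizer (R : Set G) := normalizer_commutator_ge_left K₀ A
  have hAR : A ≤ normalizer (R : Set G) := normalizer_commutator_ge_right K₀ A
  have hsup : A ⊔ K₀ = K := sup_pResOf_subnormalClosure A
  have hn : K ≤ normalizer ((R ⊔ A : Subgroup G) : Set G) := by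
    rw [← hsup]
    apply sup_le
    · exact le_normalizer_sup hAR le_normalizer
    · apply le_normalizer_of_cj_le
      intro k hk
      rw [cj_sup, cj_eq_self_of_mem_normalizer (hK₀R hk)]
      apply sup_le le_sup_left
      have := cj_le_sup_commutator (B := A) (V := A) (X := K₀) le_rfl hk
      rwa [commutator_comm] at this
  have h1 : K ≤ R ⊔ A := subnormalClosure_le le_sup_right
    (isSubnormal_of_le_normalizer (sup_le (hle.trans (pResOf_le K)) hAK) hn
      (isSubnormal_subnormalClosure A))
  exact pResOf_le_of_PQuot ((PQuot_sup hAR hA).mono_left h1)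

end closure

end Cfsg.Agent.Lib.Helper47
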