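import Cfsg.Agent.Lib.Helper47.Frat

set_option autoImplicit false
open Cfsg Subgroup
open scoped Pointwise commutatorElement IsMulCommutative

namespace Cfsg.Agent.Lib.Helper47

section abstract

variable {E M : Type*} [Group E] [CommGroup M] [MulDistribMulAction E M] (T : Subgroup E)
  [Fintype (E ⧸ T)]

/-- the trace (relative norm) map `f ↦ ∏_{q ∈ E/T} q • f`. -/
noncomputable def trc : M →* M where
  toFun f := ∏ q : E ⧸ T, (q.out • f)
  map_one' := by simp
  map_mul' a b := by simp [smul_mul', Finset.prod_mul_distrib]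

theorem trc_apply (f : M) : trc T f = ∏ q : E ⧸ T, (q.out • f) := rfl

variable {T}

theorem out_smul {f : M} (hf : ∀ t ∈ T, t • f = f) (e : E) :
    ((e : E ⧸ T).out) • f = e • f := by
  obtain ⟨t, ht⟩ := QuotientGroup.mk_out_eq_mul T e
  rw [ht, mul_smul, hf t t.2]

theorem prod_transversal {ι : Type*} [Fintype ι] {f : M} (hf : ∀ t ∈ T, t • f = f) (r : ι → E)
    (hr : Function.Bijective (fun i => (r i : E ⧸ T))) : ∏ i, (r i • f) = trc T f := by
  rw [trc_apply, ← Function.Bijective.prod_comp hr (fun q : E ⧸ T => q.out • f)]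
  exact Finset.prod_congr rfl (fun i _ => (out_smul hf (r i)).symm)

theorem smul_trc {f : M} (hf : ∀ t ∈ T, t • f = f) (e : E) : e • trc T f = trc T f := by
  rw [trc_apply, Finset.smul_prod']
  simp_rw [← mul_smul]
  apply prod_transversal hf
  have : (fun q : E ⧸ T => ((e * q.out : E) : E ⧸ T)) = fun q => e • q := by
    funext q
    conv_rhs => rw [← QuotientGroup.out_eq' q]
    rfl
  rw [this]
  exact MulAction.bijective e

theorem trc_of_fixed {f : M} (hf : ∀ e : E, e • f = f) : trc T f = f ^ T.index := by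
  rw [trc_apply]
  simp_rw [hf]
  rw [Finset.prod_const, Finset.card_univ, index_eq_card, Nat.card_eq_fintype_card]

theorem trc_div_mem (W : Subgroup M) {f : M} (h : ∀ e : E, (e • f) / f ∈ W) :
    trc T f / f ^ T.index ∈ W := by
  have : trc T f / f ^ T.index = ∏ q : E ⧸ T, ((q.out • f) / f) := by
    rw [Finset.prod_div_distrib, Finset.prod_const, Finset.card_univ, index_eq_card,
      Nat.card_eq_fintype_card, trc_apply]
  rw [this]
  exact prod_mem (fun q _ => h _)

theorem trc_equivariant (α : E ≃* E) (hα : ∀ x, α x ∈ T ↔ x ∈ T) (β : M ≃* M)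
    (hαβ : ∀ e m, β (e • m) = α e • β m) {f : M} (hf : ∀ t ∈ T, t • f = f) :
    β (trc T f) = trc T (β f) := by
  rw [trc_apply, map_prod]
  simp_rw [hαβ]
  apply prod_transversal
  · intro t ht
    have h1 : α.symm t ∈ T := by rw [← hα]; simpa using ht
    have := hαβ (α.symm t) f
    rw [hf _ h1] at this
    simpa using this.symm
  · apply (Finite.injective_iff_bijective).mp
    intro q q' h
    simp only at h
    rw [QuotientGroup.eq, ← map_inv, ← map_mul, hα, ← QuotientGroup.eq] at h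
    simpa using h

end abstract

section concrete

variable {G : Type*} [Group G]

/-- conjugation action of `E ≤ N(B)` on `B`, as a `MulDistribMulAction`. -/
def conjDistrib {B E : Subgroup G} (hE : E ≤ normalizer (B : Set G)) :
    MulDistribMulAction ↥E ↥B where
  smul e x := ⟨(e : G) * x * (e : G)⁻¹, conj_mem_of_mem_normalizer (hE e.2) x.2⟩
  one_smul x := Subtype.ext (by show ((1 : ↥E) : G) * x * ((1 : ↥E) : G)⁻¹ = x; simp)
  mul_smul a b x := Subtype.ext (by
    show ((a * b : ↥E) : G) * x * ((a * b : ↥E) : G)⁻¹ = (a : G) * ((b : G) * x * (b : G)⁻¹) * (a : G)⁻¹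
    simp [mul_assoc])
  smul_mul e x y := Subtype.ext (by
    show (e : G) * ((x * y : ↥B) : G) * (e : G)⁻¹ = ((e : G) * x * (e : G)⁻¹) * ((e : G) * y * (e : G)⁻¹)
    simp [mul_assoc])
  smul_one e := Subtype.ext (by
    show (e : G) * ((1 : ↥B) : G) * (e : G)⁻¹ = ((1 : ↥B) : G)
    simp)

/-- the properties of the trace map `C_B(T₀) → C_B(E)`. -/
structure IsTrace (B E T₀ : Subgroup G) (τ : G → G) : Prop where
  mem : ∀ f ∈ B, τ f ∈ B
  mul : ∀ f ∈ B, ∀ g ∈ B, τ (f * g) = τ f * τ g
  fixed : ∀ f ∈ B, f ∈ centralizer (T₀ : Set G) → τ f ∈ centralizer (E : Set G)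
  of_fixed : ∀ f ∈ B, f ∈ centralizer (E : Set G) → τ f = f ^ T₀.relIndex E
  div_mem : ∀ W : Subgroup G, ∀ f ∈ B, (∀ e ∈ E, e * f * e⁻¹ * f⁻¹ ∈ W) →
    τ f * (f ^ T₀.relIndex E)⁻¹ ∈ W
  equivariant : ∀ t, t ∈ normalizer (E : Set G) → t ∈ normalizer (T₀ : Set G) →
    t ∈ normalizer (B : Set G) → ∀ f ∈ B, f ∈ centralizer (T₀ : Set G) →
    τ (t * f * t⁻¹) = t * τ f * t⁻¹

theorem conj_eq_of_mem_centralizer {X : Subgroup G} {f e : G} (hf : f ∈ centralizer (X : Set G))
    (he : e ∈ X) : e * f * e⁻¹ = f := by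
  rw [(mem_centralizer_iff.mp hf) e he]; group

theorem mem_centralizer_of_conj_eq {X : Subgroup G} {f : G} (h : ∀ e ∈ X, e * f * e⁻¹ = f) :
    f ∈ centralizer (X : Set G) := by
  rw [mem_centralizer_iff]
  intro e he
  calc e * f = (e * f * e⁻¹) * e := by group
    _ = f * e := by rw [h e he]

theorem exists_isTrace [Finite G] {B E : Subgroup G} (T₀ : Subgroup G)
    (hB : B ≤ centralizer (B : Set G)) (hE : E ≤ normalizer (B : Set G)) :
    ∃ τ : G → G, IsTrace B E T₀ τ := by
  classical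
  haveI : IsMulCommutative ↥B := le_centralizer_iff_isMulCommutative.mp hB
  letI := conjDistrib hE
  letI : Fintype (↥E ⧸ T₀.subgroupOf E) := Fintype.ofFinite _
  have hsmul : ∀ (e : ↥E) (x : ↥B), ((e • x : ↥B) : G) = (e : G) * x * (e : G)⁻¹ := fun _ _ => rfl
  have hfix : ∀ f : ↥B, (f : G) ∈ centralizer (T₀ : Set G) →
      ∀ t ∈ T₀.subgroupOf E, t • f = f := by
    intro f hf t ht
    apply Subtype.ext
    rw [hsmul]
    exact conj_eq_of_mem_centralizer hf ht
  refine ⟨fun f => if h : f ∈ B then ((trc (T₀.subgroupOf E) (⟨f, h⟩ : ↥B) : ↥B) : G) else 1, ?_⟩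
  constructor
  · intro f hf
    simp only [hf, dif_pos]
    exact SetLike.coe_mem _
  · intro f hf g hg
    simp only [hf, hg, mul_mem hf hg, dif_pos]
    rw [← Subgroup.coe_mul, ← map_mul]
    rfl
  · intro f hf hfT
    simp only [hf, dif_pos]
    apply mem_centralizer_of_conj_eq
    intro e he
    have := congrArg Subtype.val (smul_trc (hfix ⟨f, hf⟩ hfT) ⟨e, he⟩)
    rwa [hsmul] at this
  · intro f hf hfE
    simp only [hf, dif_pos]
    rw [trc_of_fixed]
    · rfl
    · intro e
      apply Subtype.ext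
      rw [hsmul]
      exact conj_eq_of_mem_centralizer hfE e.2
  · intro W f hf h
    simp only [hf, dif_pos]
    have := trc_div_mem (T := T₀.subgroupOf E) (W.subgroupOf B) (f := ⟨f, hf⟩) (by
      intro e
      rw [mem_subgroupOf, div_eq_mul_inv]
      exact h e e.2)
    rw [mem_subgroupOf, div_eq_mul_inv] at this
    exact this
  · intro t htE htT htB f hf hfT
    have hf' : t * f * t⁻¹ ∈ B := conj_mem_of_mem_normalizer htB hf
    simp only [hf, hf', dif_pos]
    have := trc_equivariant (T := T₀.subgroupOf E) (E.normalizerMonoidHom ⟨t, htE⟩) (by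
      intro x
      rw [mem_subgroupOf, mem_subgroupOf]
      exact ((mem_normalizer_iff.mp htT) x).symm) (B.normalizerMonoidHom ⟨t, htB⟩) (by
      intro e m
      apply Subtype.ext
      rw [hsmul]
      simp [hsmul, mul_assoc]) (hfix ⟨f, hf⟩ hfT)
    have h2 := congrArg Subtype.val this
    exact h2.symm

namespace IsTrace

variable {B E T₀ : Subgroup G} {τ : G → G}

theorem one (h : IsTrace B E T₀ τ) : τ 1 = 1 := by
  have := h.mul 1 (one_mem B) 1 (one_mem B)
  rw [mul_one] at this
  exact (mul_eq_left.mp this.symm)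

theorem inv (h : IsTrace B E T₀ τ) {f : G} (hf : f ∈ B) : τ f⁻¹ = (τ f)⁻¹ := by
  have := h.mul f hf f⁻¹ (inv_mem hf)
  rw [mul_inv_cancel, h.one] at this
  exact (inv_eq_of_mul_eq_one_right this.symm).symm

theorem pow (h : IsTrace B E T₀ τ) {f : G} (hf : f ∈ B) (n : ℕ) : τ (f ^ n) = (τ f) ^ n := by
  induction n with
  | zero => simp [h.one]
  | succ n ih => rw [pow_succ, h.mul _ (pow_mem hf n) _ hf, ih, pow_succ]

end IsTrace

end concrete

end Cfsg.Agent.Lib.Helper47
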