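import Cfsg.Agent.Lib.Helper47.QT
import Cfsg.Agent.S0081
import Cfsg.Agent.S0051

set_option autoImplicit false
set_option linter.unusedSectionVars false
open Cfsg Subgroup
open scoped Pointwise commutatorElement

namespace Cfsg.Agent.Lib.Helper47

variable {G : Type*} [Group G] {p : ℕ}

/-- the Frattini subgroup of `P` computed inside a larger subgroup `X`. -/
theorem frattiniOf_le_map_frattiniOf_subgroupOf [Finite G] [Fact p.Prime] {P X : Subgroup G}
    (hP : IsPGroup p P) (hPX : P ≤ X) :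
    frattiniOf P ≤ (frattiniOf (P.subgroupOf X)).map X.subtype := by
  have hP' : IsPGroup p (P.subgroupOf X) := hP.comap_subtype
  apply frattiniOf_le_of_elementary (p := p)
  · have h1 : ⁅P, P⁆ = (⁅P.subgroupOf X, P.subgroupOf X⁆).map X.subtype := by
      rw [map_commutator, subgroupOf_map_subtype, inf_eq_left.mpr hPX]
    rw [h1]
    exact map_mono (commutator_le_frattiniOf hP')
  · intro x hx
    have h2 : (⟨x, hPX hx⟩ : X) ∈ P.subgroupOf X := mem_subgroupOf.mpr hx
    exact ⟨_, pow_mem_frattiniOf hP' h2, rfl⟩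

/-- Tate's theorem for a perfect subgroup normalized by a Sylow subgroup. -/
theorem coprime_card_of_perfect_of_inf_le_frattiniOf [Finite G] [hp : Fact p.Prime] (P : Sylow p G)
    {N : Subgroup G} (hn : (P : Subgroup G) ≤ normalizer (N : Set G)) (hperf : ⁅N, N⁆ = N)
    (h : N ⊓ (P : Subgroup G) ≤ frattiniOf (P : Subgroup G)) : (Nat.card N).Coprime p := by
  set X := N ⊔ (P : Subgroup G) with hX
  have hPX : (P : Subgroup G) ≤ X := le_sup_right
  have hNX : N ≤ X := le_sup_left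
  have hXn : X ≤ normalizer (N : Set G) := sup_le Subgroup.le_normalizer hn
  have hN' : (N.subgroupOf X).Normal := normal_subgroupOf_iff_le_normalizer hNX |>.mpr hXn
  have key : N.subgroupOf X ⊓ ((P.subtype hPX : Sylow p X) : Subgroup X) ≤
      (frattini (P.subtype hPX : Sylow p X)).map ((P.subtype hPX : Sylow p X) : Subgroup X).subtype := by
    intro x hx
    have h1 : (x : G) ∈ N ⊓ (P : Subgroup G) := by
      obtain ⟨hx1, hx2⟩ := mem_inf.mp hx
      exact mem_inf.mpr ⟨mem_subgroupOf.mp hx1, by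
        rw [Sylow.coe_subtype] at hx2; exact mem_subgroupOf.mp hx2⟩
    obtain ⟨y, hy, hyx⟩ := frattiniOf_le_map_frattiniOf_subgroupOf P.2 hPX (h h1)
    have : y = x := Subtype.ext hyx
    rw [← this]
    exact hy
  have h3 := Cfsg.Agent.S0081.result (P.subtype hPX) (N.subgroupOf X) key
  have hN2 : Group.IsPerfect ↥N := Subgroup.isPerfect_iff.mpr hperf
  have : Group.IsPerfect ↥(N.subgroupOf X) :=
    Group.IsPerfect.ofSurjective (f := (subgroupOfEquivOfLe hNX).symm.toMonoidHom)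
      (subgroupOfEquivOfLe hNX).symm.surjective
  have h4 := coprime_card_of_perfect_of_hasNormalPComplement h3
  rwa [Nat.card_congr (subgroupOfEquivOfLe hNX).toEquiv] at h4

/-- transfer: a central element of `Γ` in `Γ'` of order prime to `|Γ : H|` lies in `H'`. -/
theorem mem_commutator_of_central_of_coprime_index {Γ : Type*} [Group Γ] (H : Subgroup Γ)
    [H.FiniteIndex] {z : Γ} (hzc : z ∈ Subgroup.center Γ) (hz' : z ∈ commutator Γ) (hzH : z ∈ H)
    (hcop : (orderOf z).Coprime H.index) : z ∈ ⁅H, H⁆ := by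
  have key : ∀ (k : ℕ) (g₀ : Γ), g₀⁻¹ * z ^ k * g₀ ∈ H → g₀⁻¹ * z ^ k * g₀ = z ^ k := by
    intro k g₀ _
    have hc : z ^ k ∈ Subgroup.center Γ := Subgroup.pow_mem _ hzc k
    rw [mul_assoc, ← (Subgroup.mem_center_iff.mp hc) g₀, inv_mul_cancel_left]
  have h1 := MonoidHom.transfer_eq_pow (Abelianization.of : H →* Abelianization H) z key
  have h2 : MonoidHom.transfer (Abelianization.of : H →* Abelianization H) z = 1 :=
    Abelianization.commutator_subset_ker
      (MonoidHom.transfer (Abelianization.of : H →* Abelianization H)) hz'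
  rw [h2] at h1
  have h3 : z ^ H.index ∈ ⁅H, H⁆ := by
    rw [← map_subtype_commutator]
    refine ⟨⟨z ^ H.index, pow_mem hzH _⟩, ?_, rfl⟩
    rw [SetLike.mem_coe, ← Abelianization.ker_of, MonoidHom.mem_ker]
    exact h1.symm
  obtain ⟨a, b, hab⟩ : ∃ a b : ℤ, (orderOf z : ℤ) * a + (H.index : ℤ) * b = 1 := by
    have := Nat.isCoprime_iff_coprime.mpr hcop
    obtain ⟨a, b, hab⟩ := this
    exact ⟨a, b, by linarith⟩
  have h5 : z = (z ^ H.index) ^ b := by
    have : z = z ^ ((orderOf z : ℤ) * a + (H.index : ℤ) * b) := by rw [hab, zpow_one]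
    rw [zpow_add, zpow_mul, zpow_natCast, pow_orderOf_eq_one, one_zpow, one_mul, zpow_mul,
      zpow_natCast] at this
    exact this
  rw [h5]
  exact zpow_mem h3 b

/-- a central `p`-element of a perfect normal subgroup lies in `P'`. -/
theorem mem_commutator_sylow_of_central_perfect [Finite G] [hp : Fact p.Prime] (P : Sylow p G)
    {E : Subgroup G} (hE : E.Normal) (hperf : ⁅E, E⁆ = E) {z : G} (hzE : z ∈ E)
    (hzP : z ∈ (P : Subgroup G)) (hzc : z ∈ centralizer (E : Set G)) :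
    z ∈ ⁅(P : Subgroup G), (P : Subgroup G)⁆ := by
  have h1 : (⟨z, hzE⟩ : E) ∈ center E := by
    rw [mem_center_iff]
    intro g
    exact Subtype.ext (mem_centralizer_iff.mp hzc g g.2)
  have hE2 : Group.IsPerfect ↥E := Subgroup.isPerfect_iff.mpr hperf
  have h2 : (⟨z, hzE⟩ : E) ∈ commutator E := by
    rw [Group.IsPerfect.commutator_eq_top]; exact mem_top _
  have h3 : (⟨z, hzE⟩ : E) ∈ (P : Subgroup G).subgroupOf E := mem_subgroupOf.mpr hzP
  have h4 : ¬ p ∣ ((P : Subgroup G).subgroupOf E).index := by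
    have := ((isSylowIn_top P).inf_of_normal (N := E) le_top
      (by rw [normalizer_eq_top]))
    have h5 := this.not_dvd_relIndex
    rwa [inf_relIndex_right] at h5
  have h6 : (orderOf (⟨z, hzE⟩ : E)).Coprime ((P : Subgroup G).subgroupOf E).index := by
    obtain ⟨k, hk⟩ := IsPGroup.iff_orderOf.mp P.2 ⟨z, hzP⟩
    rw [Subgroup.orderOf_mk] at hk
    rw [Subgroup.orderOf_mk, hk]
    exact Nat.Coprime.pow_left _ ((Nat.Prime.coprime_iff_not_dvd hp.out).mpr h4)
  have h7 := mem_commutator_of_central_of_coprime_index _ h1 h2 h3 h6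
  have h8 : (⁅(P : Subgroup G).subgroupOf E, (P : Subgroup G).subgroupOf E⁆).map E.subtype ≤
      ⁅(P : Subgroup G), (P : Subgroup G)⁆ := by
    rw [map_commutator, subgroupOf_map_subtype]
    exact commutator_mono inf_le_left inf_le_left
  exact h8 ⟨_, h7, rfl⟩

/-- in a 2-generated `p`-group a subgroup outside the Frattini subgroup has cyclic supplement. -/
theorem exists_sup_zpowers_eq [Finite G] [hp : Fact p.Prime] {P T : Subgroup G}
    (hgen : (frattini ↥P).index = p ^ 2) (hTP : T ≤ P) (hT : ¬ T ≤ frattiniOf P) :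
    ∃ y ∈ P, T ⊔ zpowers y = P := by
  set T' := T.subgroupOf P with hT'
  set Φ := frattini ↥P with hΦ
  have key : ∃ y : ↥P, T' ⊔ zpowers y = ⊤ := by
    have h1 : ¬ T' ≤ Φ := by
      intro h
      apply hT
      have := map_mono (f := P.subtype) h
      rwa [hT', subgroupOf_map_subtype, inf_eq_left.mpr hTP] at this
    set U := T' ⊔ Φ with hU
    have h2 : Φ.relIndex U * U.index = p ^ 2 := by
      rw [relIndex_mul_index le_sup_right, hgen]
    have h3 : Φ.relIndex U ≠ 1 := by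
      rw [Ne, relIndex_eq_one]
      exact fun h => h1 (le_sup_left.trans h)
    obtain ⟨k, hk, hUk⟩ := (Nat.dvd_prime_pow hp.out).mp (Dvd.intro_left _ h2)
    have hk2 : k ≠ 2 := by
      rintro rfl
      rw [hUk] at h2
      exact h3 (Nat.eq_of_mul_eq_mul_right (pow_pos hp.out.pos 2) (by rw [h2, one_mul]))
    have hk' : k = 0 ∨ k = 1 := by omega
    rcases hk' with rfl | rfl
    · refine ⟨1, ?_⟩
      rw [pow_zero, index_eq_one] at hUk
      rw [zpowers_one_eq_bot, sup_bot_eq]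
      exact frattini_nongenerating hUk
    · rw [pow_one] at hUk
      have hUt : U ≠ ⊤ := by
        intro h
        rw [h, index_top] at hUk
        exact hp.out.one_lt.ne hUk
      obtain ⟨y, hy⟩ : ∃ y, y ∉ U := by
        by_contra h
        push Not at h
        exact hUt (eq_top_iff.mpr fun x _ => h x)
      refine ⟨y, ?_⟩
      have h4 : U.relIndex (U ⊔ zpowers y) * (U ⊔ zpowers y).index = p := by
        rw [relIndex_mul_index le_sup_left, hUk]
      have h5 : U.relIndex (U ⊔ zpowers y) ≠ 1 := by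
        rw [Ne, relIndex_eq_one]
        exact fun h => hy (h (mem_sup_right (mem_zpowers y)))
      have h6 : (U ⊔ zpowers y).index = 1 := by
        rcases (Nat.dvd_prime hp.out).mp (Dvd.intro _ h4) with h | h
        · exact absurd h h5
        · rw [h] at h4
          exact Nat.eq_of_mul_eq_mul_left hp.out.pos (by rw [h4, mul_one])
      rw [index_eq_one] at h6
      apply frattini_nongenerating
      rw [← h6, hU, sup_assoc, sup_assoc, sup_comm (zpowers y)]
  obtain ⟨y, hy⟩ := key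
  refine ⟨y, y.2, ?_⟩
  have := congrArg (Subgroup.map P.subtype) hy
  rwa [Subgroup.map_sup, hT', subgroupOf_map_subtype, inf_eq_left.mpr hTP, MonoidHom.map_zpowers,
    ← MonoidHom.range_eq_map, range_subtype] at this

/-- if `P = T⟨y⟩` with `T` normal in `P` then `P' ≤ T`. -/
theorem commutator_le_of_sup_zpowers {P T : Subgroup G} {y : G}
    (hn : P ≤ normalizer (T : Set G)) (h : T ⊔ zpowers y = P) : ⁅P, P⁆ ≤ T := by
  have hTP : T ≤ P := h ▸ le_sup_left
  have hyP : zpowers y ≤ P := h ▸ le_sup_right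
  have hc : ∀ t ∈ T, ∀ b ∈ P, ⁅t, b⁆ ∈ T := by
    intro t ht b hb
    rw [commutatorElement_def, mul_assoc, mul_assoc]
    refine mul_mem ht ?_
    rw [← mul_assoc]
    exact conj_mem_of_mem_normalizer (hn hb) (inv_mem ht)
  have hc' : ∀ t ∈ T, ∀ b ∈ P, ⁅b, t⁆ ∈ T := by
    intro t ht b hb
    rw [← commutatorElement_inv]
    exact inv_mem (hc t ht b hb)
  rw [commutator_le]
  intro a ha b hb
  rw [← h] at ha hb
  obtain ⟨t₁, ht₁, _, ⟨i, rfl⟩, rfl⟩ := mem_sup_of_le_normalizer (hyP.trans hn) ha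
  obtain ⟨t₂, ht₂, _, ⟨j, rfl⟩, rfl⟩ := mem_sup_of_le_normalizer (hyP.trans hn) hb
  simp only
  have hyi : y ^ i ∈ P := hyP (zpow_mem (mem_zpowers y) i)
  have hyj : y ^ j ∈ P := hyP (zpow_mem (mem_zpowers y) j)
  have e1 : ⁅t₁ * y ^ i, t₂ * y ^ j⁆ =
      t₁ * ⁅y ^ i, t₂ * y ^ j⁆ * t₁⁻¹ * ⁅t₁, t₂ * y ^ j⁆ := by
    simp only [commutatorElement_def]; group
  have e2 : ⁅y ^ i, t₂ * y ^ j⁆ = ⁅y ^ i, t₂⁆ := by
    have hcomm : y ^ i * y ^ j = y ^ j * y ^ i := by rw [← zpow_add, ← zpow_add, add_comm]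
    have hcomm2 : y ^ j * (y ^ i)⁻¹ = (y ^ i)⁻¹ * y ^ j := by
      rw [← zpow_neg, ← zpow_add, ← zpow_add, add_comm]
    simp only [commutatorElement_def, mul_inv_rev]
    calc y ^ i * (t₂ * y ^ j) * (y ^ i)⁻¹ * ((y ^ j)⁻¹ * t₂⁻¹)
        = y ^ i * t₂ * (y ^ j * (y ^ i)⁻¹) * (y ^ j)⁻¹ * t₂⁻¹ := by group
      _ = y ^ i * t₂ * (y ^ i)⁻¹ * t₂⁻¹ := by rw [hcomm2]; group
  rw [e1, e2]
  refine mul_mem (mul_mem (mul_mem ht₁ (hc' _ ht₂ _ hyi)) (inv_mem ht₁))
    (hc _ ht₁ _ (mul_mem (hTP ht₂) hyj))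

/-- two elements of order dividing `p` in a cyclic group. -/
theorem zpow_eq_one_or_mem_zpowers (hp : p.Prime) {y : G} {a b : ℤ}
    (hexp : ∀ r s : ℤ, ((y ^ a) ^ r * (y ^ b) ^ s) ^ p = 1) : y ^ a = 1 ∨ y ^ b ∈ zpowers (y ^ a) := by
  obtain ⟨g, a', b', r, s, ha', hb', hgrs⟩ :
      ∃ g a' b' r s : ℤ, a = g * a' ∧ b = g * b' ∧ g = a * r + b * s := by
    obtain ⟨a', ha'⟩ := Int.gcd_dvd_left a b
    obtain ⟨b', hb'⟩ := Int.gcd_dvd_right a b
    exact ⟨_, a', b', _, _, ha', hb', Int.gcd_eq_gcd_ab a b⟩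
  have hv : (y ^ g) ^ p = 1 := by
    have h1 := hexp r s
    rwa [← zpow_mul, ← zpow_mul, ← zpow_add, ← hgrs] at h1
  by_cases hd : (p : ℤ) ∣ a'
  · left
    obtain ⟨c, rfl⟩ := hd
    rw [ha', zpow_mul, zpow_mul, zpow_natCast, hv, one_zpow]
  · right
    obtain ⟨c, d, hcd⟩ := ((Nat.prime_iff_prime_int.mp hp).coprime_iff_not_dvd).mpr hd
    have h2 : y ^ g = (y ^ a) ^ d := by
      have : y ^ g = (y ^ g) ^ (c * (p : ℤ) + d * a') := by rw [hcd, zpow_one]
      rw [zpow_add, mul_comm c, zpow_mul, zpow_natCast, hv, one_zpow, one_mul, mul_comm d,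
        zpow_mul, ← zpow_mul y, ← ha'] at this
      exact this
    rw [hb', zpow_mul, h2]
    exact zpow_mem (zpow_mem (mem_zpowers _) _) _

theorem commutator_self_le (E : Subgroup G) : ⁅E, E⁆ ≤ E :=
  Subgroup.commutator_le.mpr fun a ha b hb => by
    rw [commutatorElement_def]
    exact mul_mem (mul_mem (mul_mem ha hb) (inv_mem ha)) (inv_mem hb)

/-- a join of perfect subgroups is perfect. -/
theorem perfect_iSup {ι : Sort*} {H : ι → Subgroup G} (h : ∀ i, ⁅H i, H i⁆ = H i) :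
    ⁅⨆ i, H i, ⨆ i, H i⁆ = ⨆ i, H i := by
  refine le_antisymm (commutator_self_le _) (iSup_le fun i => ?_)
  conv_lhs => rw [← h i]
  exact commutator_mono (le_iSup H i) (le_iSup H i)

theorem layer_perfect : ⁅layer G, layer G⁆ = layer G := by
  refine le_antisymm (commutator_self_le _) (sSup_le fun L hL => ?_)
  have h1 : ⁅L, L⁆ = L := Helper31.IsComponent.perfect hL
  conv_lhs => rw [← h1]
  exact commutator_mono (Helper31.IsComponent.le_layer hL) (Helper31.IsComponent.le_layer hL)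

/-- hypotheses of the two-generator Sylow theorem. -/
structure TwoGenHyp (P : Sylow p G) : Prop where
  hna : ¬ IsMulCommutative (P : Subgroup G)
  hgen : (frattini ↥(P : Subgroup G)).index = p ^ 2
  hcore : pPrimeCore p G = ⊥
  hfrat : (frattiniOf (P : Subgroup G)).normalCore = ⊥

namespace TwoGenHyp

variable [Finite G] [hp : Fact p.Prime] {P : Sylow p G}

theorem not_le_frattini (h : TwoGenHyp P) {K : Subgroup G} (hK : K.Normal) (hK1 : K ≠ ⊥) :
    ¬ K ⊓ (P : Subgroup G) ≤ frattiniOf (P : Subgroup G) := by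
  intro hle
  obtain ⟨S, M, hMn, hc⟩ := Cfsg.Agent.S0081.result P K hle
  have hMcop : (Nat.card M).Coprime p := by
    rw [← hc.index_eq_card]
    exact ((Nat.Prime.coprime_iff_not_dvd hp.out).mpr S.not_dvd_index).symm
  have h1 : M ≤ pPrimeCore p ↥K := Helper1.le_pPrimeCore hMn hMcop
  have h2 := Helper30.pPrimeCore_subnormal_le p (H := K) hK.isSubnormal
  rw [h.hcore, le_bot_iff, Subgroup.map_eq_bot_iff_of_injective _ K.subtype_injective] at h2
  rw [h2, le_bot_iff] at h1
  rw [h1, isComplement'_bot_left] at hc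
  have hKp : IsPGroup p K := by
    intro g
    obtain ⟨k, hk⟩ := S.2 ⟨g, hc ▸ mem_top g⟩
    exact ⟨k, congrArg Subtype.val hk⟩
  have hKP : K ≤ (P : Subgroup G) := (le_pCore hK hKp).trans (pCore_le_sylow P)
  have h3 : K ≤ frattiniOf (P : Subgroup G) := (le_inf le_rfl hKP).trans hle
  have h4 := (normal_le_normalCore (H := frattiniOf (P : Subgroup G)) (N := K)).mpr h3
  rw [h.hfrat, le_bot_iff] at h4
  exact hK1 h4

theorem exists_sup_eq (h : TwoGenHyp P) {K : Subgroup G} (hK : K.Normal) (hK1 : K ≠ ⊥) :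
    ∃ y ∈ (P : Subgroup G), (K ⊓ (P : Subgroup G)) ⊔ zpowers y = (P : Subgroup G) :=
  exists_sup_zpowers_eq h.hgen inf_le_right (h.not_le_frattini hK hK1)

theorem commutator_ne_bot (h : TwoGenHyp P) : ⁅(P : Subgroup G), (P : Subgroup G)⁆ ≠ ⊥ := by
  intro h1
  apply h.hna
  rw [commutator_eq_bot_iff_le_centralizer] at h1
  exact ⟨⟨fun a b => Subtype.ext ((mem_centralizer_iff.mp (h1 b.2) a a.2))⟩⟩

theorem commutator_le (h : TwoGenHyp P) {K : Subgroup G} (hK : K.Normal) (hK1 : K ≠ ⊥) :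
    ⁅(P : Subgroup G), (P : Subgroup G)⁆ ≤ K := by
  obtain ⟨y, _, hy⟩ := h.exists_sup_eq hK hK1
  refine (commutator_le_of_sup_zpowers ?_ hy).trans inf_le_left
  apply le_normalizer_of_cj_le
  intro k hk
  rw [cj_inf, Normal_cj hK, cj_eq_self_of_mem hk]

theorem inf_ne_bot (h : TwoGenHyp P) {K₁ K₂ : Subgroup G} (h1 : K₁.Normal) (h1' : K₁ ≠ ⊥)
    (h2 : K₂.Normal) (h2' : K₂ ≠ ⊥) : K₁ ⊓ K₂ ≠ ⊥ := by
  intro h3
  apply h.commutator_ne_bot
  rw [eq_bot_iff, ← h3]
  exact le_inf (h.commutator_le h1 h1') (h.commutator_le h2 h2')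

theorem exists_min (h : TwoGenHyp P) :
    ∃ N : Subgroup G, N.Normal ∧ N ≠ ⊥ ∧ ∀ K : Subgroup G, K.Normal → K ≠ ⊥ → N ≤ K := by
  have htop : (⊤ : Subgroup G) ≠ ⊥ := by
    intro h1
    apply h.commutator_ne_bot
    rw [eq_bot_iff, ← h1]
    exact le_top
  obtain ⟨N, hN⟩ := exists_minimal_of_wellFoundedLT
    (fun S : Subgroup G => S.Normal ∧ S ≠ ⊥) ⟨⊤, inferInstance, htop⟩
  obtain ⟨⟨hNn, hN1⟩, hmin⟩ := hN
  refine ⟨N, hNn, hN1, fun K hK hK1 => ?_⟩
  have h1 : (N ⊓ K).Normal := inferInstance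
  have h2 := hmin ⟨h1, h.inf_ne_bot hNn hN1 hK hK1⟩ inf_le_left
  exact h2.trans inf_le_right

theorem fitting_le_pCore (h : TwoGenHyp P) : fittingSubgroup G ≤ pCore p G := by
  rw [Helper1.fittingSubgroup_eq_iSup_pCore]
  apply iSup_le
  intro q
  by_cases hq : (q : ℕ) = p
  · rw [hq]
  · have hq' : Fact (q : ℕ).Prime := ⟨q.2⟩
    have h1 : (Nat.card (pCore (q : ℕ) G)).Coprime p := by
      obtain ⟨k, hk⟩ := IsPGroup.iff_card.mp (pCore_isPGroup (p := (q : ℕ)) (G := G))
      rw [hk]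
      exact Nat.Coprime.pow_left _ ((Nat.coprime_primes q.2 hp.out).mpr hq)
    have h2 := Helper1.le_pPrimeCore pCore_normal h1
    rw [h.hcore] at h2
    exact h2.trans bot_le

theorem pCore_le (h : TwoGenHyp P) {N : Subgroup G} (hN : N.Normal) (hN1 : N ≠ ⊥)
    (hmin : ∀ K : Subgroup G, K.Normal → K ≠ ⊥ → N ≤ K) : pCore p G ≤ N := by
  by_contra hQN
  set Q := pCore p G with hQ
  have hQn : Q.Normal := pCore_normal
  have hQ1 : Q ≠ ⊥ := fun h1 => hQN (h1 ▸ bot_le)
  have hNQ : N ≤ Q := hmin Q hQn hQ1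
  have hQP : Q ≤ (P : Subgroup G) := pCore_le_sylow P
  have hQp : IsPGroup p Q := pCore_isPGroup
  have hΦ : frattiniOf Q = ⊥ := by
    have a : frattiniOf Q ≤ frattiniOf (P : Subgroup G) :=
      frattiniOf_le_of_elementary (p := p)
        ((commutator_mono hQP hQP).trans (commutator_le_frattiniOf P.2))
        (fun x hx => pow_mem_frattiniOf P.2 (hQP hx))
    have b : (frattiniOf Q).Normal := by
      rw [← normalizer_eq_top_iff, eq_top_iff]
      refine le_trans ?_ (normalizer_le_normalizer_frattiniOf Q)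
      rw [normalizer_eq_top]
    have c := (normal_le_normalCore (H := frattiniOf (P : Subgroup G)) (N := frattiniOf Q)).mpr a
    rwa [h.hfrat, le_bot_iff] at c
  have hQab : ⁅Q, Q⁆ = ⊥ := by
    rw [eq_bot_iff, ← hΦ]; exact commutator_le_frattiniOf hQp
  have hQexp : ∀ x ∈ Q, x ^ p = 1 := by
    intro x hx
    have := pow_mem_frattiniOf hQp hx
    rwa [hΦ, mem_bot] at this
  have hQc : Q ≤ centralizer (Q : Set G) := commutator_eq_bot_iff_le_centralizer.mp hQab
  obtain ⟨y, hyP, hy⟩ := h.exists_sup_eq hN hN1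
  rw [inf_eq_left.mpr (hNQ.trans hQP)] at hy
  obtain ⟨q, hqQ, hqN⟩ := SetLike.not_le_iff_exists.mp hQN
  have hNn : ∀ T : Subgroup G, T ≤ normalizer (N : Set G) := fun T => by
    rw [normalizer_eq_top]; exact le_top
  obtain ⟨n, hn, _, ⟨i, rfl⟩, hqe⟩ := mem_sup_of_le_normalizer (hNn (zpowers y))
    (hy ▸ hQP hqQ : q ∈ N ⊔ zpowers y)
  simp only at hqe
  have hwQ : y ^ i ∈ Q := by
    have : y ^ i = n⁻¹ * q := by rw [hqe]; group
    rw [this]
    exact mul_mem (inv_mem (hNQ hn)) hqQ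
  have hwN : y ^ i ∉ N := by
    intro hw
    exact hqN (hqe ▸ mul_mem hn hw)
  have hdisj : zpowers y ⊓ N = ⊥ := by
    rw [eq_bot_iff]
    rintro u ⟨⟨a, rfl⟩, huN⟩
    simp only at huN
    rw [mem_bot]
    rcases zpow_eq_one_or_mem_zpowers hp.out (y := y) (a := a) (b := i)
      (fun r s => hQexp _ (mul_mem (zpow_mem (hNQ huN) r) (zpow_mem hwQ s))) with h1 | h1
    · exact h1
    · exact absurd ((zpowers_le.mpr huN) h1) hwN
  have hNc : IsMulCommutative N :=
    ⟨⟨fun a b => Subtype.ext ((mem_centralizer_iff.mp (hQc (hNQ b.2)) a (hNQ a.2)))⟩⟩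
  have hcop : (Nat.card N).Coprime (P : Subgroup G).index := by
    obtain ⟨k, hk⟩ := IsPGroup.iff_card.mp (hQp.to_le hNQ)
    rw [hk]
    exact Nat.Coprime.pow_left _ ((Nat.Prime.coprime_iff_not_dvd hp.out).mpr P.not_dvd_index)
  obtain ⟨H, hH⟩ := Cfsg.Agent.S0051.result N (P : Subgroup G) (hNQ.trans hQP) hcop (zpowers y)
    (zpowers_le.mpr hyP) hdisj hy
  have hNH : N ⊓ H = ⊥ := disjoint_iff.mp hH.disjoint
  have hNHt : N ⊔ H = ⊤ := hH.sup_eq_top
  set D := Q ⊓ H with hD
  have hDn : D.Normal := by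
    rw [← normalizer_eq_top_iff, eq_top_iff, ← hNHt]
    apply sup_le
    · exact ((hNQ.trans hQc).trans (centralizer_le (by exact_mod_cast (inf_le_left : D ≤ Q)))).trans
        (centralizer_le_normalizer _)
    · apply le_normalizer_of_cj_le
      intro k hk
      rw [hD, cj_inf, Normal_cj hQn, cj_eq_self_of_mem hk]
  have hD1 : D ≠ ⊥ := by
    intro hD0
    obtain ⟨n', hn', h', hh', hqe'⟩ := mem_sup_of_le_normalizer (hNn H)
      (hNHt ▸ mem_top q : q ∈ N ⊔ H)
    have h1 : h' ∈ D := by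
      refine mem_inf.mpr ⟨?_, hh'⟩
      have : h' = n'⁻¹ * q := by rw [hqe']; group
      rw [this]
      exact mul_mem (inv_mem (hNQ hn')) hqQ
    rw [hD0, mem_bot] at h1
    rw [h1, mul_one] at hqe'
    exact hqN (hqe' ▸ hn')
  have h5 := hmin D hDn hD1
  apply hN1
  rw [eq_bot_iff, ← hNH]
  exact le_inf le_rfl (h5.trans inf_le_right)

theorem component_le (h : TwoGenHyp P) {N : Subgroup G} (hN : N.Normal) (hN1 : N ≠ ⊥)
    (hmin : ∀ K : Subgroup G, K.Normal → K ≠ ⊥ → N ≤ K) {L : Subgroup G} (hL : IsComponent L) :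
    L ≤ N := by
  rcases Helper31.IsComponent.le_or_commutator_eq_bot hL hN.isSubnormal with h1 | h1
  · exact h1
  exfalso
  have hLC : L ≤ centralizer (N : Set G) := commutator_eq_bot_iff_le_centralizer.mp h1
  have hCn : (centralizer (N : Set G)).Normal := inferInstance
  have hC1 : centralizer (N : Set G) ≠ ⊥ := fun h2 =>
    Helper31.IsComponent.ne_bot hL (le_bot_iff.mp (h2 ▸ hLC))
  have hNC : N ≤ centralizer (N : Set G) := hmin _ hCn hC1
  have hNnil : Group.IsNilpotent ↥N := isNilpotent_of_le_centralizer hNC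
  have hNP : N ≤ (P : Subgroup G) :=
    ((Helper1.le_fittingSubgroup hN hNnil).trans h.fitting_le_pCore).trans (pCore_le_sylow P)
  have hEn := Helper31.layer_normal (G := G)
  have hE1 : layer G ≠ ⊥ := fun h2 =>
    Helper31.IsComponent.ne_bot hL (le_bot_iff.mp (h2 ▸ Helper31.IsComponent.le_layer hL))
  have hNE : N ≤ layer G := hmin _ hEn hE1
  have hEc : layer G ≤ centralizer (N : Set G) := by
    apply sSup_le
    intro L' hL'
    apply commutator_eq_bot_iff_le_centralizer.mp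
    apply Helper31.IsComponent.commutator_eq_bot_of_isSolvable hL' inferInstance
    rw [normalizer_eq_top]; exact le_top
  have hNc : N ≤ centralizer (layer G : Set G) := le_centralizer_iff.mp hEc
  apply h.not_le_frattini hN hN1
  intro z hz
  exact commutator_le_frattiniOf P.2
    (mem_commutator_sylow_of_central_perfect P hEn layer_perfect (hNE hz.1) hz.2 (hNc hz.1))

theorem genFitting_le (h : TwoGenHyp P) {N : Subgroup G} (hN : N.Normal) (hN1 : N ≠ ⊥)
    (hmin : ∀ K : Subgroup G, K.Normal → K ≠ ⊥ → N ≤ K) : generalizedFittingSubgroup G ≤ N :=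
  sup_le (sSup_le fun _ hL => h.component_le hN hN1 hmin hL)
    (h.fitting_le_pCore.trans (h.pCore_le hN hN1 hmin))

theorem genFitting_ne_bot (h : TwoGenHyp P) : generalizedFittingSubgroup G ≠ ⊥ := by
  intro h1
  have h2 := Helper31.centralizer_genFitting_le (G := G)
  rw [h1] at h2
  apply h.commutator_ne_bot
  rw [eq_bot_iff]
  refine le_trans ?_ h2
  intro x _
  rw [mem_centralizer_iff]
  intro y hy
  rw [SetLike.mem_coe, mem_bot] at hy
  rw [hy, one_mul, mul_one]

theorem genFitting_le_of_normal (h : TwoGenHyp P) {K : Subgroup G} (hK : K.Normal) (hK1 : K ≠ ⊥) :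
    generalizedFittingSubgroup G ≤ K := by
  obtain ⟨N, hN, hN1, hmin⟩ := h.exists_min
  exact (h.genFitting_le hN hN1 hmin).trans (hmin K hK hK1)

theorem isCyclic_map (h : TwoGenHyp P) {K : Subgroup G} [hK : K.Normal] (hK1 : K ≠ ⊥) :
    IsCyclic ↥((P : Subgroup G).map (QuotientGroup.mk' K)) := by
  obtain ⟨y, _, hy⟩ := h.exists_sup_eq hK hK1
  have h1 : (P : Subgroup G).map (QuotientGroup.mk' K) = zpowers (QuotientGroup.mk' K y) := by
    conv_lhs => rw [← hy]
    rw [Subgroup.map_sup, MonoidHom.map_zpowers]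
    have : (K ⊓ (P : Subgroup G)).map (QuotientGroup.mk' K) = ⊥ := by
      rw [Subgroup.map_eq_bot_iff, QuotientGroup.ker_mk']
      exact inf_le_left
    rw [this, bot_sup_eq]
  rw [h1]
  infer_instance

/-- the join of a `P`-orbit of a component is not inside `Φ(P)`, so `P'` lies in it. -/
theorem commutator_le_orbit (h : TwoGenHyp P) {K : Subgroup G} (hK : IsComponent K) :
    ⁅(P : Subgroup G), (P : Subgroup G)⁆ ≤ ⨆ x : (P : Subgroup G), cj (x : G) K := by
  set N₁ := ⨆ x : (P : Subgroup G), cj (x : G) K with hN₁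
  have hcomp : ∀ x : G, IsComponent (cj x K) := fun x =>
    Helper31.IsComponent.map_equiv hK (MulAut.conj x)
  have hn : (P : Subgroup G) ≤ normalizer (N₁ : Set G) := by
    apply le_normalizer_of_cj_le
    intro g hg
    rw [hN₁, cj_iSup]
    apply iSup_le
    intro x
    rw [← cj_mul]
    exact le_iSup (fun x : (P : Subgroup G) => cj (x : G) K) (⟨g, hg⟩ * x)
  have hperf : ⁅N₁, N₁⁆ = N₁ := perfect_iSup fun x => Helper31.IsComponent.perfect (hcomp x)
  have hKN : K ≤ N₁ := by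
    have := le_iSup (fun x : (P : Subgroup G) => cj (x : G) K) 1
    simpa using this
  have hT : ¬ N₁ ⊓ (P : Subgroup G) ≤ frattiniOf (P : Subgroup G) := by
    intro hle
    have h1 := coprime_card_of_perfect_of_inf_le_frattiniOf P hn hperf hle
    have h2 : (Nat.card K).Coprime p := Nat.Coprime.coprime_dvd_left (card_dvd_of_le hKN) h1
    have h3 := Helper30.subnormal_coprime_le_pPrimeCore p hK.1 h2
    rw [h.hcore, le_bot_iff] at h3
    exact Helper31.IsComponent.ne_bot hK h3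
  obtain ⟨y, _, hy⟩ := exists_sup_zpowers_eq h.hgen inf_le_right hT
  refine (commutator_le_of_sup_zpowers ?_ hy).trans inf_le_left
  apply le_normalizer_of_cj_le
  intro k hk
  rw [cj_inf, cj_eq_self_of_mem_normalizer (hn hk), cj_eq_self_of_mem hk]

theorem transitive (h : TwoGenHyp P) (hF : ¬ IsMulCommutative (generalizedFittingSubgroup G))
    {K L : Subgroup G} (hK : IsComponent K) (hL : IsComponent L) :
    ∃ x ∈ (P : Subgroup G), L = cj x K := by
  by_contra hcon
  push Not at hcon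
  obtain ⟨N, hN, hN1, hmin⟩ := h.exists_min
  have hFN : generalizedFittingSubgroup G = N :=
    le_antisymm (h.genFitting_le hN hN1 hmin)
      (hmin _ Helper31.genFitting_normal h.genFitting_ne_bot)
  set N₁ := ⨆ x : (P : Subgroup G), cj (x : G) K with hN₁
  set N₂ := ⨆ x : (P : Subgroup G), cj (x : G) L with hN₂
  have hcompK : ∀ x : G, IsComponent (cj x K) := fun x =>
    Helper31.IsComponent.map_equiv hK (MulAut.conj x)
  have hcompL : ∀ x : G, IsComponent (cj x L) := fun x =>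
    Helper31.IsComponent.map_equiv hL (MulAut.conj x)
  have hne : ∀ x x' : (P : Subgroup G), cj (x : G) K ≠ cj (x' : G) L := by
    intro x x' e
    apply hcon ((x' : G)⁻¹ * x) (mul_mem (inv_mem x'.2) x.2)
    rw [cj_mul, e, ← cj_mul, inv_mul_cancel, cj_one]
  have hc21 : ∀ x : (P : Subgroup G), N₂ ≤ centralizer (cj (x : G) K : Set G) := by
    intro x
    apply iSup_le
    intro x'
    exact commutator_eq_bot_iff_le_centralizer.mp
      (Helper31.IsComponent.commutator_eq_bot_of_ne (hcompL x') (hcompK x) (hne x x').symm)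
  have hD : N₁ ⊓ N₂ ≤ centralizer (layer G : Set G) := by
    rw [le_centralizer_iff]
    apply sSup_le
    intro M hM
    rw [le_centralizer_iff]
    by_cases hMx : ∃ x : (P : Subgroup G), M = cj (x : G) K
    · obtain ⟨x, rfl⟩ := hMx
      exact inf_le_right.trans (hc21 x)
    · push Not at hMx
      refine inf_le_left.trans (iSup_le fun x => ?_)
      exact commutator_eq_bot_iff_le_centralizer.mp
        (Helper31.IsComponent.commutator_eq_bot_of_ne (hcompK x) hM (hMx x).symm)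
  have hEn := Helper31.layer_normal (G := G)
  have hE1 : layer G ≠ ⊥ := fun h2 =>
    Helper31.IsComponent.ne_bot hL (le_bot_iff.mp (h2 ▸ Helper31.IsComponent.le_layer hL))
  have hNE : N ≤ layer G := hmin _ hEn hE1
  have hN₁N : N₁ ≤ N := iSup_le fun x => h.component_le hN hN1 hmin (hcompK x)
  have hZ : N ⊓ centralizer (N : Set G) = ⊥ := by
    by_contra hZ1
    have hZn : (N ⊓ centralizer (N : Set G)).Normal := inferInstance
    have h1 := hmin _ hZn hZ1
    apply hF
    rw [hFN]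
    exact le_centralizer_iff_isMulCommutative.mp (h1.trans inf_le_right)
  apply h.commutator_ne_bot
  rw [eq_bot_iff, ← hZ]
  have h3 : ⁅(P : Subgroup G), (P : Subgroup G)⁆ ≤ N₁ ⊓ N₂ :=
    le_inf (h.commutator_le_orbit hK) (h.commutator_le_orbit hL)
  exact le_inf (h3.trans (inf_le_left.trans hN₁N))
    (h3.trans (hD.trans (centralizer_le (by exact_mod_cast hNE))))

end TwoGenHyp

end Cfsg.Agent.Lib.Helper47
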