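import Cfsg.Agent.Lib.Helper47.AxB

set_option autoImplicit false
open Cfsg Subgroup
open scoped Pointwise commutatorElement

namespace Cfsg.Agent.Lib.Helper47

variable {G : Type*} [Group G] {p : ℕ}

/-- `Q` is weakly closed in `K` (relative form): in each `p`-subgroup `R` of `K` containing `Q`, `Q` is the only
`K`-conjugate of `Q`. -/
def WCIn (p : ℕ) (Q K : Subgroup G) : Prop :=
  ∀ R : Subgroup G, IsPGroup p R → Q ≤ R → R ≤ K → ∀ g ∈ K, cj g Q ≤ R → cj g Q = Q

theorem cj_subgroupOf {K Q : Subgroup G} (k : ↥K) :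
    cj k (Q.subgroupOf K) = (cj (k : G) Q).subgroupOf K := by
  ext x
  rw [mem_cj, mem_subgroupOf, mem_subgroupOf, mem_cj]
  simp

theorem cj_map_subtype {K : Subgroup G} (X : Subgroup ↥K) (k : ↥K) :
    (cj k X).map K.subtype = cj (k : G) (X.map K.subtype) := by
  ext x
  constructor
  · rintro ⟨y, hy, rfl⟩
    rw [mem_cj]
    exact ⟨k⁻¹ * y * k, mem_cj.mp hy, by simp⟩
  · intro hx
    obtain ⟨y, hy, hyx⟩ := mem_cj.mp hx
    refine ⟨k * y * k⁻¹, conj_mem_cj hy, ?_⟩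
    simp only [subtype_apply, coe_mul, InvMemClass.coe_inv] at hyx ⊢
    rw [hyx]; group

section Finite
variable [Finite G] [hp : Fact p.Prime]

/-- type-level weak closure in terms of `WCIn`. -/
theorem isWeaklyClosedSubgroup_iff {Q : Subgroup G} (hQ : IsPGroup p Q) :
    IsWeaklyClosedSubgroup p Q ↔ WCIn p Q ⊤ := by
  constructor
  · rintro ⟨T, hQT, hT⟩ R hR hQR - g - hg
    obtain ⟨T', hRT'⟩ := hR.exists_le_sylow
    obtain ⟨h, hh⟩ := sylow_conj T T'
    rw [← hh] at hRT'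
    have h1 : cj h⁻¹ Q = Q := hT h⁻¹ (cj_le_iff.mpr (by rw [inv_inv]; exact hQR.trans hRT'))
    have h2 : cj (h⁻¹ * g) Q = Q := by
      apply hT
      show cj (h⁻¹ * g) Q ≤ T
      rw [cj_mul, cj_le_iff, inv_inv]
      exact hg.trans hRT'
    rw [cj_mul, cj_eq_iff, inv_inv] at h2
    rw [h2]
    rw [cj_eq_iff, inv_inv] at h1
    exact h1.symm
  · intro h
    obtain ⟨T, hQT⟩ := hQ.exists_le_sylow
    exact ⟨T, hQT, fun g hg => h T T.2 hQT le_top g (mem_top g) hg⟩

theorem isWeaklyClosedSubgroup_subgroupOf_iff {Q K : Subgroup G} (hQ : IsPGroup p Q) (hQK : Q ≤ K) :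
    IsWeaklyClosedSubgroup p (Q.subgroupOf K) ↔ WCIn p Q K := by
  have hQ' : IsPGroup p (Q.subgroupOf K) := hQ.comap_subtype
  rw [isWeaklyClosedSubgroup_iff hQ']
  constructor
  · intro h R hR hQR hRK g hg hgR
    have h1 := h (R.subgroupOf K) hR.comap_subtype (comap_mono hQR) le_top ⟨g, hg⟩ (mem_top _)
      (by rw [cj_subgroupOf]; exact comap_mono hgR)
    rw [cj_subgroupOf] at h1
    have h2 := congrArg (Subgroup.map K.subtype) h1
    rwa [map_subgroupOf_eq_of_le hQK, map_subgroupOf_eq_of_le (hgR.trans hRK)] at h2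
  · intro h R hR hQR _ g _ hgR
    have h1 : Q ≤ R.map K.subtype := by
      have := map_mono (f := K.subtype) hQR
      rwa [map_subgroupOf_eq_of_le hQK] at this
    have h2 : cj (g : G) Q ≤ R.map K.subtype := by
      have := map_mono (f := K.subtype) hgR
      rwa [cj_map_subtype, map_subgroupOf_eq_of_le hQK] at this
    have h3 := h _ (hR.map _) h1 (map_subtype_le R) g g.2 h2
    rw [cj_subgroupOf, h3]

namespace WCIn

variable {Q K R : Subgroup G}

theorem mono {K' : Subgroup G} (h : WCIn p Q K) (hK : K' ≤ K) : WCIn p Q K' :=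
  fun R hR hQR hRK g hg hgR => h R hR hQR (hRK.trans hK) g (hK hg) hgR

theorem normalizer_le (h : WCIn p Q K) (hR : IsPGroup p R) (hQR : Q ≤ R) (hRK : R ≤ K) :
    K ⊓ normalizer (R : Set G) ≤ normalizer (Q : Set G) := by
  intro g hg
  apply mem_normalizer_of_cj_eq
  apply h R hR hQR hRK g hg.1
  rw [← cj_eq_self_of_mem_normalizer hg.2]
  exact cj_mono hQR

theorem le_normalizer (h : WCIn p Q K) (hR : IsPGroup p R) (hQR : Q ≤ R) (hRK : R ≤ K) :
    R ≤ normalizer (Q : Set G) :=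
  (le_inf hRK Subgroup.le_normalizer).trans (h.normalizer_le hR hQR hRK)

/-- conjugates of `Q` inside an overgroup `L` of `Q` are `L`-conjugate. -/
theorem exists_conj {L : Subgroup G} (h : WCIn p Q K) (hQ : IsPGroup p Q) (hQL : Q ≤ L)
    (hLK : L ≤ K) {g : G} (hg : g ∈ K) (hgL : cj g Q ≤ L) : ∃ l ∈ L, cj g Q = cj l Q := by
  obtain ⟨T, hT, hQT⟩ := exists_isSylowIn_ge hQ hQL
  obtain ⟨l, hl, hle⟩ := hT.exists_conj_ge (IsPGroup_cj hQ g) hgL
  refine ⟨l, hl, ?_⟩
  have h1 : cj (l⁻¹ * g) Q = Q := by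
    apply h T hT.isPGroup hQT (hT.le.trans hLK) _ (mul_mem (inv_mem (hLK hl)) hg)
    rw [cj_mul, cj_le_iff, inv_inv]
    exact hle
  rw [cj_mul, cj_eq_iff, inv_inv] at h1
  exact h1

theorem conj (h : WCIn p Q K) (x : G) : WCIn p (cj x Q) (cj x K) := by
  intro R hR hQR hRK g hg hgR
  have h1 := h (cj x⁻¹ R) (IsPGroup_cj hR _) (cj_le_iff.mp hQR)
    (cj_le_iff.mpr (by rwa [inv_inv])) (x⁻¹ * g * x) (mem_cj.mp hg)
    (by
      rw [cj_mul, cj_mul]
      exact cj_mono hgR)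
  rw [cj_mul, cj_mul, cj_eq_iff, inv_inv] at h1
  exact h1

end WCIn

end Finite

end Cfsg.Agent.Lib.Helper47
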