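import Cfsg.Agent.Lib.Helper47.WClosure

set_option autoImplicit false
open Cfsg Subgroup
open scoped Pointwise commutatorElement

namespace Cfsg.Agent.Lib.Helper47

variable {G : Type*} [Group G] {p : ℕ}

theorem map_cj {G' : Type*} [Group G'] (f : G →* G') (g : G) (Q : Subgroup G) :
    (cj g Q).map f = cj (f g) (Q.map f) := by
  ext x
  constructor
  · rintro ⟨_, ⟨y, hy, rfl⟩, rfl⟩
    exact ⟨f y, ⟨y, hy, rfl⟩, by simp [MulAut.conj_apply]⟩
  · rintro ⟨_, ⟨y, hy, rfl⟩, rfl⟩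
    exact ⟨_, ⟨y, hy, rfl⟩, by simp [MulAut.conj_apply]⟩

section Finite
variable [Finite G] [hp : Fact p.Prime]

/-- Burnside-type argument. -/
theorem wcIn_of_normalizer_le {Q : Subgroup G}
    (h : ∀ R : Subgroup G, IsPGroup p R → Q ≤ R → normalizer (R : Set G) ≤ normalizer (Q : Set G)) :
    WCIn p Q ⊤ := by
  intro R hR hQR _ g _ hgR
  obtain ⟨T, hRT⟩ := hR.exists_le_sylow
  have hT1 : normalizer ((T : Subgroup G) : Set G) ≤ normalizer (Q : Set G) :=
    h T T.2 (hQR.trans hRT)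
  have hT2 : normalizer ((T : Subgroup G) : Set G) ≤ normalizer ((cj g Q : Subgroup G) : Set G) := by
    have h1 := h (cj g⁻¹ T) (IsPGroup_cj T.2 _) (cj_le_iff.mp (hgR.trans hRT))
    have h2 := cj_mono (g := g) h1
    rwa [cj_normalizer, cj_normalizer, cj_cj_inv] at h2
  set M := normalizer (Q : Set G) with hM
  rw [← cj_normalizer] at hT2
  have hTM : (T : Subgroup G) ≤ M := Subgroup.le_normalizer.trans hT1
  have hS1 : IsSylowIn p (T : Subgroup G) (cj g M) :=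
    isSylowIn_of_sylow T (Subgroup.le_normalizer.trans hT2)
  have hS2 : IsSylowIn p (cj g (T : Subgroup G)) (cj g M) := (isSylowIn_of_sylow T hTM).conj g
  obtain ⟨m, hm, hmT⟩ := hS2.exists_conj hS1
  rw [← cj_mul] at hmT
  have h3 : m * g ∈ cj g M := hT2 (mem_normalizer_of_cj_eq hmT)
  have h4 : g ∈ cj g M := by
    have := mul_mem (inv_mem hm) h3
    rwa [inv_mul_cancel_left] at this
  rw [mem_cj] at h4
  apply cj_eq_self_of_mem_normalizer
  simpa using h4

/-- `N = N_N(Q) [N,Q]`-type statement: for `n ∈ N` (normalized by `Q`) the conjugate `Q^n` is a conjugate under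
`[N,Q]`. -/
theorem WCIn.exists_commutator_conj {Q N : Subgroup G} (h : WCIn p Q ⊤) (hQ : IsPGroup p Q)
    (_hQN : Q ≤ normalizer (N : Set G)) {n : G} (hn : n ∈ N) :
    ∃ r ∈ ⁅N, Q⁆, cj n Q = cj r Q := by
  have hQR : Q ≤ normalizer ((⁅N, Q⁆ : Subgroup G) : Set G) := normalizer_commutator_ge_right N Q
  have h1 : cj n Q ≤ ⁅N, Q⁆ ⊔ Q := by
    have := cj_le_sup_commutator (B := Q) (V := Q) (X := N) le_rfl hn
    rwa [commutator_comm] at this
  obtain ⟨x, hx, hnx⟩ := h.exists_conj hQ (le_sup_right : Q ≤ ⁅N, Q⁆ ⊔ Q) le_top (mem_top n) h1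
  obtain ⟨r, hr, q, hq, rfl⟩ := mem_sup_of_le_normalizer hQR hx
  exact ⟨r, hr, by rw [hnx, cj_mul, cj_eq_self_of_mem hq]⟩

theorem WCIn.exists_mul_commutator {Q N : Subgroup G} (h : WCIn p Q ⊤) (hQ : IsPGroup p Q)
    (hQN : Q ≤ normalizer (N : Set G)) {n : G} (hn : n ∈ N) :
    ∃ a ∈ N ⊓ normalizer (Q : Set G), ∃ b ∈ ⁅N, Q⁆, n = a * b := by
  obtain ⟨r, hr, hnr⟩ := h.exists_commutator_conj hQ hQN (inv_mem hn)
  have hRN : ⁅N, Q⁆ ≤ N := le_normalizer_iff_commutator_le_left.mp hQN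
  refine ⟨n * r, mem_inf.mpr ⟨mul_mem hn (hRN hr), ?_⟩, r⁻¹, inv_mem hr, by group⟩
  apply mem_normalizer_of_cj_eq
  rw [cj_mul, ← hnr, cj_cj_inv]

/-- the subnormal closure of a weakly closed subgroup is its normal closure. -/
theorem WCIn.le_of_isSubnormal {Q X : Subgroup G} (h : WCIn p Q ⊤) (hQ : IsPGroup p Q)
    (hX : X.IsSubnormal) (hQX : Q ≤ X) : ncl Q ⊤ ≤ X := by
  induction hX with
  | top => exact le_top
  | step X X₁ hle hsn hN ih =>
    have ih' := ih (hQX.trans hle)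
    apply ncl_le
    intro g _
    have h1 : cj g Q ≤ X₁ := (cj_le_ncl (mem_top g)).trans ih'
    obtain ⟨x, hx, hgx⟩ := h.exists_conj hQ (hQX.trans hle) le_top (mem_top g) h1
    rw [hgx, ← cj_eq_self_of_mem_normalizer ((normal_subgroupOf_iff_le_normalizer hle).mp hN hx)]
    exact cj_mono hQX

theorem WCIn.subnormalClosure_eq {Q : Subgroup G} (h : WCIn p Q ⊤) (hQ : IsPGroup p Q) :
    subnormalClosure Q = normalClosure (Q : Set G) := by
  rw [← ncl_top]
  apply le_antisymm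
  · apply sInf_le
    refine ⟨le_ncl Q ⊤, ?_⟩
    rw [ncl_top]
    exact (normalClosure_normal).isSubnormal
  · apply le_sInf
    rintro X ⟨hQX, hX⟩
    exact h.le_of_isSubnormal hQ hX hQX

end Finite

end Cfsg.Agent.Lib.Helper47
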