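import Cfsg.Agent.Lib.Helper47.SPIrr

set_option autoImplicit false
open Cfsg Subgroup
open scoped Pointwise commutatorElement

namespace Cfsg.Agent.Lib.Helper47

variable {G : Type*} [Group G] {p : ℕ}

section Finite
variable [Finite G] [hp : Fact p.Prime]

theorem WCIn.weakClosure_eq_ncl {Q K : Subgroup G} (h : WCIn p Q ⊤) (hQ : IsPGroup p Q)
    (hQK : Q ≤ K) : weakClosure Q K = ncl Q K := by
  apply le_antisymm
  · apply weakClosure_le
    intro g hg
    obtain ⟨l, hl, hgl⟩ := h.exists_conj hQ hQK le_top (mem_top g) hg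
    rw [hgl]
    exact cj_le_ncl hl
  · apply ncl_le
    intro k hk
    apply cj_le_weakClosure
    have := cj_mono (g := k) hQK
    rwa [cj_eq_self_of_mem hk] at this

theorem WCIn.ncl_ncl {Q K : Subgroup G} (h : WCIn p Q ⊤) (hQ : IsPGroup p Q) (hQK : Q ≤ K) :
    ncl Q (ncl Q K) = ncl Q K := by
  apply le_antisymm (ncl_le_self (le_ncl Q K))
  apply ncl_le
  intro k hk
  obtain ⟨l, hl, hgl⟩ := h.exists_conj hQ (le_ncl Q K) le_top (mem_top k) (cj_le_ncl hk)
  rw [hgl]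
  exact cj_le_ncl hl

/-- overgroups of `O^p(L)` in `L` satisfy the normalizer condition -/
theorem lt_inf_normalizer_of_pResOf_le {L X : Subgroup G} (hX : pResOf p L ≤ X) (hlt : X < L) :
    X < L ⊓ normalizer (X : Set G) := by
  obtain ⟨T, hT⟩ := exists_isSylowIn p L
  set K := pResOf p L with hK
  have hLK : L ≤ normalizer (K : Set G) := le_normalizer_pResOf L
  have hsup : K ⊔ T = L := hT.pResOf_sup
  have hXle : X ≤ (X ⊓ T) ⊔ K := by
    apply le_inf_sup_of_le_sup (hT.le.trans hLK) hX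
    rw [sup_comm, hsup]; exact hlt.le
  have h1 : X ⊓ T < T := by
    refine lt_of_le_of_ne inf_le_right ?_
    intro h2
    apply hlt.ne
    apply le_antisymm hlt.le
    rw [← hsup]
    exact sup_le hX (inf_eq_right.mp h2)
  have h2 := lt_inf_normalizer hT.isPGroup h1
  obtain ⟨t, ht, htX⟩ := SetLike.exists_of_lt h2
  refine lt_of_le_of_ne (le_inf hlt.le Subgroup.le_normalizer) ?_
  intro h3
  apply htX
  refine mem_inf.mpr ⟨?_, ht.1⟩
  rw [h3]
  refine mem_inf.mpr ⟨hT.le ht.1, ?_⟩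
  have hXeq : X = (X ⊓ T) ⊔ K := le_antisymm hXle (sup_le inf_le_left hX)
  rw [hXeq]
  exact le_normalizer_sup (K := zpowers t)
    (by rw [zpowers_le]; exact ht.2) (by rw [zpowers_le]; exact hLK (hT.le ht.1))
    (mem_zpowers t)

theorem sup_pResOf_eq_of_ncl_eq {Q L : Subgroup G} (hL : ncl Q L = L) :
    Q ⊔ pResOf p L = L := by
  have hQL : Q ≤ L := hL ▸ le_ncl Q L
  have key : ∀ X : Subgroup G, pResOf p L ≤ X → Q ≤ X → X ≤ L → X = L := by
    intro X
    induction X using WellFoundedGT.induction with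
    | ind X ih =>
      intro h1 h2 h3
      by_contra hne
      have hlt : X < L := lt_of_le_of_ne h3 hne
      have h4 := lt_inf_normalizer_of_pResOf_le h1 hlt
      have h5 := ih _ h4 (h1.trans h4.le) (h2.trans h4.le) inf_le_left
      have h6 : L ≤ normalizer (X : Set G) := inf_eq_left.mp h5
      have h7 : ncl Q L ≤ X := ncl_le_of_normal h2 h6
      rw [hL] at h7
      exact hne (le_antisymm h3 h7)
  exact key _ le_sup_right le_sup_left (sup_le hQL (pResOf_le L))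

theorem commutator_pResOf_eq_of_ncl_eq {Q L : Subgroup G} (hQ : IsPGroup p Q)
    (hL : ncl Q L = L) : ⁅pResOf p L, Q⁆ = pResOf p L := by
  have hQL : Q ≤ L := hL ▸ le_ncl Q L
  set K₀ := pResOf p L with hK₀
  have hKK₀ : L ≤ normalizer (K₀ : Set G) := le_normalizer_pResOf L
  have hle : ⁅K₀, Q⁆ ≤ K₀ := le_normalizer_iff_commutator_le_left.mp (hQL.trans hKK₀)
  apply le_antisymm hle
  set R := ⁅K₀, Q⁆ with hR
  have hK₀R : K₀ ≤ normalizer (R : Set G) := normalizer_commutator_ge_left K₀ Q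
  have hAR : Q ≤ normalizer (R : Set G) := normalizer_commutator_ge_right K₀ Q
  have hsup : Q ⊔ K₀ = L := sup_pResOf_eq_of_ncl_eq hL
  have hn : L ≤ normalizer ((R ⊔ Q : Subgroup G) : Set G) := by
    refine hsup.symm.le.trans ?_
    apply sup_le
    · exact le_normalizer_sup hAR Subgroup.le_normalizer
    · apply le_normalizer_of_cj_le
      intro k hk
      rw [cj_sup, cj_eq_self_of_mem_normalizer (hK₀R hk)]
      apply sup_le le_sup_left
      have := cj_le_sup_commutator (B := Q) (V := Q) (X := K₀) le_rfl hk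
      rwa [commutator_comm] at this
  have h1 : L ≤ R ⊔ Q := hL.symm.le.trans (ncl_le_of_normal le_sup_right hn)
  exact pResOf_le_of_PQuot ((PQuot_sup hAR hQ).mono_left h1)

omit [Finite G] hp in
/-- `O^p(X) ≤ N` if `X ≤ N P` with `P` a `p`-group normalizing `N`. -/
theorem le_of_le_sup_pGroup {X N P : Subgroup G} (hX : pResOf p X = X) (hP : IsPGroup p P)
    (hPN : P ≤ normalizer (N : Set G)) (hle : X ≤ N ⊔ P) : X ≤ N := by
  rw [← hX]
  exact (pResOf_mono hle).trans (pResOf_le_of_PQuot (PQuot_sup hPN hP))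

/-- One half of the factorization lemma for weakly closed subgroups. -/
theorem WCIn.factor_half {Q H H₁ H₂ K₁ : Subgroup G} (h : WCIn p Q ⊤) (hQ : IsPGroup p Q)
    (hH : H = ncl Q ⊤) (h₁ : H₁ ≤ H) (hn₁ : H ≤ normalizer (H₁ : Set G)) (h₂ : H₂ ≤ H)
    (hn₂ : H ≤ normalizer (H₂ : Set G)) (hprod : H₁ ⊔ H₂ = H)
    (hcomm : ⁅H₁, H₂⁆ ≤ normalizer (Q : Set G)) (hK₁ : K₁ = pResOf p (ncl Q (H₁ ⊔ Q))) :
    ⁅K₁, Q⁆ = K₁ ∧ ⁅K₁, H₁⁆ = K₁ ∧ K₁ ≤ ⁅H₁, H₁⁆ ∧ H ≤ normalizer (K₁ : Set G) ∧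
      K₁ ≤ H₁ ∧ pResOf p K₁ = K₁ ∧ ⁅⁅H₁, H₁⁆, H₂⁆ ≤ pCoreOf p H ∧
      H₁ ≤ normalizer ((Q ⊔ K₁ : Subgroup G) : Set G) := by
  have hQH : Q ≤ H := hH ▸ le_ncl Q ⊤
  have hHH : ncl Q H = H := by
    have := h.ncl_ncl hQ (le_top : Q ≤ ⊤)
    rwa [← hH] at this
  set D := ⁅H₁, H₂⁆ with hD
  have hHD : H ≤ normalizer (D : Set G) := le_normalizer_commutator hn₁ hn₂
  have hDH₁ : D ≤ H₁ := commutator_le_left_of_le_normalizer (h₂.trans hn₁)
  have hDH : D ≤ H := hDH₁.trans h₁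
  set PD := pCoreOf p D with hPD
  have hHPD : H ≤ normalizer (PD : Set G) := hHD.trans (normalizer_le_normalizer_pCoreOf D)
  have hPDp : IsPGroup p PD := pCoreOf_isPGroup D
  have hPDH : PD ≤ pCoreOf p H := pCoreOf_le_pCoreOf_of_normal hDH hHD
  -- `[D, H] ≤ O_p(D)`
  have hDQ : ⁅D, Q⁆ ≤ PD := by
    have h1 : ⁅D, Q⁆ ≤ D ⊓ Q :=
      le_inf (commutator_le_left_of_le_normalizer (hQH.trans hHD))
        (commutator_le_right_of_le_normalizer hcomm)
    refine h1.trans (le_pCoreOf inf_le_left ?_ hQ.to_inf_right)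
    exact le_normalizer_inf Subgroup.le_normalizer hcomm
  have hDHc : ⁅D, H⁆ ≤ PD := by
    have := commutator_ncl_le hHD hHPD hQH hDQ
    rwa [hHH] at this
  -- three subgroups
  have h3 : ⁅⁅H₁, H₁⁆, H₂⁆ ≤ PD := by
    apply three_subgroups_mod (h₁.trans hHPD) (h₁.trans hHPD) (h₂.trans hHPD)
    · exact (commutator_mono le_rfl h₁).trans hDHc
    · rw [commutator_comm H₂ H₁]
      exact (commutator_mono le_rfl h₁).trans hDHc
  set L₁ := ncl Q (H₁ ⊔ Q) with hL₁
  have hL₁L₁ : ncl Q L₁ = L₁ := h.ncl_ncl hQ le_sup_right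
  have hres : pResOf p K₁ = K₁ := by rw [hK₁, pResOf_pResOf]
  have ha : ⁅K₁, Q⁆ = K₁ := by rw [hK₁]; exact commutator_pResOf_eq_of_ncl_eq hQ hL₁L₁
  have hH₁L₁ : H₁ ≤ normalizer (L₁ : Set G) := le_sup_left.trans (le_normalizer_ncl _ _)
  have hH₁K₁ : H₁ ≤ normalizer (K₁ : Set G) := by
    rw [hK₁]; exact hH₁L₁.trans (normalizer_le_normalizer_pResOf L₁)
  have hQH₁ : Q ≤ normalizer (H₁ : Set G) := hQH.trans hn₁
  have hK₁H₁ : K₁ ≤ H₁ := by
    rw [hK₁]
    exact (pResOf_mono (ncl_le_self le_sup_right)).trans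
      (pResOf_le_of_PQuot (PQuot_sup hQH₁ hQ))
  set H₁' := ⁅H₁, H₁⁆ with hH₁'
  have hHH₁' : H ≤ normalizer (H₁' : Set G) := le_normalizer_commutator hn₁ hn₁
  -- (c)
  have hc : K₁ ≤ H₁' := by
    have h4 : ⁅H₁, H⁆ ≤ H₁' ⊔ D := by
      rw [← hprod]
      apply commutator_sup_le le_sup_left le_sup_right
      · exact h₁.trans (le_normalizer_sup hHH₁' hHD)
      · exact h₂.trans (le_normalizer_sup hHH₁' hHD)
    have h5 : K₁ ≤ H₁' ⊔ D := by
      rw [← ha]
      exact (commutator_mono hK₁H₁ hQH).trans h4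
    have h6 : K₁ ≤ H₁' ⊔ (D ⊓ Q) := by
      rw [← ha]
      refine (commutator_mono h5 le_rfl).trans ?_
      rw [commutator_comm]
      have hDn : D ≤ normalizer ((D ⊓ Q : Subgroup G) : Set G) :=
        le_normalizer_inf Subgroup.le_normalizer hcomm
      apply commutator_sup_le
      · exact (commutator_le_right_of_le_normalizer (hQH.trans hHH₁')).trans le_sup_left
      · refine le_trans (le_inf ?_ ?_) le_sup_right
        · exact commutator_le_right_of_le_normalizer (hQH.trans hHD)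
        · exact commutator_le_left_of_le_normalizer hcomm
      · exact le_sup_left.trans Subgroup.le_normalizer
      · exact le_normalizer_sup (hDH.trans hHH₁') hDn
    exact le_of_le_sup_pGroup hres hQ.to_inf_right ((inf_le_left.trans hDH).trans hHH₁') h6
  have hPDK₁ : PD ≤ normalizer (K₁ : Set G) := ((pCoreOf_le D).trans hDH₁).trans hH₁K₁
  have hK₁H₂ : ⁅K₁, H₂⁆ ≤ PD := (commutator_mono hc le_rfl).trans h3
  -- (d)
  have hd : H ≤ normalizer (K₁ : Set G) := by
    rw [← hprod]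
    apply sup_le hH₁K₁
    apply le_normalizer_of_cj_le
    intro x hx
    have h7 : cj x K₁ ≤ K₁ ⊔ PD := by
      have := cj_le_sup_commutator (B := K₁) (V := K₁) (X := H₂) le_rfl hx
      refine this.trans ?_
      rw [sup_comm]
      exact sup_le_sup_left hK₁H₂ K₁
    apply le_of_le_sup_pGroup _ hPDp hPDK₁ h7
    rw [← cj_pResOf, hres]
  -- (b)
  have hb : ⁅K₁, H₁⁆ = K₁ := by
    apply le_antisymm (commutator_le_left_of_le_normalizer hH₁K₁)
    set X := ⁅K₁, H₁⁆ with hX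
    have hHX : H ≤ normalizer (X : Set G) := le_normalizer_commutator hd hn₁
    have h8 : K₁ ≤ X ⊔ PD := by
      conv_lhs => rw [← ha]
      refine (commutator_mono le_rfl hQH).trans ?_
      rw [← hprod]
      apply commutator_sup_le le_sup_left (hK₁H₂.trans le_sup_right)
      · exact h₁.trans (le_normalizer_sup hHX hHPD)
      · exact h₂.trans (le_normalizer_sup hHX hHPD)
    exact le_of_le_sup_pGroup hres hPDp (((pCoreOf_le D).trans hDH).trans hHX) h8
  refine ⟨ha, hb, hc, hd, hK₁H₁, hres, h3.trans hPDH, ?_⟩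
  have : Q ⊔ K₁ = L₁ := by rw [hK₁]; exact sup_pResOf_eq_of_ncl_eq hL₁L₁
  rw [this]
  exact hH₁L₁

end Finite

end Cfsg.Agent.Lib.Helper47
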