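import Cfsg.Agent.Lib.Helper47.Frat2

set_option autoImplicit false
open Cfsg Subgroup
open scoped Pointwise commutatorElement

namespace Cfsg.Agent.Lib.Helper47

variable {G : Type*} [Group G] {p : ℕ}

theorem le_normalizer_of_normal {N : Subgroup G} (hN : N.Normal) (X : Subgroup G) :
    X ≤ normalizer (N : Set G) := by
  rw [normalizer_eq_top_iff.mpr hN]; exact le_top

section Finite
variable [Finite G] [hp : Fact p.Prime]

theorem isSylowIn_sup_of_sup_eq {N O P D : Subgroup G} (hO : IsSylowIn p O N)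
    (hOD : D ≤ normalizer (O : Set G)) (hND : D ≤ normalizer (N : Set G)) (hP : IsPGroup p P)
    (hsup : N ⊔ P = D) : IsSylowIn p (O ⊔ P) D := by
  have hPD : P ≤ D := hsup ▸ le_sup_right
  have hNleD : N ≤ D := hsup ▸ le_sup_left
  refine ⟨sup_le (hO.le.trans hNleD) hPD, IsPGroup_sup hO.isPGroup hP (hPD.trans hOD),
    fun P₂ hP₂ h1 h2 => ?_⟩
  apply le_antisymm _ h1
  intro x hx
  have hxD : x ∈ N ⊔ P := hsup ▸ h2 hx
  obtain ⟨n, hn, y, hy, rfl⟩ := mem_sup_of_le_normalizer (hPD.trans hND) hxD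
  have hnP₂ : n ∈ P₂ := by
    have : n = (n * y) * y⁻¹ := by group
    rw [this]; exact mul_mem hx (inv_mem (h1 (mem_sup_right hy)))
  have h3 : P₂ ⊓ N = O :=
    hO.eq_of_le hP₂.to_inf_left (le_inf (le_sup_left.trans h1) hO.le) inf_le_right
  have : n ∈ O := h3 ▸ mem_inf.mpr ⟨hnP₂, hn⟩
  exact mul_mem (mem_sup_left this) (mem_sup_right hy)

/-- `G = N W`, `N` normal with normal Sylow `p`-subgroup `O`: every `p`-subgroup is conjugate into
`O W`. -/
theorem exists_le_cj_sup {N O Y W : Subgroup G} (hN : N.Normal) (hO : IsSylowIn p O N)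
    (hOn : O.Normal) (hY : IsPGroup p Y) (hW : N ⊔ W = ⊤) : ∃ d : G, Y ≤ cj d (O ⊔ W) := by
  have hNn := le_normalizer_of_normal hN
  set D₁ := N ⊔ Y with hD₁def
  set W₁ := D₁ ⊓ W with hW₁
  have hD₁ : N ⊔ W₁ = D₁ := by
    apply le_antisymm (sup_le le_sup_left inf_le_left)
    intro x hx
    have hx' : x ∈ N ⊔ W := hW ▸ mem_top x
    obtain ⟨n, hn, w, hw, rfl⟩ := mem_sup_of_le_normalizer (hNn W) hx'
    have hwD : w ∈ D₁ := by
      have : w = n⁻¹ * (n * w) := by group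
      rw [this]; exact mul_mem (inv_mem (mem_sup_left hn)) hx
    exact mul_mem (mem_sup_left hn) (mem_sup_right (mem_inf.mpr ⟨hwD, hw⟩))
  have hq : PQuot p D₁ N := PQuot_sup (hNn Y) hY
  obtain ⟨P, hP⟩ := exists_isSylowIn p W₁
  have h1 : (W₁ ⊓ N) ⊔ P = W₁ :=
    hP.sup_eq_of_PQuot inf_le_left (le_normalizer_inf Subgroup.le_normalizer (hNn _))
      (hq.mono_left inf_le_left).inf_right
  have h2 : N ⊔ P = D₁ := by
    apply le_antisymm (sup_le le_sup_left (hP.le.trans inf_le_left))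
    have h5 : N ⊔ W₁ ≤ N ⊔ P := by
      rw [← h1]
      exact sup_le le_sup_left (sup_le (inf_le_right.trans le_sup_left) le_sup_right)
    exact hD₁.symm.le.trans h5
  have h3 := isSylowIn_sup_of_sup_eq hO (le_normalizer_of_normal hOn D₁) (hNn D₁) hP.isPGroup h2
  obtain ⟨d, -, hd⟩ := h3.exists_conj_ge hY le_sup_right
  exact ⟨d, hd.trans (cj_mono (sup_le_sup_left (hP.le.trans inf_le_right) O))⟩

theorem IsMinimalOver.eq_top_of_sup_eq_top {Y M N O W : Subgroup G} (h : IsMinimalOver Y)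
    (hM : IsCoatom M) (hYM : Y ≤ M) (hY : IsPGroup p Y) (hN : N.Normal) (hNM : N ≤ M)
    (hO : IsSylowIn p O N) (hOn : O.Normal) (hW : N ⊔ W = ⊤) (hOW : O ≤ W) : W = ⊤ := by
  obtain ⟨d, hd⟩ := exists_le_cj_sup hN hO hOn hY hW
  rw [sup_eq_right.mpr hOW] at hd
  by_contra hne
  have h1 : cj d W ≠ ⊤ := fun h => hne (by
    have := congrArg (cj d⁻¹) h
    rwa [cj_inv_cj, cj_top] at this)
  have h2 : cj d W ≤ M := IsMinimalOver.le_of_ne_top h hM hYM hd h1
  have h3 : cj d (N ⊔ W) = ⊤ := by rw [hW, cj_top]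
  rw [cj_sup, Normal_cj hN] at h3
  exact hM.1 (top_le_iff.mp (h3 ▸ sup_le hNM h2))

theorem IsMinimalOver.sylow_inf_normal {Y M N T : Subgroup G} (h : IsMinimalOver Y)
    (hM : IsCoatom M) (hT : IsSylowIn p T M) (hYT : Y ≤ T) (hN : N.Normal) (hNM : N ≤ M) :
    IsSylowIn p (T ⊓ N) N ∧ (T ⊓ N).Normal := by
  have hNn := le_normalizer_of_normal hN
  have hS : IsSylowIn p (T ⊓ N) N := hT.inf_of_normal hNM (hNn M)
  refine ⟨hS, ?_⟩
  have h4 := hS.frattini_sup le_top (hNn ⊤)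
  rw [top_inf_eq] at h4
  have h5 : Y ≤ normalizer ((T ⊓ N : Subgroup G) : Set G) :=
    le_normalizer_inf (hYT.trans Subgroup.le_normalizer) (hNn Y)
  rw [← normalizer_eq_top_iff]
  by_contra hne
  have h6 := IsMinimalOver.le_of_ne_top h hM (hYT.trans hT.le) h5 hne
  exact hM.1 (top_le_iff.mp (h4 ▸ sup_le hNM h6))

theorem IsMinimalOver.sup_normal {Y M N O R : Subgroup G} {r : ℕ} [Fact r.Prime]
    (h : IsMinimalOver Y) (hM : IsCoatom M) (hYM : Y ≤ M) (hY : IsPGroup p Y) (hN : N.Normal)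
    (hNM : N ≤ M) (hO : IsSylowIn p O N) (hOn : O.Normal) (hR : IsSylowIn r R N) :
    (R ⊔ O).Normal := by
  have hNn := le_normalizer_of_normal hN
  rw [← normalizer_eq_top_iff]
  apply IsMinimalOver.eq_top_of_sup_eq_top h hM hYM hY hN hNM hO hOn
  · have h4 := hR.frattini_sup le_top (hNn ⊤)
    rw [top_inf_eq] at h4
    rw [eq_top_iff, ← h4]
    exact sup_le_sup_left (le_normalizer_sup le_rfl (le_normalizer_of_normal hOn _)) N
  · exact le_sup_right.trans Subgroup.le_normalizer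

theorem IsMinimalOver.pCore_le {Y M : Subgroup G} (h : IsMinimalOver Y) (hM : IsCoatom M)
    (hYM : Y ≤ M) (hY : IsPGroup p Y) : pCore p G ≤ M := by
  have hQn : (pCore p G).Normal := Helper47.pCore_normal
  by_cases htop : pCore p G ⊔ Y = ⊤
  · exfalso
    have h1 : IsPGroup p (pCore p G ⊔ Y : Subgroup G) :=
      IsPGroup_sup pCore_isPGroup hY (le_normalizer_of_normal hQn Y)
    rw [htop] at h1
    have h2 : IsPGroup p G := h1.of_equiv Subgroup.topEquiv
    have h3 : M.Normal := Cfsg.Agent.Lib.Helper1.IsPGroup.normal_of_isCoatom h2 hM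
    exact hM.1 (IsMinimalOver.eq_top_of_normal h h3 hYM)
  · exact le_sup_left.trans (IsMinimalOver.le_of_ne_top h hM hYM le_sup_right htop)

end Finite

end Cfsg.Agent.Lib.Helper47
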